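import Mathlib
import Cfsg.Prelude.Def_Classical
import Cfsg.Prelude.Def_GeometricClasses
import Cfsg.Agent.Lib.Helper37.HypStmt
import Cfsg.Agent.Lib.Helper94.OPStmt

/-!
# S5988 (call by helper45): statement pieces

`POmega^+_(2d)(q)`, ALL `q`, elliptic `m`-spaces (`m` even, `2 ≤ m < d`), ALL primes `r`.
Vocabulary of `Cfsg.Agent.Lib.Helper94.OPStmt` (`P d = Fin d ⊕ Fin d`, `NP`, `FxP`, `NDegP`,
`StabP`); these are definitionally the `J d`, `Fx`, `NDeg`, `Stab` of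
`Cfsg.Agent.Lib.Helper44.TPStmt` (helper44's S5973 call, ALL `q`), and `PlusP` below is its `Plus`,
so the landed all-`q` pieces of S5973 (`Top FixND Perp OrthSum SubPerp Cancel TypeEven HalfOdd InvDim
RImg FxType BlockFindE BlocksK TsIn TsHalf OddOmega EltDim`) apply verbatim.

For an isometry `x` with `x ^ r = 1` (`r` odd, `r ≠ p`), `f = dim Fix x`, `V = Fix x ⊥ N`,
`N` = sum of `s = (2d - f) / c` blocks of dimension `c`; an invariant nondegenerate `R` without
fixed vectors is of plus type if `i` is odd, and of type `(-1) ^ (dim R / i)` if `i` is even.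
An invariant elliptic `W` is `(W ⊓ Fix x) ⊥ R`, `dim R = j c`, `e = dim (W ⊓ Fix x) = m - j c`.
-/

set_option autoImplicit false

universe u

open scoped Matrix

namespace Cfsg.Agent.Lib.Helper45.EPStmt

open Cfsg.Agent.Lib.Helper37.HypStmt (cc)
open Cfsg.Agent.Lib.Helper94.OPStmt (P NP FxP NDegP StabP)

/-- `W` is of plus type (contains a totally singular subspace of half its dimension) -/
def PlusP (d : ℕ) (F : Type u) [Field F] (W : Submodule F (P d → F)) : Prop :=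
  Cfsg.Geo.IsPlusTypeOn (Cfsg.quadFormPlus d F) W

/-- `W` is an elliptic `m`-space -/
def MemE (d : ℕ) (F : Type u) [Field F] (m : ℕ) (W : Submodule F (P d → F)) : Prop :=
  Module.finrank F ↥W = m ∧
    Cfsg.Geo.IsNondegenerateOn (QuadraticMap.polar (Cfsg.quadFormPlus d F)) W ∧
    ¬ Cfsg.Geo.IsPlusTypeOn (Cfsg.quadFormPlus d F) W

/-! ## Geometry, all `q` -/

/-- SUBTYPE: a nondegenerate `U` contains nondegenerate subspaces of every even dimension
`e < dim U` of plus type, and elliptic ones if `2 ≤ e`.  (Plus: a totally singular `e/2`-space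
(`TPStmt.TsIn`) completed by hyperbolic pairs (`OTyp1.hyp_of_ts'`).  Elliptic: a hyperbolic
`(e-2)`-space `H`, and an anisotropic plane `A` in `H^⊥ ⊓ U` (nondegenerate of dimension `≥ 3`);
`H ⊔ A` is not of plus type by `TPStmt.Cancel`.) -/
def SubTypeE : Prop :=
  ∀ (F : Type u) [Field F] [Fintype F] (d e : ℕ) (U : Submodule F (P d → F)),
    NDegP d F U → Even e → e < Module.finrank F ↥U →
    (∃ W : Submodule F (P d → F), W ≤ U ∧ Module.finrank F ↥W = e ∧ NDegP d F W ∧ PlusP d F W) ∧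
    (2 ≤ e → ∃ W : Submodule F (P d → F), W ≤ U ∧ MemE d F e W)

/-- SPLITW: an invariant nondegenerate `W` is `(W ⊓ Fix x) ⊥ R` with `R` invariant, nondegenerate,
without fixed vectors (`R = (x - 1) W`; averaging projection `(1/r) Σ x^j`, as in FIXND). -/
def SplitE : Prop :=
  ∀ (F : Type u) [Field F] [Fintype F] (p : ℕ) [Fact p.Prime] [CharP F p]
    (d : ℕ) (r : ℕ) [Fact r.Prime], r ≠ p →
    ∀ x : Matrix.GeneralLinearGroup (P d) F, x ∈ Cfsg.isometryGroup F (Cfsg.quadFormPlus d F) →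
    x ^ r = 1 → ∀ W : Submodule F (P d → F), StabP (x : Matrix (P d) (P d) F) W → NDegP d F W →
    NDegP d F (W ⊓ FxP (x : Matrix (P d) (P d) F)) ∧
    ∃ R : Submodule F (P d → F), R ≤ W ∧ StabP (x : Matrix (P d) (P d) F) R ∧ NDegP d F R ∧
      R ⊓ FxP (x : Matrix (P d) (P d) F) = ⊥ ∧
      (∀ u ∈ R, ∀ v ∈ FxP (x : Matrix (P d) (P d) F),
        QuadraticMap.polar (Cfsg.quadFormPlus d F) u v = 0) ∧
      Module.finrank F ↥R + Module.finrank F ↥(W ⊓ FxP (x : Matrix (P d) (P d) F)) =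
        Module.finrank F ↥W ∧
      (W ⊓ FxP (x : Matrix (P d) (P d) F)) ⊔ R = W

/-- DIMOBSA (all `q`; for `q` odd this is the landed `OPStmt.DimObsP`): `c` divides
`dim W - dim (W ⊓ Fix x)`.  (SPLITW; `InvDim`; for `i` odd `HalfOdd` on `R`.) -/
def DimObsA : Prop :=
  ∀ (F : Type u) [Field F] [Fintype F] (p : ℕ) [Fact p.Prime] [CharP F p]
    (d : ℕ) (r : ℕ) [Fact r.Prime], r ≠ 2 → r ≠ p →
    ∀ x : Matrix.GeneralLinearGroup (P d) F, x ∈ Cfsg.isometryGroup F (Cfsg.quadFormPlus d F) →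
    x ^ r = 1 → ∀ W : Submodule F (P d → F), StabP (x : Matrix (P d) (P d) F) W → NDegP d F W →
    cc (orderOf ((Fintype.card F : ℕ) : ZMod r)) ∣
      Module.finrank F ↥W - Module.finrank F ↥(W ⊓ FxP (x : Matrix (P d) (P d) F))

/-- BLOCKSA (all `q`; for `q` odd this is the landed `OPStmt.BlocksP`): invariant nondegenerate
subspaces of dimension `j c` without fixed vectors, orthogonal to the fixed space.  (`i` even:
`TPStmt.BlocksK` + `OrthSum`; `i` odd: the char-free `Helper43.HypBFO.bfo` + `SubPerp` induction;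
or the abstract `Helper64.OMiBLOCKSM.blocks_abs`.) -/
def BlocksA : Prop :=
  ∀ (F : Type u) [Field F] [Fintype F] (p : ℕ) [Fact p.Prime] [CharP F p]
    (d : ℕ) (r : ℕ) [Fact r.Prime], r ≠ 2 → r ≠ p →
    ∀ x : Matrix.GeneralLinearGroup (P d) F, x ∈ Cfsg.isometryGroup F (Cfsg.quadFormPlus d F) →
    x ^ r = 1 → ∀ j : ℕ,
    j * cc (orderOf ((Fintype.card F : ℕ) : ZMod r)) +
      Module.finrank F ↥(FxP (x : Matrix (P d) (P d) F)) ≤ 2 * d →
    ∃ E : Submodule F (P d → F), StabP (x : Matrix (P d) (P d) F) E ∧ NDegP d F E ∧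
      Module.finrank F ↥E = j * cc (orderOf ((Fintype.card F : ℕ) : ZMod r)) ∧
      E ⊓ FxP (x : Matrix (P d) (P d) F) = ⊥ ∧
      ∀ u ∈ E, ∀ v ∈ FxP (x : Matrix (P d) (P d) F),
        QuadraticMap.polar (Cfsg.quadFormPlus d F) u v = 0

/-! ## Counting, all `q` -/

/-- FIXCONGE: fixed point congruence for `⟨x⟩`, `x ^ r = 1`, on the elliptic `m`-spaces
(port of `Helper4.GenCount.fixcong`; the isometry `x` permutes the elliptic `m`-spaces). -/
def FixCongE : Prop :=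
  ∀ (F : Type u) [Field F] [Fintype F] (d m : ℕ) (r : ℕ) [Fact r.Prime]
    (x : Matrix.GeneralLinearGroup (P d) F),
    x ∈ Cfsg.isometryGroup F (Cfsg.quadFormPlus d F) → x ^ r = 1 →
    Nat.card {W : Submodule F (P d → F) // MemE d F m W} ≡
      Nat.card {W : Submodule F (P d → F) //
        MemE d F m W ∧ StabP (x : Matrix (P d) (P d) F) W} [MOD r]

/-- UCARDE: for a nondegenerate `U` with `m < dim U < c`, `r` does not divide the number of
elliptic `m`-spaces inside `U`.  (They exist (SUBTYPE), are pairwise isometric (`OTyp1.exists_iso`),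
so form one orbit of the isometry group of `U` (Witt), which has no element of order `r` as
`dim U < c` (DIMOBSA-argument / `EllStmt.ACauchy`, `EllStmt.ACard` for `q` odd).) -/
def UCardE : Prop :=
  ∀ (F : Type u) [Field F] [Fintype F] (p : ℕ) [Fact p.Prime] [CharP F p]
    (d m : ℕ), 2 ≤ m → Even m → ∀ (r : ℕ) [Fact r.Prime], r ≠ 2 → r ≠ p →
    ∀ U : Submodule F (P d → F), NDegP d F U → m < Module.finrank F ↥U →
    Module.finrank F ↥U < cc (orderOf ((Fintype.card F : ℕ) : ZMod r)) →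
    ¬ r ∣ Nat.card {W : Submodule F (P d → F) // MemE d F m W ∧ W ≤ U}

/-! ## Odd `r ≠ p`: assembly pieces -/

/-- the arithmetic condition of S5988 for odd `r ≠ p` -/
def CondE (d m i : ℕ) : Prop :=
  (Odd i ∧ cc i ≤ m ∧ 0 < m % cc i ∧ m % cc i < (2 * d) % cc i) ∨
  (Even i ∧ (((2 * d) % cc i = 0 ∧ (Odd ((2 * d) / i) ∨ (m % cc i = 0 ∧ Odd (m / i)))) ∨
    (i ≤ m ∧ ((0 < m % cc i ∧ m % cc i < (2 * d) % cc i) ∨
      (0 < m % cc i ∧ m % cc i = (2 * d) % cc i ∧
        Odd ((2 * d + m - 2 * ((2 * d) % cc i)) / i)) ∨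
      (m % cc i = 0 ∧ 0 < (2 * d) % cc i ∧ Odd (m / i))))))

/-- what `r ∣ #Omega` gives -/
def AE (d m i : ℕ) : Prop :=
  cc i ≤ 2 * d ∧ (cc i ≤ m ∨ (2 * d) % cc i < m ∨
    ((2 * d) % cc i = m ∧ ¬ (Even i ∧ Odd ((2 * d) / cc i))))

/-- B1E: under `CondE` every isometry `y` with `y ^ r = 1` fixes an elliptic `m`-space.
(`f = dim Fix y ≡ k (mod c)`, `s = (2d - f) / c`, `m = μ c + ℓ'`.  Take `W = W_F ⊥ E`, `E` from
BLOCKSA with `j` blocks, `W_F ≤ Fix y` of dimension `e = m - j c` (SUBTYPE in `Fix y`, `FixND`);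
type of `E`: `HalfOdd` / `TypeEven`; `W` is elliptic by `Cancel` when the types of `W_F`, `E`
differ.  Choice of `e`: if `e* = m + f - 2d > 0` take `e = e*`, `j = s` (`0 < e* < f`, free type).
Else `μ ≤ s` and: `ℓ' > 0`, `ℓ' < f`: `e = ℓ'`; `ℓ' = 0`, `μ` odd (`i` even): `e = 0`, `W = E`;
`ℓ' = 0`, `c < f` or `m < f`: `e = c` resp. `e = m`; `e = f` (`i` even, `W_F = Fix y`, type by
`FxType`): needs `s - j` odd.) -/
def B1E : Prop :=
  ∀ (F : Type u) [Field F] [Fintype F] (p : ℕ) [Fact p.Prime] [CharP F p]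
    (d m : ℕ), 4 ≤ d → 2 ≤ m → Even m → m < d →
    ∀ (r : ℕ) [Fact r.Prime], r ≠ 2 → r ≠ p →
    CondE d m (orderOf ((Fintype.card F : ℕ) : ZMod r)) →
    ∀ y : Matrix.GeneralLinearGroup (P d) F,
    y ∈ Cfsg.isometryGroup F (Cfsg.quadFormPlus d F) → y ^ r = 1 →
    ∃ W : Submodule F (P d → F), MemE d F m W ∧ StabP (y : Matrix (P d) (P d) F) W

/-- B2E: if `CondE` fails and `AE` holds, some element of order `r` of `Omega^+` fixes no elliptic
`m`-space.  (`x` from `TPStmt.EltDim` with `b = (2d) / c` blocks, `dim Fix x = k = (2d) % c`; the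
type condition for `b c = 2 d` holds as `¬ CondE`.  A fixed elliptic `W`: `e = dim (W ⊓ Fix x) = ℓ'`
(DIMOBSA, `e ≤ k < c`), `W = (W ⊓ Fix x) ⊥ R` (SPLITW).  `i` odd: `R` plus (`HalfOdd`), so
`ℓ' > 0`, and `ℓ' = k` is impossible (`Fix x` plus by `FxType`).  `i` even: `ℓ' = 0`: `W = R`,
`m / i` odd (`TypeEven`); `ℓ' = k > 0`: `W^⊥ = R'` is invariant without fixed vectors of dimension
`2d - m`, `Plus W ↔ Plus R'` (`Cancel`, `Top`), so `(2d - m) / i` is odd.  In each case `CondE`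
holds or `AE` fails.) -/
def B2E : Prop :=
  ∀ (F : Type u) [Field F] [Fintype F] (p : ℕ) [Fact p.Prime] [CharP F p]
    (d m : ℕ), 4 ≤ d → 2 ≤ m → Even m → m < d →
    ∀ (r : ℕ) [Fact r.Prime], r ≠ 2 → r ≠ p →
    AE d m (orderOf ((Fintype.card F : ℕ) : ZMod r)) →
    ¬ CondE d m (orderOf ((Fintype.card F : ℕ) : ZMod r)) →
    ∃ x : Matrix.GeneralLinearGroup (P d) F,
      x ∈ Cfsg.Geo.omegaGL (Cfsg.quadFormPlus d F) ∧ orderOf x = r ∧
      ∀ W : Submodule F (P d → F), MemE d F m W → ¬ StabP (x : Matrix (P d) (P d) F) W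

/-- NDIVE: `r ∣ #Omega` gives `AE`.  (`c > 2d`: UCARDE with `U = ⊤`.  Else `x` from `EltDim` with
`dim Fix x = k`; if `m < c` and `m ≤ k`: the elliptic `m`-spaces fixed by `x` are those inside
`Fix x` (DIMOBSA), FIXCONGE; `m < k`: UCARDE with `U = Fix x` (`FixND`); `m = k`, `i` even,
`(2d) / c` odd: `Fix x` is elliptic (`FxType`), exactly one fixed member.) -/
def NDivE : Prop :=
  ∀ (F : Type u) [Field F] [Fintype F] (p : ℕ) [Fact p.Prime] [CharP F p]
    (d m : ℕ), 4 ≤ d → 2 ≤ m → Even m → m < d →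
    ∀ (r : ℕ) [Fact r.Prime], r ≠ 2 → r ≠ p →
    r ∣ Nat.card {W : Submodule F (P d → F) // MemE d F m W} →
    AE d m (orderOf ((Fintype.card F : ℕ) : ZMod r))

/-! ## `r = 2`, `q` odd -/

/-- INVOLE: an isometry with `x * x = 1` fixes an elliptic `m`-space (`m < d`): one eigenspace is
nondegenerate of dimension `≥ d > m` (`Helper66.InvolDec`), SUBTYPE inside it. -/
def InvolE : Prop :=
  ∀ (F : Type u) [Field F] [Fintype F], Odd (Fintype.card F) → ∀ (d m : ℕ), 2 ≤ m → Even m →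
    m < d → ∀ x : Matrix.GeneralLinearGroup (P d) F,
    x ∈ Cfsg.isometryGroup F (Cfsg.quadFormPlus d F) →
    (x : Matrix (P d) (P d) F) * (x : Matrix (P d) (P d) F) = 1 →
    ∃ W : Submodule F (P d → F), MemE d F m W ∧ StabP (x : Matrix (P d) (P d) F) W

/-- NEGSQFIXA: `q ≡ 1 (mod 4)`, `x * x = -1`: every invariant nondegenerate `W` is of plus type
(`W` is the sum of its intersections with the two eigenspaces, both totally singular). -/
def NegSqFixA : Prop :=
  ∀ (F : Type u) [Field F] [Fintype F], Fintype.card F % 4 = 1 → ∀ (d : ℕ)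
    (x : Matrix.GeneralLinearGroup (P d) F),
    x ∈ Cfsg.isometryGroup F (Cfsg.quadFormPlus d F) →
    (x : Matrix (P d) (P d) F) * (x : Matrix (P d) (P d) F) = -1 →
    ∀ W : Submodule F (P d → F), NDegP d F W → StabP (x : Matrix (P d) (P d) F) W → PlusP d F W

/-- NEGSQFIXB1: `q ≡ 3 (mod 4)`, `x * x = -1`: an invariant nondegenerate `W` with
`dim W ≡ 0 (mod 4)` is of plus type.  (`W` is an orthogonal sum of planes `⟨v, x v⟩`, `Q (x v) = Q v`,
`v ⊥ x v`; for two such planes on `v, w`: `u = v + a w + b x w` with `(a² + b²) Q w = - Q v` is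
singular and `⟨u, x u⟩` is totally singular.  Or: Gram determinant of `W` is a square
(`Helper2.NegSqGen`).) -/
def NegSqFixB1 : Prop :=
  ∀ (F : Type u) [Field F] [Fintype F], Fintype.card F % 4 = 3 → ∀ (d : ℕ)
    (x : Matrix.GeneralLinearGroup (P d) F),
    x ∈ Cfsg.isometryGroup F (Cfsg.quadFormPlus d F) →
    (x : Matrix (P d) (P d) F) * (x : Matrix (P d) (P d) F) = -1 →
    ∀ W : Submodule F (P d → F), NDegP d F W → StabP (x : Matrix (P d) (P d) F) W →
    Module.finrank F ↥W % 4 = 0 → PlusP d F W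

/-- NEGSQFIXB2: `q ≡ 3 (mod 4)`, `x * x = -1`, `m ≡ 2 (mod 4)`, `m ≤ 2 d`: `x` fixes an elliptic
`m`-space (an orthogonal sum of `m / 2` planes `⟨v, x v⟩`, each anisotropic as `-1` is a
nonsquare; `W = W' ⊥ ⟨v, x v⟩` with `W'` of plus type (NEGSQFIXB1) is elliptic by `Cancel`). -/
def NegSqFixB2 : Prop :=
  ∀ (F : Type u) [Field F] [Fintype F], Fintype.card F % 4 = 3 → ∀ (d m : ℕ), m % 4 = 2 →
    m ≤ 2 * d → ∀ x : Matrix.GeneralLinearGroup (P d) F,
    x ∈ Cfsg.isometryGroup F (Cfsg.quadFormPlus d F) →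
    (x : Matrix (P d) (P d) F) * (x : Matrix (P d) (P d) F) = -1 →
    ∃ W : Submodule F (P d → F), MemE d F m W ∧ StabP (x : Matrix (P d) (P d) F) W

/-! ## `r = p` -/

/-- QNZERO: `q` odd, `(x - 1) V ≤ Fix x`: `Q` vanishes on `(x - 1) V`
(`(x - 1) V ⊥ Fix x`, so `B (u, u) = 0` for `u ∈ (x - 1) V`). -/
def QNZero : Prop :=
  ∀ (F : Type u) [Field F] [Fintype F], Odd (Fintype.card F) → ∀ (d : ℕ)
    (x : Matrix.GeneralLinearGroup (P d) F),
    x ∈ Cfsg.isometryGroup F (Cfsg.quadFormPlus d F) →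
    LinearMap.range (NP (x : Matrix (P d) (P d) F)) ≤ FxP (x : Matrix (P d) (P d) F) →
    ∀ v, Cfsg.quadFormPlus d F (NP (x : Matrix (P d) (P d) F) v) = 0

/-- PELTE2: characteristic `2`: a Siegel involution `x = [[1, S], [0, 1]]` (`S` alternating with
zero diagonal, of rank `ρ`) in `Omega^+`: `x * x = 1`, not scalar, `(x - 1) V ≤ Fix x`, `Q = 0` on
`(x - 1) V`, `dim (x - 1) V = ρ`.  (In `Omega^+` = commutator subgroup: with `g = diag (A, A⁻ᵀ)`,
`[g, s(S')] = s(A S' Aᵀ - S')`; for `A = 1 + E_(b c)`, `S' = e_a ∧ e_c`: `s(e_a ∧ e_b)`; `s(S)` is a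
product of such, `d ≥ 3`.  Or `Der3.mem_omegaGL_iff` / `OMat.mem_omega_iff` as in `TPStmt.OddOmega`.) -/
def PEltE2 : Prop :=
  ∀ (F : Type u) [Field F] [Fintype F] [CharP F 2] (d ρ : ℕ), 3 ≤ d → Even ρ → 2 ≤ ρ → ρ ≤ d →
    ∃ x : Matrix.GeneralLinearGroup (P d) F,
      x ∈ Cfsg.Geo.omegaGL (Cfsg.quadFormPlus d F) ∧
      (x : Matrix (P d) (P d) F) * (x : Matrix (P d) (P d) F) = 1 ∧
      (∀ z : F, (x : Matrix (P d) (P d) F) ≠ z • (1 : Matrix (P d) (P d) F)) ∧
      LinearMap.range (NP (x : Matrix (P d) (P d) F)) ≤ FxP (x : Matrix (P d) (P d) F) ∧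
      (∀ v, Cfsg.quadFormPlus d F (NP (x : Matrix (P d) (P d) F) v) = 0) ∧
      Module.finrank F ↥(LinearMap.range (NP (x : Matrix (P d) (P d) F))) = ρ

/-- PFIXE (all `q`): an isometry `x` with `(x - 1) V ≤ Fix x`, `Q = 0` on `(x - 1) V` and
`dim (x - 1) V = d`, or `= d - 1` with `d` odd: every invariant nondegenerate `W` of even dimension
is of plus type.  (`N = x - 1`; `B (v, N v) = - Q (N v) = 0`, so `(u, v) ↦ B (u, N v)` is
alternating on `W` with radical `ker N ⊓ W`: `ρ_W = dim N W` is even (`Helper40.AltRank`), `N W` is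
totally singular, `N W ≤ ker N ⊓ W`, so `2 ρ_W ≤ dim W`; the same on `U = W^⊥` (`TPStmt.Perp`),
`ρ_W + ρ_U = dim N V`.  `dim N V = d`: `2 ρ_W = dim W`.  `dim N V = d - 1`, `d` odd: `2 ρ_W = dim W`
(if `dim W / 2` is even), or `2 ρ_U = dim U`, `U` plus, `W` plus by `TPStmt.Cancel` + `Top`.) -/
def PFixE : Prop :=
  ∀ (F : Type u) [Field F] [Fintype F] (d : ℕ), 1 ≤ d →
    ∀ x : Matrix.GeneralLinearGroup (P d) F,
    x ∈ Cfsg.isometryGroup F (Cfsg.quadFormPlus d F) →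
    LinearMap.range (NP (x : Matrix (P d) (P d) F)) ≤ FxP (x : Matrix (P d) (P d) F) →
    (∀ v, Cfsg.quadFormPlus d F (NP (x : Matrix (P d) (P d) F) v) = 0) →
    (Module.finrank F ↥(LinearMap.range (NP (x : Matrix (P d) (P d) F))) = d ∨
      (Odd d ∧ Module.finrank F ↥(LinearMap.range (NP (x : Matrix (P d) (P d) F))) = d - 1)) →
    ∀ W : Submodule F (P d → F), NDegP d F W → StabP (x : Matrix (P d) (P d) F) W →
    Even (Module.finrank F ↥W) → PlusP d F W

end Cfsg.Agent.Lib.Helper45.EPStmt
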