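import Mathlib
import Cfsg.Agent.S3224

set_option autoImplicit false

/-! A group of order 8 containing two distinct commuting conjugate involutions is dihedral. -/

namespace Cfsg.Agent.Lib.Helper45.D8

universe u

variable {G : Type u} [Group G]

theorem comm_of_sq_one (h : ∀ a : G, a * a = 1) (a b : G) : a * b = b * a := by
  have h1 := h (a * b)
  have ha : a⁻¹ = a := inv_eq_of_mul_eq_one_left (h a)
  have hb : b⁻¹ = b := inv_eq_of_mul_eq_one_left (h b)
  calc a * b = (a * b)⁻¹ := (inv_eq_of_mul_eq_one_left h1).symm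
    _ = b⁻¹ * a⁻¹ := mul_inv_rev a b
    _ = b * a := by rw [ha, hb]

/-- Elements of `⟨a⟩` for `a` of order 4. -/
theorem mem_zpowers_four [Finite G] {a x : G} (ha : orderOf a = 4) (hx : x ∈ Subgroup.zpowers a) :
    x = 1 ∨ x = a ∨ x = a ^ 2 ∨ x = a ^ 3 := by
  classical
  rw [mem_zpowers_iff_mem_range_orderOf, ha] at hx
  simp only [Finset.mem_image, Finset.mem_range] at hx
  obtain ⟨k, hk, rfl⟩ := hx
  interval_cases k
  · left; exact pow_zero a
  · right; left; exact pow_one a
  · right; right; left; rfl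
  · right; right; right; rfl

theorem d4_of_card_eight [Finite G] (h8 : Nat.card G = 8) (x y d : G) (hx : x * x = 1)
    (hxy : x ≠ y) (hcomm : x * y = y * x) (hd : d * x * d⁻¹ = y) :
    Nonempty (G ≃* DihedralGroup 4) := by
  have hy : y * y = 1 := by
    rw [← hd]
    calc d * x * d⁻¹ * (d * x * d⁻¹) = d * (x * x) * d⁻¹ := by group
      _ = 1 := by rw [hx, mul_one, mul_inv_cancel]
  have hx1 : x ≠ 1 := by
    rintro rfl
    apply hxy
    rw [← hd]; group
  have hy1 : y ≠ 1 := by
    rintro rfl
    apply hx1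
    have : x = d⁻¹ * (d * x * d⁻¹) * d := by group
    rw [this, hd]; group
  have hnc : ¬ ∀ a b : G, a * b = b * a := by
    intro h
    apply hxy
    rw [← hd, h d x, mul_inv_cancel_right]
  -- an element of order 4
  obtain ⟨a, ha⟩ : ∃ a : G, orderOf a = 4 := by
    by_contra hno
    push Not at hno
    apply hnc
    apply comm_of_sq_one
    intro a
    have hdvd : orderOf a ∣ 2 ^ 3 := by
      have := orderOf_dvd_natCard a
      rw [h8] at this
      exact this
    obtain ⟨m, hm, hma⟩ := (Nat.dvd_prime_pow Nat.prime_two).mp hdvd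
    have hm2 : m ≤ 1 := by
      by_contra hm2
      have hm3 : m = 2 ∨ m = 3 := by omega
      rcases hm3 with rfl | rfl
      · exact hno a hma
      · apply hno (a ^ 2)
        rw [orderOf_pow' a (by norm_num), hma]
        rfl
    have : orderOf a ∣ 2 := by
      rw [hma]
      interval_cases m
      · norm_num
      · norm_num
    rw [← pow_two]
    exact orderOf_dvd_iff_pow_eq_one.mp this
  have ha4 : a ^ 4 = 1 := by rw [← ha]; exact pow_orderOf_eq_one a
  have ha1 : a ≠ 1 := by
    rintro rfl
    rw [orderOf_one] at ha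
    omega
  have ha2 : a ^ 2 ≠ 1 := by
    intro h
    have := orderOf_dvd_of_pow_eq_one h
    rw [ha] at this
    omega
  have hA4 : Nat.card (Subgroup.zpowers a) = 4 := by rw [Nat.card_zpowers, ha]
  have hAidx : (Subgroup.zpowers a).index = 2 := by
    have := Subgroup.card_mul_index (Subgroup.zpowers a)
    rw [hA4, h8] at this
    omega
  have hAn : (Subgroup.zpowers a).Normal := Subgroup.normal_of_index_eq_two hAidx
  -- an involution outside `⟨a⟩`
  have hinv : ∀ z : G, z * z = 1 → z ≠ 1 → z ∈ Subgroup.zpowers a → z = a ^ 2 := by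
    intro z hz hz1 hzA
    rcases mem_zpowers_four ha hzA with h | h | h | h
    · exact absurd h hz1
    · exfalso
      rw [h, ← pow_two] at hz
      exact ha2 hz
    · exact h
    · exfalso
      rw [h] at hz
      apply ha2
      have h6 : a ^ 3 * a ^ 3 = a ^ 4 * a ^ 2 := by rw [← pow_add, ← pow_add]
      rw [h6, ha4, one_mul] at hz
      exact hz
  obtain ⟨t, ht, htA⟩ : ∃ t : G, t * t = 1 ∧ t ∉ Subgroup.zpowers a := by
    by_cases hxA : x ∈ Subgroup.zpowers a
    · by_cases hyA : y ∈ Subgroup.zpowers a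
      · exfalso
        apply hxy
        rw [hinv x hx hx1 hxA, hinv y hy hy1 hyA]
      · exact ⟨y, hy, hyA⟩
    · exact ⟨x, hx, hxA⟩
  have htinv : t⁻¹ = t := inv_eq_of_mul_eq_one_left ht
  have hconjA : t * a * t⁻¹ ∈ Subgroup.zpowers a :=
    hAn.conj_mem a (Subgroup.mem_zpowers a) t
  have hc1 : t * a * t⁻¹ ≠ 1 := by
    intro h
    apply ha1
    have : a = t⁻¹ * (t * a * t⁻¹) * t := by group
    rw [this, h]; group
  have hc2 : (t * a * t⁻¹) ^ 2 ≠ 1 := by
    intro h
    rw [conj_pow] at h
    apply ha2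
    have : a ^ 2 = t⁻¹ * (t * a ^ 2 * t⁻¹) * t := by group
    rw [this, h]; group
  rcases mem_zpowers_four ha hconjA with h | h | h | h
  · exact absurd h hc1
  · -- `t` commutes with `a`: the group would be abelian
    exfalso
    apply hnc
    have hta : Commute t a := by
      have : t * a = a * t := by
        calc t * a = (t * a * t⁻¹) * t := by group
          _ = a * t := by rw [h]
      exact this
    have hall : ∀ g : G, ∃ i : ℕ, g = a ^ i ∨ g = a ^ i * t := by
      intro g
      by_cases hg : g ∈ Subgroup.zpowers a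
      · rcases mem_zpowers_four ha hg with h' | h' | h' | h'
        · exact ⟨0, Or.inl (by rw [h', pow_zero])⟩
        · exact ⟨1, Or.inl (by rw [h', pow_one])⟩
        · exact ⟨2, Or.inl h'⟩
        · exact ⟨3, Or.inl h'⟩
      · have hgt : g * t ∈ Subgroup.zpowers a :=
          (Subgroup.mul_mem_iff_of_index_two hAidx).mpr ⟨fun h' => absurd h' hg, fun h' => absurd h' htA⟩
        have hgeq : g = (g * t) * t := by rw [mul_assoc, ht, mul_one]
        rcases mem_zpowers_four ha hgt with h' | h' | h' | h'
        · exact ⟨0, Or.inr (by rw [pow_zero, ← h', ← hgeq])⟩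
        · exact ⟨1, Or.inr (by rw [pow_one, ← h', ← hgeq])⟩
        · exact ⟨2, Or.inr (by rw [← h', ← hgeq])⟩
        · exact ⟨3, Or.inr (by rw [← h', ← hgeq])⟩
    intro g g'
    obtain ⟨i, hi⟩ := hall g
    obtain ⟨j, hj⟩ := hall g'
    have c1 : Commute (a ^ i) (a ^ j) := (Commute.refl a).pow_pow i j
    have c2 : Commute (a ^ i) t := (hta.symm).pow_left i
    have c3 : Commute (a ^ j) t := (hta.symm).pow_left j
    rcases hi with rfl | rfl <;> rcases hj with rfl | rfl
    · exact c1
    · exact (c1.mul_right c2 : Commute (a ^ i) (a ^ j * t))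
    · exact ((c1.symm.mul_right c3).symm : Commute (a ^ i * t) (a ^ j))
    · have : Commute (a ^ i * t) (a ^ j * t) :=
        (c1.mul_right c2).mul_left ((c3.symm).mul_right (Commute.refl t))
      exact this
  · exfalso
    apply hc2
    rw [h, ← pow_mul]
    exact ha4
  · -- dihedral
    have hinva : a ^ 3 = a⁻¹ := by
      apply eq_inv_of_mul_eq_one_left
      rw [← pow_succ]
      exact ha4
    exact Cfsg.Agent.S3224.dihedral_iso a t 4 ha (by norm_num) (by rw [h8]) ht htA (by rw [h, hinva])

end Cfsg.Agent.Lib.Helper45.D8
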