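import Mathlib
import Cfsg.Agent.Lib.Helper45.OmegaAut
import Cfsg.Agent.Lib.Helper45.OmegaCenter

set_option autoImplicit false

/-! The kernel of the action of the similarity group on `PΩ(Q)` (odd characteristic, dimension at
least 5) consists of the scalar matrices. -/

namespace Cfsg.Agent.Lib.Helper45.OmegaAutKer

open Module QuadraticMap Matrix
open Cfsg.Agent.Lib.Helper44.QSpace Cfsg.Agent.Lib.Helper44.OGroup
open Cfsg.Agent.Lib.Helper44.OMat Cfsg.Agent.Lib.Helper44.OMat2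
open Cfsg.Agent.Lib.Helper45.OCenter Cfsg.Agent.Lib.Helper45.OmegaCenter
open Cfsg.Agent.Lib.Helper45.OmegaAut

universe u

variable {F : Type u} [Field F] {ι : Type} [Fintype ι] [DecidableEq ι]

theorem polar_sim (Q : QuadraticForm F (ι → F)) {M : Matrix ι ι F} {c : F}
    (hc : ∀ v, Q (M *ᵥ v) = c * Q v) (x y : ι → F) :
    polar Q (M *ᵥ x) (M *ᵥ y) = c * polar Q x y := by
  unfold polar
  rw [← Matrix.mulVec_add, hc, hc, hc]; ring

/-- A similarity conjugates reflections to reflections. -/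
theorem sim_reflE (Q : QuadraticForm F (ι → F)) {M : Matrix ι ι F} {c : F} (hc0 : c ≠ 0)
    (hc : ∀ v, Q (M *ᵥ v) = c * Q v) (u x : ι → F) :
    M *ᵥ (reflE Q u x) = reflE Q (M *ᵥ u) (M *ᵥ x) := by
  rw [reflE_apply, reflE_apply, Matrix.mulVec_sub, Matrix.mulVec_smul, hc u, polar_sim Q hc]
  congr 2
  by_cases hu : Q u = 0
  · simp [hu]
  · field_simp

/-- If a similarity commutes up to sign with `r_u r_w`, it commutes with it (dimension ≥ 5). -/
theorem comm_of_pm (h2 : (2 : F) ≠ 0) (Q : QuadraticForm F (ι → F))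
    (hn : 5 ≤ Fintype.card ι) (g : GL ι F) {u w : ι → F}
    (hpm : (∀ x, (g : Matrix ι ι F) *ᵥ (reflE Q u (reflE Q w x))
        = reflE Q u (reflE Q w ((g : Matrix ι ι F) *ᵥ x))) ∨
      (∀ x, (g : Matrix ι ι F) *ᵥ (reflE Q u (reflE Q w x))
        = -(reflE Q u (reflE Q w ((g : Matrix ι ι F) *ᵥ x))))) :
    ∀ x, (g : Matrix ι ι F) *ᵥ (reflE Q u (reflE Q w x))
        = reflE Q u (reflE Q w ((g : Matrix ι ι F) *ᵥ x)) := by
  rcases hpm with h | h
  · exact h
  · exfalso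
    let f1 : (ι → F) →ₗ[F] F := (polarBilin Q).flip u
    let f2 : (ι → F) →ₗ[F] F := (polarBilin Q).flip w
    let G : (ι → F) →ₗ[F] (ι → F) := Matrix.mulVecLin (g : Matrix ι ι F)
    let L : (ι → F) →ₗ[F] (Fin 4 → F) := LinearMap.pi ![f1, f2, f1.comp G, f2.comp G]
    have hker : LinearMap.ker L ≠ ⊥ := by
      apply LinearMap.ker_ne_bot_of_finrank_lt
      rw [Module.finrank_fintype_fun_eq_card, Module.finrank_fintype_fun_eq_card, Fintype.card_fin]
      omega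
    obtain ⟨x, hx, hx0⟩ := (Submodule.ne_bot_iff _).mp hker
    rw [LinearMap.mem_ker] at hx
    have e1 : polar Q x u = 0 := congrFun hx 0
    have e2 : polar Q x w = 0 := congrFun hx 1
    have e3 : polar Q ((g : Matrix ι ι F) *ᵥ x) u = 0 := congrFun hx 2
    have e4 : polar Q ((g : Matrix ι ι F) *ᵥ x) w = 0 := congrFun hx 3
    have h1 := h x
    rw [reflE_of_orth e2, reflE_of_orth e1, reflE_of_orth e4, reflE_of_orth e3] at h1
    have h3 : (2 : F) • ((g : Matrix ι ι F) *ᵥ x) = 0 := by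
      rw [two_smul]
      nth_rewrite 1 [h1]
      exact neg_add_cancel _
    have h4 : (g : Matrix ι ι F) *ᵥ x = 0 := (smul_eq_zero.mp h3).resolve_left h2
    apply hx0
    have h5 := congrArg (fun t => ((g⁻¹ : GL ι F) : Matrix ι ι F) *ᵥ t) h4
    simp only [Matrix.mulVec_mulVec, Matrix.mulVec_zero] at h5
    rw [← Units.val_mul, inv_mul_cancel, Units.val_one, Matrix.one_mulVec] at h5
    exact h5

variable [Fintype F]

/-- The matrix of `r_u r_w` as an element of `Ω` (for `Q u = Q w ≠ 0`). -/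
theorem exists_omega_refl_mul (h2 : (2 : F) ≠ 0) (Q : QuadraticForm F (ι → F)) {u w : ι → F}
    (hu : Q u ≠ 0) (hw : Q w = Q u) :
    ∃ s : ↥(Cfsg.Omega F ⇑Q), ∀ x,
      (((s : ↥(Cfsg.isometryGroup F ⇑Q)) : GL ι F) : Matrix ι ι F) *ᵥ x
        = reflE Q u (reflE Q w x) := by
  have hmem := refl_mul_refl_mem_commutator h2 hu (hw ▸ hu) ⟨Q u, by rw [hw]⟩
  have hs : (isoEquiv Q).symm (refl Q u * refl Q w) ∈ Cfsg.Omega F ⇑Q := by
    rw [mem_omega_iff, MulEquiv.apply_symm_apply]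
    exact hmem
  refine ⟨⟨_, hs⟩, fun x => ?_⟩
  rw [isoEquiv_symm_mulVec]
  rfl

/-- **Kernel of `Phi`**: a similarity acting trivially on `PΩ` is a scalar. -/
theorem scalar_of_Phi_eq_one (h2 : (2 : F) ≠ 0) (Q : QuadraticForm F (ι → F)) (hS : Sep Q)
    (hn : 5 ≤ Fintype.card ι) (g : ↥(Cfsg.Geo.quadSimilarityGroup (F := F) ⇑Q))
    (hg : Phi ⇑Q g = 1) : ∃ c : F, ∀ x, ((g : GL ι F) : Matrix ι ι F) *ᵥ x = c • x := by
  have key : ∀ u w, Q u ≠ 0 → Q w = Q u → ∀ x,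
      (Matrix.mulVecLin ((g : GL ι F) : Matrix ι ι F)) (reflE Q u (reflE Q w x))
        = reflE Q u (reflE Q w ((Matrix.mulVecLin ((g : GL ι F) : Matrix ι ι F)) x)) := by
    intro u w hu hw
    obtain ⟨s, hs⟩ := exists_omega_refl_mul h2 Q hu hw
    have h1 := congrArg (fun β : MulAut (Cfsg.POmega F ⇑Q) => β (QuotientGroup.mk s)) hg
    simp only [MulAut.one_apply] at h1
    rw [Phi_mk] at h1
    have h3 := QuotientGroup.eq.mp h1
    have hz := centralizer_odd h2 Q hS (by omega) _ (center_centralizes _ _ h3)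
    have hmat : ((((cjΩ ⇑Q g s : ↥(Cfsg.Omega F ⇑Q)) : ↥(Cfsg.isometryGroup F ⇑Q)) : GL ι F)
        : Matrix ι ι F) * ((g : GL ι F) : Matrix ι ι F)
        = ((g : GL ι F) : Matrix ι ι F)
          * (((s : ↥(Cfsg.isometryGroup F ⇑Q)) : GL ι F) : Matrix ι ι F) := by
      rw [cjΩ_coe, ← Units.val_mul, ← Units.val_mul]
      congr 1
      group
    have hz' : (((((cjΩ ⇑Q g s)⁻¹ * s : ↥(Cfsg.Omega F ⇑Q)) : ↥(Cfsg.isometryGroup F ⇑Q)) : GL ι F)
        : Matrix ι ι F)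
        = ((((cjΩ ⇑Q g s : ↥(Cfsg.Omega F ⇑Q)) : ↥(Cfsg.isometryGroup F ⇑Q)) : GL ι F)⁻¹
            : GL ι F) * (((s : ↥(Cfsg.isometryGroup F ⇑Q)) : GL ι F) : Matrix ι ι F) := by
      rfl
    set C : GL ι F := (((cjΩ ⇑Q g s : ↥(Cfsg.Omega F ⇑Q)) : ↥(Cfsg.isometryGroup F ⇑Q)) : GL ι F)
      with hC
    set S : GL ι F := ((s : ↥(Cfsg.isometryGroup F ⇑Q)) : GL ι F) with hSdef
    have hSC : (S : Matrix ι ι F) = (C : Matrix ι ι F) * ((C⁻¹ * S : GL ι F) : Matrix ι ι F) := by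
      rw [← Units.val_mul, mul_inv_cancel_left]
    have hpm : (S : Matrix ι ι F) = (C : Matrix ι ι F) ∨ (S : Matrix ι ι F) = -(C : Matrix ι ι F) := by
      have hz2 : ((C⁻¹ * S : GL ι F) : Matrix ι ι F) = 1
          ∨ ((C⁻¹ * S : GL ι F) : Matrix ι ι F) = -1 := hz
      rcases hz2 with h | h
      · left; rw [hSC, h, Matrix.mul_one]
      · right; rw [hSC, h, Matrix.mul_neg, Matrix.mul_one]
    apply comm_of_pm h2 Q hn (g : GL ι F)
    rcases hpm with h | h
    · left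
      intro x
      rw [← hs, ← hs, Matrix.mulVec_mulVec, Matrix.mulVec_mulVec, ← hmat, h]
    · right
      intro x
      rw [← hs, ← hs, Matrix.mulVec_mulVec, Matrix.mulVec_mulVec, ← hmat, h, Matrix.neg_mul,
        Matrix.neg_mulVec, neg_neg]
  obtain ⟨c, hc⟩ := scalar_odd h2 hS (by rw [Module.finrank_fintype_fun_eq_card]; omega)
    (Matrix.mulVecLin ((g : GL ι F) : Matrix ι ι F)) key
  exact ⟨c, fun x => hc x⟩

/-- Scalars act trivially on `PΩ`. -/
theorem Phi_eq_one_of_scalar (Q : (ι → F) → F) (g : ↥(Cfsg.Geo.quadSimilarityGroup (F := F) Q))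
    (c : F) (hc : ∀ x, ((g : GL ι F) : Matrix ι ι F) *ᵥ x = c • x) : Phi Q g = 1 := by
  have hM : ((g : GL ι F) : Matrix ι ι F) = c • (1 : Matrix ι ι F) := by
    apply Cfsg.Agent.Lib.Helper44.OMat.matrix_ext_mulVec
    intro x
    rw [hc, Matrix.smul_mulVec, Matrix.one_mulVec]
  apply MulEquiv.ext
  intro x
  induction x using QuotientGroup.induction_on with
  | H s =>
    rw [Phi_mk, MulAut.one_apply]
    congr 1
    apply Subtype.ext
    apply Subtype.ext
    rw [cjΩ_coe]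
    have hcomm : (g : GL ι F) * ((s : ↥(Cfsg.isometryGroup F Q)) : GL ι F)
        = ((s : ↥(Cfsg.isometryGroup F Q)) : GL ι F) * (g : GL ι F) := by
      apply Units.ext
      rw [Units.val_mul, Units.val_mul, hM, Matrix.smul_mul, Matrix.mul_smul, Matrix.one_mul,
        Matrix.mul_one]
    rw [hcomm, mul_inv_cancel_right]

end Cfsg.Agent.Lib.Helper45.OmegaAutKer
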