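import Mathlib
import Cfsg.Agent.Lib.Helper45.OmegaAutKer

set_option autoImplicit false

/-! The multiplier of a similarity, the relation `det² = μⁿ`, and the homomorphism
`ψ : GO(Q) → ℤ/2 × ℤ/2` whose kernel is `F^× · SO(Q)` (odd characteristic, even dimension). -/

namespace Cfsg.Agent.Lib.Helper45.OmegaAutPsi

open Module QuadraticMap Matrix
open Cfsg.Agent.Lib.Helper44.QSpace Cfsg.Agent.Lib.Helper44.OGroup
open Cfsg.Agent.Lib.Helper45.OmegaAut Cfsg.Agent.Lib.Helper45.OmegaAutKer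

universe u

variable {F : Type u} [Field F] {ι : Type} [Fintype ι] [DecidableEq ι]

section general

variable (Q : QuadraticForm F (ι → F))

/-- The multiplier of a similarity. -/
noncomputable def mu (g : ↥(Cfsg.Geo.quadSimilarityGroup (F := F) ⇑Q)) : Fˣ := Classical.choose g.2

theorem mu_spec (g : ↥(Cfsg.Geo.quadSimilarityGroup (F := F) ⇑Q)) (v : ι → F) :
    Q (((g : GL ι F) : Matrix ι ι F) *ᵥ v) = (mu Q g : F) * Q v := Classical.choose_spec g.2 v

theorem mu_unique {v₀ : ι → F} (hv₀ : Q v₀ ≠ 0)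
    (g : ↥(Cfsg.Geo.quadSimilarityGroup (F := F) ⇑Q)) (c : Fˣ)
    (hc : ∀ v, Q (((g : GL ι F) : Matrix ι ι F) *ᵥ v) = (c : F) * Q v) : mu Q g = c := by
  apply Units.ext
  have h := (mu_spec Q g v₀).symm.trans (hc v₀)
  exact mul_right_cancel₀ hv₀ h

/-- The multiplier as a homomorphism. -/
noncomputable def muHom {v₀ : ι → F} (hv₀ : Q v₀ ≠ 0) :
    ↥(Cfsg.Geo.quadSimilarityGroup (F := F) ⇑Q) →* Fˣ where
  toFun := mu Q
  map_one' := mu_unique Q hv₀ 1 1 (fun v => by simp)
  map_mul' g h := mu_unique Q hv₀ (g * h) (mu Q g * mu Q h) (fun v => by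
    rw [Subgroup.coe_mul, Units.val_mul, ← Matrix.mulVec_mulVec, mu_spec, mu_spec, Units.val_mul,
      mul_assoc])

theorem muHom_apply {v₀ : ι → F} (hv₀ : Q v₀ ≠ 0)
    (g : ↥(Cfsg.Geo.quadSimilarityGroup (F := F) ⇑Q)) : muHom Q hv₀ g = mu Q g := rfl

/-- `det(g)² = μ(g)ⁿ` for a similarity of a nondegenerate form. -/
theorem det_sq (hS : Sep Q) (g : ↥(Cfsg.Geo.quadSimilarityGroup (F := F) ⇑Q)) :
    ((g : GL ι F) : Matrix ι ι F).det ^ 2 = (mu Q g : F) ^ Fintype.card ι := by
  set M := ((g : GL ι F) : Matrix ι ι F) with hM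
  have hB : LinearMap.BilinForm.comp (polarBilin Q) (Matrix.toLin' M) (Matrix.toLin' M)
      = (mu Q g : F) • polarBilin Q := by
    apply LinearMap.ext
    intro x
    apply LinearMap.ext
    intro y
    show polar Q (Matrix.toLin' M x) (Matrix.toLin' M y) = (mu Q g : F) * polar Q x y
    rw [Matrix.toLin'_apply, Matrix.toLin'_apply]
    exact polar_sim Q (mu_spec Q g) x y
  have h1 := congrArg LinearMap.BilinForm.toMatrix' hB
  rw [LinearMap.BilinForm.toMatrix'_comp, LinearMap.toMatrix'_toLin', map_smul] at h1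
  have h2 := congrArg Matrix.det h1
  rw [Matrix.det_mul, Matrix.det_mul, Matrix.det_transpose, Matrix.det_smul] at h2
  have hdet : (LinearMap.BilinForm.toMatrix' (polarBilin Q)).det ≠ 0 := by
    rw [← Matrix.nondegenerate_iff_det_ne_zero]
    exact LinearMap.BilinForm.nondegenerate_toMatrix'_iff.mpr (nondegenerate_of_sep hS)
  have h3 : (M.det ^ 2 - (mu Q g : F) ^ Fintype.card ι)
      * (LinearMap.BilinForm.toMatrix' (polarBilin Q)).det = 0 := by
    linear_combination h2
  rcases mul_eq_zero.mp h3 with h | h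
  · exact sub_eq_zero.mp h
  · exact absurd h hdet

/-- Scalar matrices as elements of `GL`. -/
def sc : Fˣ →* GL ι F := Units.map (Matrix.scalar ι : F →+* Matrix ι ι F).toMonoidHom

theorem sc_mulVec (c : Fˣ) (x : ι → F) : ((sc c : GL ι F) : Matrix ι ι F) *ᵥ x = (c : F) • x := by
  show (Matrix.scalar ι (c : F)) *ᵥ x = (c : F) • x
  rw [Matrix.scalar_apply, ← Matrix.smul_one_eq_diagonal, Matrix.smul_mulVec, Matrix.one_mulVec]

theorem sc_mem (c : Fˣ) : (sc c : GL ι F) ∈ Cfsg.Geo.quadSimilarityGroup (F := F) ⇑Q :=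
  ⟨c * c, fun v => by rw [sc_mulVec, QuadraticMap.map_smul, Units.val_mul, smul_eq_mul]⟩

theorem det_sc (c : Fˣ) : ((sc c : GL ι F) : Matrix ι ι F).det = (c : F) ^ Fintype.card ι := by
  show (Matrix.scalar ι (c : F)).det = _
  rw [Matrix.scalar_apply, Matrix.det_diagonal, Finset.prod_const, Finset.card_univ]

end general

open Classical in
/-- A homomorphism with values `±1` gives a homomorphism to `ℤ/2`. -/
noncomputable def sgnHom {G : Type*} [Group G] (d : G →* Fˣ) (hd : ∀ g, d g = 1 ∨ d g = -1)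
    (h2 : (2 : F) ≠ 0) : G →* Multiplicative (ZMod 2) where
  toFun g := Multiplicative.ofAdd (if d g = 1 then 0 else 1)
  map_one' := by simp
  map_mul' g h := by
    have hne : (-1 : Fˣ) ≠ 1 := by
      intro h
      have h' := congrArg (fun t : Fˣ => (t : F)) h
      simp only [Units.val_neg, Units.val_one] at h'
      apply h2
      linear_combination -h'
    rcases hd g with hg | hg <;> rcases hd h with hh | hh
    · simp [hg, hh]
    · simp [hg, hh, hne]
    · simp [hg, hh, hne]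
    · simp only [map_mul, hg, hh, hne, if_false, neg_mul_neg, mul_one, if_true]
      rfl

open Classical in
theorem sgnHom_eq_one_iff {G : Type*} [Group G] (d : G →* Fˣ) (hd : ∀ g, d g = 1 ∨ d g = -1)
    (h2 : (2 : F) ≠ 0) (g : G) : sgnHom d hd h2 g = 1 ↔ d g = 1 := by
  show Multiplicative.ofAdd (if d g = 1 then (0 : ZMod 2) else 1) = 1 ↔ d g = 1
  by_cases h : d g = 1
  · simp [h]
  · simp only [h, if_false, iff_false]
    decide

/-- Pairing two homomorphisms to `ℤ/2`. -/
def prodHom {G : Type*} [Group G] (a b : G →* Multiplicative (ZMod 2)) :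
    G →* Multiplicative (ZMod 2 × ZMod 2) where
  toFun g := Multiplicative.ofAdd (Multiplicative.toAdd (a g), Multiplicative.toAdd (b g))
  map_one' := by simp
  map_mul' g h := by
    rw [a.map_mul, b.map_mul]
    rfl

theorem prodHom_eq_one_iff {G : Type*} [Group G] (a b : G →* Multiplicative (ZMod 2)) (g : G) :
    prodHom a b g = 1 ↔ a g = 1 ∧ b g = 1 := by
  show Multiplicative.ofAdd (Multiplicative.toAdd (a g), Multiplicative.toAdd (b g)) = 1
    ↔ a g = 1 ∧ b g = 1
  constructor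
  · intro h
    have h' : (Multiplicative.toAdd (a g), Multiplicative.toAdd (b g)) = ((0 : ZMod 2), (0 : ZMod 2)) := h
    rw [Prod.mk.injEq] at h'
    exact ⟨h'.1, h'.2⟩
  · rintro ⟨h1, h2⟩
    rw [h1, h2]
    rfl

theorem prodHom_surjective {G : Type*} [Group G] (a b : G →* Multiplicative (ZMod 2))
    (g₁ g₂ : G) (h1 : a g₁ ≠ 1) (h2 : a g₂ = 1) (h3 : b g₂ ≠ 1) :
    Function.Surjective (prodHom a b) := by
  have key : ∀ x : Multiplicative (ZMod 2), x ≠ 1 → x = Multiplicative.ofAdd 1 := by decide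
  have e1 := key _ h1
  have e3 := key _ h3
  have hb : ∀ x : Multiplicative (ZMod 2), x = 1 ∨ x = Multiplicative.ofAdd 1 := by decide
  have hall : ∀ t : Multiplicative (ZMod 2 × ZMod 2),
      t = 1 ∨ t = Multiplicative.ofAdd (0, 1) ∨ t = Multiplicative.ofAdd (1, 0)
        ∨ t = Multiplicative.ofAdd (1, 1) := by decide
  have v1 : prodHom a b 1 = 1 := map_one _
  have v2 : prodHom a b g₂ = Multiplicative.ofAdd (0, 1) := by
    show Multiplicative.ofAdd (Multiplicative.toAdd (a g₂), Multiplicative.toAdd (b g₂)) = _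
    rw [h2, e3]; rfl
  intro t
  rcases hb (b g₁) with hb1 | hb1
  · have v3 : prodHom a b g₁ = Multiplicative.ofAdd (1, 0) := by
      show Multiplicative.ofAdd (Multiplicative.toAdd (a g₁), Multiplicative.toAdd (b g₁)) = _
      rw [e1, hb1]; rfl
    rcases hall t with h | h | h | h
    · exact ⟨1, by rw [v1, h]⟩
    · exact ⟨g₂, by rw [v2, h]⟩
    · exact ⟨g₁, by rw [v3, h]⟩
    · exact ⟨g₁ * g₂, by rw [map_mul, v3, v2, h]; rfl⟩
  · have v3 : prodHom a b g₁ = Multiplicative.ofAdd (1, 1) := by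
      show Multiplicative.ofAdd (Multiplicative.toAdd (a g₁), Multiplicative.toAdd (b g₁)) = _
      rw [e1, hb1]; rfl
    rcases hall t with h | h | h | h
    · exact ⟨1, by rw [v1, h]⟩
    · exact ⟨g₂, by rw [v2, h]⟩
    · exact ⟨g₁ * g₂, by rw [map_mul, v3, v2, h]; rfl⟩
    · exact ⟨g₁, by rw [v3, h]⟩

end Cfsg.Agent.Lib.Helper45.OmegaAutPsi
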