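import Mathlib
import Cfsg.Agent.Lib.Helper45.OmegaAutPsi

set_option autoImplicit false

/-! `PGO(Q)/PSO(Q) ≅ ℤ/2 × ℤ/2` inside `Aut(PΩ(Q))` (odd characteristic, even dimension ≥ 6). -/

namespace Cfsg.Agent.Lib.Helper45.OmegaAutMain

open Module QuadraticMap Matrix
open Cfsg.Agent.Lib.Helper44.QSpace Cfsg.Agent.Lib.Helper44.OGroup
open Cfsg.Agent.Lib.Helper44.OMat Cfsg.Agent.Lib.Helper44.OMat2
open Cfsg.Agent.Lib.Helper45.OmegaAut Cfsg.Agent.Lib.Helper45.OmegaAutKer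
open Cfsg.Agent.Lib.Helper45.OmegaAutPsi

universe u

variable {F : Type u} [Field F] [Fintype F] {ι : Type} [Fintype ι] [DecidableEq ι]
variable (Q : QuadraticForm F (ι → F))

/-- `det(g) μ(g)^{-k}`. -/
noncomputable def dl {v₀ : ι → F} (hv₀ : Q v₀ ≠ 0) (k : ℕ) :
    ↥(Cfsg.Geo.quadSimilarityGroup (F := F) ⇑Q) →* Fˣ :=
  (Matrix.GeneralLinearGroup.det.comp (Subgroup.subtype _)) * ((muHom Q hv₀)⁻¹) ^ k

theorem dl_apply {v₀ : ι → F} (hv₀ : Q v₀ ≠ 0) (k : ℕ)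
    (g : ↥(Cfsg.Geo.quadSimilarityGroup (F := F) ⇑Q)) :
    dl Q hv₀ k g = Matrix.GeneralLinearGroup.det (g : GL ι F) * ((mu Q g)⁻¹) ^ k := rfl

theorem dl_pm {v₀ : ι → F} (hv₀ : Q v₀ ≠ 0) (hS : Sep Q) {k : ℕ}
    (hk : Fintype.card ι = 2 * k) (g : ↥(Cfsg.Geo.quadSimilarityGroup (F := F) ⇑Q)) :
    dl Q hv₀ k g = 1 ∨ dl Q hv₀ k g = -1 := by
  have h1 := det_sq Q hS g
  rw [hk] at h1
  have hmu : (mu Q g : F) ≠ 0 := (mu Q g).ne_zero
  have h3 : ((dl Q hv₀ k g : Fˣ) : F) ^ 2 = 1 := by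
    rw [dl_apply, Units.val_mul, Units.val_pow_eq_pow_val, Units.val_inv_eq_inv_val,
      Matrix.GeneralLinearGroup.val_det_apply, mul_pow, h1, ← pow_mul, inv_pow, mul_comm k 2]
    exact mul_inv_cancel₀ (pow_ne_zero _ hmu)
  have h4 : (((dl Q hv₀ k g : Fˣ) : F) - 1) * (((dl Q hv₀ k g : Fˣ) : F) + 1) = 0 := by
    linear_combination h3
  rcases mul_eq_zero.mp h4 with h | h
  · left; exact Units.ext (sub_eq_zero.mp h)
  · right; exact Units.ext (by rw [eq_neg_of_add_eq_zero_left h, Units.val_neg, Units.val_one])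

theorem ringChar_ne (h2 : (2 : F) ≠ 0) : ringChar F ≠ 2 :=
  Cfsg.Agent.Lib.Helper44.FinSq.ringChar_ne_two_of_two_ne_zero h2

/-- The quadratic character as a homomorphism to `ℤ/2`. -/
noncomputable def chi (h2 : (2 : F) ≠ 0) : Fˣ →* Multiplicative (ZMod 2) :=
  sgnHom (powMonoidHom (Fintype.card F / 2)) (fun a => by
    rcases FiniteField.pow_dichotomy (ringChar_ne h2) a.ne_zero with h | h
    · left
      apply Units.ext
      rw [powMonoidHom_apply, Units.val_pow_eq_pow_val, h, Units.val_one]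
    · right
      apply Units.ext
      rw [powMonoidHom_apply, Units.val_pow_eq_pow_val, h, Units.val_neg, Units.val_one]) h2

theorem chi_eq_one_iff (h2 : (2 : F) ≠ 0) (a : Fˣ) : chi h2 a = 1 ↔ IsSquare a := by
  unfold chi
  rw [sgnHom_eq_one_iff, powMonoidHom_apply, FiniteField.unit_isSquare_iff (ringChar_ne h2)]

/-- The homomorphism `ψ : GO → ℤ/2 × ℤ/2`. -/
noncomputable def psi (h2 : (2 : F) ≠ 0) (hS : Sep Q) {v₀ : ι → F} (hv₀ : Q v₀ ≠ 0) {k : ℕ}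
    (hk : Fintype.card ι = 2 * k) :
    ↥(Cfsg.Geo.quadSimilarityGroup (F := F) ⇑Q) →* Multiplicative (ZMod 2 × ZMod 2) :=
  prodHom ((chi h2).comp (muHom Q hv₀)) (sgnHom (dl Q hv₀ k) (dl_pm Q hv₀ hS hk) h2)

theorem psi_eq_one_iff (h2 : (2 : F) ≠ 0) (hS : Sep Q) {v₀ : ι → F} (hv₀ : Q v₀ ≠ 0) {k : ℕ}
    (hk : Fintype.card ι = 2 * k) (g : ↥(Cfsg.Geo.quadSimilarityGroup (F := F) ⇑Q)) :
    psi Q h2 hS hv₀ hk g = 1 ↔ IsSquare (mu Q g) ∧ dl Q hv₀ k g = 1 := by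
  unfold psi
  rw [prodHom_eq_one_iff, sgnHom_eq_one_iff, MonoidHom.comp_apply, chi_eq_one_iff, muHom_apply]

/-- Scalars lie in the kernel of `ψ`. -/
theorem psi_scalar (h2 : (2 : F) ≠ 0) (hS : Sep Q) {v₀ : ι → F} (hv₀ : Q v₀ ≠ 0) {k : ℕ}
    (hk : Fintype.card ι = 2 * k) (g : ↥(Cfsg.Geo.quadSimilarityGroup (F := F) ⇑Q)) (c : F)
    (hc : ∀ x, ((g : GL ι F) : Matrix ι ι F) *ᵥ x = c • x) : psi Q h2 hS hv₀ hk g = 1 := by
  have hc0 : c ≠ 0 := by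
    rintro rfl
    have h := mu_spec Q g v₀
    rw [hc, zero_smul, map_zero] at h
    exact (mul_ne_zero (mu Q g).ne_zero hv₀) h.symm
  have hmu : mu Q g = Units.mk0 c hc0 * Units.mk0 c hc0 :=
    mu_unique Q hv₀ g _ (fun v => by
      rw [hc, QuadraticMap.map_smul, smul_eq_mul, Units.val_mul, Units.val_mk0])
  have hM : ((g : GL ι F) : Matrix ι ι F) = c • (1 : Matrix ι ι F) := by
    apply matrix_ext_mulVec
    intro x
    rw [hc, Matrix.smul_mulVec, Matrix.one_mulVec]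
  rw [psi_eq_one_iff]
  refine ⟨⟨Units.mk0 c hc0, hmu⟩, ?_⟩
  apply Units.ext
  rw [dl_apply, Units.val_mul, Units.val_pow_eq_pow_val, Units.val_inv_eq_inv_val,
    Matrix.GeneralLinearGroup.val_det_apply, hM, Matrix.det_smul, Matrix.det_one, mul_one, hk, hmu,
    Units.val_mul, Units.val_mk0, Units.val_one, inv_pow, pow_mul, pow_two]
  exact mul_inv_cancel₀ (pow_ne_zero _ (mul_ne_zero hc0 hc0))

theorem mu_iso {v₀ : ι → F} (hv₀ : Q v₀ ≠ 0) (g : ↥(Cfsg.Geo.quadSimilarityGroup (F := F) ⇑Q))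
    (hg : (g : GL ι F) ∈ Cfsg.isometryGroup F ⇑Q) : mu Q g = 1 :=
  mu_unique Q hv₀ g 1 (fun v => by
    rw [Units.val_one, one_mul]; exact (mem_iso_iff' _ _).mp hg v)

/-- The special orthogonal group lies in the kernel of `ψ`. -/
theorem psi_so (h2 : (2 : F) ≠ 0) (hS : Sep Q) {v₀ : ι → F} (hv₀ : Q v₀ ≠ 0) {k : ℕ}
    (hk : Fintype.card ι = 2 * k) (g : ↥(Cfsg.Geo.quadSimilarityGroup (F := F) ⇑Q))
    (hg : (g : GL ι F) ∈ Cfsg.specialIsometryGL F ⇑Q) : psi Q h2 hS hv₀ hk g = 1 := by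
  rw [psi_eq_one_iff, mu_iso Q hv₀ g hg.1]
  refine ⟨⟨1, (mul_one 1).symm⟩, ?_⟩
  rw [dl_apply, mu_iso Q hv₀ g hg.1, inv_one, one_pow, mul_one]
  exact hg.2

/-- `ψ g = 1` iff `g` induces an element of `psoAut`. -/
theorem psi_eq_one_iff_pso (h2 : (2 : F) ≠ 0) (hS : Sep Q) {v₀ : ι → F} (hv₀ : Q v₀ ≠ 0) {k : ℕ}
    (hk : Fintype.card ι = 2 * k) (hn : 5 ≤ Fintype.card ι)
    (g : ↥(Cfsg.Geo.quadSimilarityGroup (F := F) ⇑Q)) :
    psi Q h2 hS hv₀ hk g = 1 ↔ Phi ⇑Q g ∈ Cfsg.psoAut F ⇑Q := by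
  rw [pso_eq]
  constructor
  · intro h
    obtain ⟨⟨ν, hν⟩, hdl⟩ := (psi_eq_one_iff Q h2 hS hv₀ hk g).mp h
    -- `h₀ = ν⁻¹ g` is a special isometry
    have hmem : (sc ν⁻¹ : GL ι F) * (g : GL ι F) ∈ Cfsg.specialIsometryGL F ⇑Q := by
      refine Subgroup.mem_inf.mpr ⟨?_, ?_⟩
      · rw [mem_iso_iff']
        intro v
        rw [Units.val_mul, ← Matrix.mulVec_mulVec, sc_mulVec, QuadraticMap.map_smul, mu_spec, hν,
          Units.val_mul, Units.val_inv_eq_inv_val, smul_eq_mul]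
        have : (ν : F) ≠ 0 := ν.ne_zero
        field_simp
      · show Matrix.GeneralLinearGroup.det ((sc ν⁻¹ : GL ι F) * (g : GL ι F)) = 1
        rw [map_mul]
        have h1 : Matrix.GeneralLinearGroup.det (g : GL ι F) = (mu Q g) ^ k := by
          have := hdl
          rw [dl_apply, inv_pow] at this
          exact mul_inv_eq_one.mp this
        have h3 : Matrix.GeneralLinearGroup.det (sc ν⁻¹ : GL ι F) = (ν⁻¹) ^ Fintype.card ι := by
          apply Units.ext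
          rw [Matrix.GeneralLinearGroup.val_det_apply, det_sc, Units.val_pow_eq_pow_val]
        rw [h1, h3, hk, hν, pow_mul, ← mul_pow, pow_two]
        have : ν⁻¹ * ν⁻¹ * (ν * ν) = 1 := by group
        rw [this, one_pow]
    refine ⟨⟨_, so_le_GO _ hmem⟩, hmem, ?_⟩
    have hsplit : g = ⟨sc ν, sc_mem Q ν⟩ * ⟨(sc ν⁻¹ : GL ι F) * (g : GL ι F), so_le_GO _ hmem⟩ := by
      apply Subtype.ext
      show (g : GL ι F) = sc ν * (sc ν⁻¹ * (g : GL ι F))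
      rw [← mul_assoc, ← map_mul, mul_inv_cancel, map_one, one_mul]
    conv_rhs => rw [hsplit]
    rw [map_mul, Phi_eq_one_of_scalar ⇑Q ⟨sc ν, sc_mem Q ν⟩ (ν : F) (fun x => sc_mulVec ν x),
      one_mul]
  · rintro ⟨h, hh, hPhi⟩
    have h1 : Phi ⇑Q (g * h⁻¹) = 1 := by
      rw [map_mul, map_inv, hPhi, mul_inv_cancel]
    obtain ⟨c, hc⟩ := scalar_of_Phi_eq_one h2 Q hS hn _ h1
    have h3 := psi_scalar Q h2 hS hv₀ hk _ c hc
    have h4 := psi_so Q h2 hS hv₀ hk h hh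
    have h5 : g = (g * h⁻¹) * h := by group
    rw [h5, map_mul, h3, h4, one_mul]

/-- The reflection in `v` as a similarity. -/
noncomputable def rfl' (v : ι → F) : ↥(Cfsg.Geo.quadSimilarityGroup (F := F) ⇑Q) :=
  ⟨((isoEquiv Q).symm (refl Q v) : ↥(Cfsg.isometryGroup F ⇑Q)),
    iso_le_GO _ ((isoEquiv Q).symm (refl Q v)).2⟩

theorem rfl'_mem_iso (v : ι → F) : ((rfl' Q v : ↥(Cfsg.Geo.quadSimilarityGroup (F := F) ⇑Q)) : GL ι F)
    ∈ Cfsg.isometryGroup F ⇑Q := ((isoEquiv Q).symm (refl Q v)).2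

theorem rfl'_mulVec (v x : ι → F) :
    (((rfl' Q v : ↥(Cfsg.Geo.quadSimilarityGroup (F := F) ⇑Q)) : GL ι F) : Matrix ι ι F) *ᵥ x
      = reflE Q v x :=
  isoEquiv_symm_mulVec Q (refl Q v) x

theorem det_rfl' {v : ι → F} (hv : Q v ≠ 0) :
    Matrix.GeneralLinearGroup.det ((rfl' Q v : ↥(Cfsg.Geo.quadSimilarityGroup (F := F) ⇑Q)) : GL ι F)
      = -1 := by
  apply Units.ext
  rw [Matrix.GeneralLinearGroup.val_det_apply, Units.val_neg, Units.val_one]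
  have h1 := Cfsg.Agent.Lib.Helper44.Spinor.det_reflE Q hv
  have h2 := congrArg (fun t : Fˣ => (t : F)) h1
  simp only [LinearEquiv.coe_det, Units.val_neg, Units.val_one] at h2
  rw [← h2, ← LinearMap.det_toLin']
  congr 1
  apply LinearMap.ext
  intro x
  rw [Matrix.toLin'_apply, rfl'_mulVec]
  rfl

/-- `ψ` is surjective, given a similarity with non-square multiplier. -/
theorem psi_surjective (h2 : (2 : F) ≠ 0) (hS : Sep Q) {v₀ : ι → F} (hv₀ : Q v₀ ≠ 0) {k : ℕ}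
    (hk : Fintype.card ι = 2 * k)
    (hδ : ∃ g : ↥(Cfsg.Geo.quadSimilarityGroup (F := F) ⇑Q), ¬ IsSquare (mu Q g)) :
    Function.Surjective (psi Q h2 hS hv₀ hk) := by
  obtain ⟨δ, hδ⟩ := hδ
  unfold psi
  apply prodHom_surjective _ _ δ (rfl' Q v₀)
  · rw [Ne, MonoidHom.comp_apply, chi_eq_one_iff, muHom_apply]
    exact hδ
  · rw [MonoidHom.comp_apply, chi_eq_one_iff, muHom_apply, mu_iso Q hv₀ _ (rfl'_mem_iso Q v₀)]
    exact ⟨1, (mul_one 1).symm⟩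
  · rw [Ne, sgnHom_eq_one_iff, dl_apply, mu_iso Q hv₀ _ (rfl'_mem_iso Q v₀), inv_one, one_pow,
      mul_one, det_rfl' Q hv₀]
    intro h
    have h' := congrArg (fun t : Fˣ => (t : F)) h
    simp only [Units.val_neg, Units.val_one] at h'
    apply h2
    linear_combination -h'

/-- Descending a homomorphism to the range of another one. -/
theorem lift_exists {G A M : Type*} [Group G] [Group A] [Group M] (f : G →* A) (ψ : G →* M)
    (hψ : Function.Surjective ψ) (P : Subgroup A) (hker : ∀ g, ψ g = 1 ↔ f g ∈ P) :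
    ∃ φ : ↥f.range →* M, Function.Surjective φ ∧ φ.ker = P.subgroupOf f.range := by
  have hfs : Function.Surjective f.rangeRestrict := f.rangeRestrict_surjective
  have hk : f.rangeRestrict.ker ≤ ψ.ker := by
    intro g hg
    rw [MonoidHom.mem_ker] at hg ⊢
    have hg' : f g = 1 := congrArg Subtype.val hg
    rw [hker, hg']
    exact Subgroup.one_mem _
  have e : ∀ g, (f.rangeRestrict.liftOfSurjective hfs ⟨ψ, hk⟩) (f.rangeRestrict g) = ψ g :=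
    fun g => MonoidHom.liftOfRightInverse_comp_apply _ _ _ _ g
  refine ⟨f.rangeRestrict.liftOfSurjective hfs ⟨ψ, hk⟩, ?_, ?_⟩
  · intro t
    obtain ⟨g, rfl⟩ := hψ t
    exact ⟨f.rangeRestrict g, e g⟩
  · ext x
    obtain ⟨g, rfl⟩ := hfs x
    rw [MonoidHom.mem_ker, Subgroup.mem_subgroupOf, e, hker]
    rfl

/-- **`PGO/PSO ≅ ℤ/2 × ℤ/2`** inside `Aut(PΩ)`. -/
theorem pgo_mod_pso (h2 : (2 : F) ≠ 0) (hS : Sep Q) {k : ℕ}
    (hk : Fintype.card ι = 2 * k) (hn : 5 ≤ Fintype.card ι)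
    (hδ : ∃ g : ↥(Cfsg.Geo.quadSimilarityGroup (F := F) ⇑Q), ¬ IsSquare (mu Q g)) :
    ∃ φ : ↥(Cfsg.pgoAut F ⇑Q) →* Multiplicative (ZMod 2 × ZMod 2), Function.Surjective φ ∧
      φ.ker = (Cfsg.psoAut F ⇑Q).subgroupOf (Cfsg.pgoAut F ⇑Q) := by
  have : Nontrivial (ι → F) := by
    have : Nonempty ι := by rw [← Fintype.card_pos_iff]; omega
    infer_instance
  obtain ⟨v₀, hv₀⟩ := exists_ne_zero hS
  rw [pgo_eq]
  exact lift_exists (Phi ⇑Q) (psi Q h2 hS hv₀ hk) (psi_surjective Q h2 hS hv₀ hk hδ)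
    (Cfsg.psoAut F ⇑Q) (psi_eq_one_iff_pso Q h2 hS hv₀ hk hn)

end Cfsg.Agent.Lib.Helper45.OmegaAutMain
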