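import Mathlib
import Cfsg.Agent.Lib.Helper45.OmegaAutMain
import Cfsg.Agent.Lib.Helper44.ODet
import Cfsg.Agent.Lib.Helper14.OrthIndex

set_option autoImplicit false

/-! The index of `Inn(PΩ)` in the image of the special orthogonal group (odd `q`, even dimension). -/

namespace Cfsg.Agent.Lib.Helper45.OmegaAutIdx

open Module QuadraticMap Matrix
open Cfsg.Agent.Lib.Helper44.QSpace Cfsg.Agent.Lib.Helper44.OGroup
open Cfsg.Agent.Lib.Helper44.OMat Cfsg.Agent.Lib.Helper44.OMat2 Cfsg.Agent.Lib.Helper44.ODet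
open Cfsg.Agent.Lib.Helper45.OmegaAut Cfsg.Agent.Lib.Helper45.OmegaAutKer
open Cfsg.Agent.Lib.Helper45.OmegaAutPsi Cfsg.Agent.Lib.Helper45.OmegaAutMain
open Cfsg.Agent.Lib.Helper45.OmegaCenter

universe u

variable {F : Type u} [Field F] {ι : Type} [Fintype ι] [DecidableEq ι]
variable (Q : QuadraticForm F (ι → F))

/-- The inclusion of the special orthogonal group into the similarity group. -/
def inclSO : ↥(Cfsg.specialIsometryGroup F ⇑Q) →* ↥(Cfsg.Geo.quadSimilarityGroup (F := F) ⇑Q) :=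
  (Subgroup.inclusion (iso_le_GO ⇑Q)).comp (Cfsg.specialIsometryGroup F ⇑Q).subtype

theorem inclSO_coe (x : ↥(Cfsg.specialIsometryGroup F ⇑Q)) :
    ((inclSO Q x : ↥(Cfsg.Geo.quadSimilarityGroup (F := F) ⇑Q)) : GL ι F)
      = ((x : ↥(Cfsg.isometryGroup F ⇑Q)) : GL ι F) := rfl

/-- The action of the special orthogonal group on `PΩ`. -/
def fSO : ↥(Cfsg.specialIsometryGroup F ⇑Q) →* MulAut (Cfsg.POmega F ⇑Q) :=
  (Phi ⇑Q).comp (inclSO Q)

theorem pso_eq' : Cfsg.psoAut F ⇑Q = (fSO Q).range := by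
  rw [pso_eq]
  apply le_antisymm
  · rintro β ⟨g, hg, rfl⟩
    have hg' : (g : GL ι F) ∈ Cfsg.specialIsometryGL F ⇑Q := hg
    refine ⟨⟨⟨(g : GL ι F), hg'.1⟩, (mem_special_iff Q _).mpr hg'.2⟩, ?_⟩
    rfl
  · rintro β ⟨x, rfl⟩
    refine ⟨inclSO Q x, ?_, rfl⟩
    show (inclSO Q x : GL ι F) ∈ Cfsg.specialIsometryGL F ⇑Q
    exact Subgroup.mem_inf.mpr ⟨(x : ↥(Cfsg.isometryGroup F ⇑Q)).2, (mem_special_iff Q _).mp x.2⟩

theorem inn_eq' : Cfsg.Inn (Cfsg.POmega F ⇑Q)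
    = ((Cfsg.Omega F ⇑Q).subgroupOf (Cfsg.specialIsometryGroup F ⇑Q)).map (fSO Q) := by
  rw [inn_eq]
  apply le_antisymm
  · rintro β ⟨s, rfl⟩
    refine ⟨⟨(s : ↥(Cfsg.isometryGroup F ⇑Q)), omega_le_special Q s.2⟩, ?_, rfl⟩
    exact Subgroup.mem_subgroupOf.mpr s.2
  · rintro β ⟨x, hx, rfl⟩
    have hx' : (x : ↥(Cfsg.isometryGroup F ⇑Q)) ∈ Cfsg.Omega F ⇑Q := Subgroup.mem_subgroupOf.mp hx
    exact ⟨⟨(x : ↥(Cfsg.isometryGroup F ⇑Q)), hx'⟩, rfl⟩

/-- The index in question, computed in the special orthogonal group. -/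
theorem relIndex_eq : (Cfsg.Inn (Cfsg.POmega F ⇑Q)).relIndex (Cfsg.psoAut F ⇑Q)
    = ((Cfsg.Omega F ⇑Q).subgroupOf (Cfsg.specialIsometryGroup F ⇑Q) ⊔ (fSO Q).ker).index := by
  rw [pso_eq', inn_eq', MonoidHom.range_eq_map, Subgroup.relIndex_map_map, top_sup_eq,
    Subgroup.relIndex_top_right]

variable [Fintype F]

theorem index_omega_in_so [Nonempty ι] (h2 : (2 : F) ≠ 0) (hS : Sep Q) (hn : 2 ≤ Fintype.card ι) :
    ((Cfsg.Omega F ⇑Q).subgroupOf (Cfsg.specialIsometryGroup F ⇑Q)).index = 2 := by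
  have h1 := Subgroup.relIndex_mul_index (omega_le_special Q)
  rw [index_special h2 hS (Cfsg.Agent.Lib.Helper44.Omega2.cdp_of_two_ne_zero h2 hS),
    Cfsg.Agent.Lib.Helper14.OrthIndex.index_omega h2 Q hS hn] at h1
  show (Cfsg.Omega F ⇑Q).relIndex (Cfsg.specialIsometryGroup F ⇑Q) = 2
  omega

/-- The kernel of `fSO` lies in `Ω` when `-1 ∈ Ω`. -/
theorem ker_le_of_mem (h2 : (2 : F) ≠ 0) (hS : Sep Q) (hn : 5 ≤ Fintype.card ι)
    (hneg : ∃ g : ↥(Cfsg.isometryGroup F ⇑Q), g ∈ Cfsg.Omega F ⇑Q ∧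
      ((g : GL ι F) : Matrix ι ι F) = -1) :
    (fSO Q).ker ≤ (Cfsg.Omega F ⇑Q).subgroupOf (Cfsg.specialIsometryGroup F ⇑Q) := by
  obtain ⟨g₀, hg₀, hg₀m⟩ := hneg
  intro x hx
  rw [MonoidHom.mem_ker] at hx
  obtain ⟨c, hc⟩ := scalar_of_Phi_eq_one h2 Q hS hn (inclSO Q x) hx
  have : Nontrivial (ι → F) := by
    have : Nonempty ι := by rw [← Fintype.card_pos_iff]; omega
    infer_instance
  obtain ⟨v₀, hv₀⟩ := exists_ne_zero hS
  have hiso := (mem_iso_iff' ⇑Q _).mp (x : ↥(Cfsg.isometryGroup F ⇑Q)).2 v₀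
  have hc' : (((x : ↥(Cfsg.isometryGroup F ⇑Q)) : GL ι F) : Matrix ι ι F) *ᵥ v₀ = c • v₀ := hc v₀
  rw [hc', QuadraticMap.map_smul, smul_eq_mul] at hiso
  have hcc : (c - 1) * (c + 1) = 0 := by
    have : (c * c - 1) * Q v₀ = 0 := by linear_combination hiso
    rcases mul_eq_zero.mp this with h | h
    · linear_combination h
    · exact absurd h hv₀
  rw [Subgroup.mem_subgroupOf]
  rcases mul_eq_zero.mp hcc with h | h
  · have hx1 : (x : ↥(Cfsg.isometryGroup F ⇑Q)) = 1 := by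
      apply Subtype.ext
      apply Units.ext
      apply matrix_ext_mulVec
      intro v
      have := hc v
      rw [sub_eq_zero.mp h, one_smul] at this
      rw [Subgroup.coe_one, Units.val_one, Matrix.one_mulVec]
      exact this
    rw [hx1]
    exact Subgroup.one_mem _
  · have hx1 : (x : ↥(Cfsg.isometryGroup F ⇑Q)) = g₀ := by
      apply Subtype.ext
      apply Units.ext
      apply matrix_ext_mulVec
      intro v
      have := hc v
      rw [eq_neg_of_add_eq_zero_left h, neg_one_smul] at this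
      rw [hg₀m, Matrix.neg_mulVec, Matrix.one_mulVec]
      exact this
    rw [hx1]
    exact hg₀

/-- `-1` as an element of the special orthogonal group (even dimension). -/
theorem exists_neg_one {k : ℕ} (hk : Fintype.card ι = 2 * k) :
    ∃ x : ↥(Cfsg.specialIsometryGroup F ⇑Q),
      (((x : ↥(Cfsg.isometryGroup F ⇑Q)) : GL ι F) : Matrix ι ι F) = -1 := by
  have hmem : (-1 : GL ι F) ∈ Cfsg.isometryGroup F ⇑Q := by
    rw [mem_iso_iff']
    intro v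
    rw [Units.val_neg, Units.val_one, Matrix.neg_mulVec, Matrix.one_mulVec, QuadraticMap.map_neg]
  refine ⟨⟨⟨-1, hmem⟩, ?_⟩, by simp⟩
  rw [mem_special_iff]
  apply Units.ext
  rw [Matrix.GeneralLinearGroup.val_det_apply]
  show ((-1 : GL ι F) : Matrix ι ι F).det = ((1 : Fˣ) : F)
  rw [Units.val_neg, Units.val_one, Matrix.det_neg, Matrix.det_one, mul_one, hk, pow_mul,
    Units.val_one]
  norm_num

/-- **Index of `Inn(PΩ)` in `psoAut`**: `2` if `-1 ∈ Ω`, `1` otherwise. -/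
theorem relIndex_inn_pso (h2 : (2 : F) ≠ 0) (hS : Sep Q) {k : ℕ}
    (hk : Fintype.card ι = 2 * k) (hn : 5 ≤ Fintype.card ι) :
    ((∃ g : ↥(Cfsg.isometryGroup F ⇑Q), g ∈ Cfsg.Omega F ⇑Q ∧
        ((g : GL ι F) : Matrix ι ι F) = -1) →
      (Cfsg.Inn (Cfsg.POmega F ⇑Q)).relIndex (Cfsg.psoAut F ⇑Q) = 2) ∧
    ((¬ ∃ g : ↥(Cfsg.isometryGroup F ⇑Q), g ∈ Cfsg.Omega F ⇑Q ∧
        ((g : GL ι F) : Matrix ι ι F) = -1) →
      (Cfsg.Inn (Cfsg.POmega F ⇑Q)).relIndex (Cfsg.psoAut F ⇑Q) = 1) := by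
  have : Nonempty ι := by rw [← Fintype.card_pos_iff]; omega
  have hidx := index_omega_in_so Q h2 hS (by omega)
  rw [relIndex_eq]
  constructor
  · intro hneg
    rw [sup_eq_left.mpr (ker_le_of_mem Q h2 hS hn hneg)]
    exact hidx
  · intro hneg
    obtain ⟨x, hx⟩ := exists_neg_one Q hk
    have hxker : x ∈ (fSO Q).ker := by
      rw [MonoidHom.mem_ker]
      apply Phi_eq_one_of_scalar ⇑Q (inclSO Q x) (-1)
      intro v
      rw [inclSO_coe, hx, Matrix.neg_mulVec, Matrix.one_mulVec, neg_one_smul]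
    have hxH : x ∉ (Cfsg.Omega F ⇑Q).subgroupOf (Cfsg.specialIsometryGroup F ⇑Q) := by
      intro h
      rw [Subgroup.mem_subgroupOf] at h
      exact hneg ⟨_, h, hx⟩
    have h1 := Subgroup.relIndex_mul_index
      (le_sup_left : (Cfsg.Omega F ⇑Q).subgroupOf (Cfsg.specialIsometryGroup F ⇑Q)
        ≤ (Cfsg.Omega F ⇑Q).subgroupOf (Cfsg.specialIsometryGroup F ⇑Q) ⊔ (fSO Q).ker)
    rw [hidx] at h1
    have h3 : ((Cfsg.Omega F ⇑Q).subgroupOf (Cfsg.specialIsometryGroup F ⇑Q)).relIndex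
        ((Cfsg.Omega F ⇑Q).subgroupOf (Cfsg.specialIsometryGroup F ⇑Q) ⊔ (fSO Q).ker) ≠ 1 := by
      rw [Ne, Subgroup.relIndex_eq_one]
      intro hle
      exact hxH (hle (Subgroup.mem_sup_right hxker))
    have h4 : ((Cfsg.Omega F ⇑Q).subgroupOf (Cfsg.specialIsometryGroup F ⇑Q)).relIndex
        ((Cfsg.Omega F ⇑Q).subgroupOf (Cfsg.specialIsometryGroup F ⇑Q) ⊔ (fSO Q).ker) ≠ 0 := by
      intro h0
      rw [h0, zero_mul] at h1
      omega
    rcases Nat.prime_two.eq_one_or_self_of_dvd _ (Dvd.intro _ h1) with h | h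
    · exact absurd h h3
    · rw [h] at h1
      omega

end Cfsg.Agent.Lib.Helper45.OmegaAutIdx
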