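import Mathlib
import Cfsg.Agent.Lib.Helper45.OmegaAutIdx
import Cfsg.Agent.Lib.Helper45.D8

set_option autoImplicit false

/-! `PGO(Q)/Inn(PΩ(Q))` inside `Aut(PΩ(Q))` (odd `q`, even dimension ≥ 6): `ℤ/2 × ℤ/2` if
`-1 ∉ Ω`, dihedral of order 8 if `-1 ∈ Ω`. -/

namespace Cfsg.Agent.Lib.Helper45.OmegaAutD8

open Module QuadraticMap Matrix
open Cfsg.Agent.Lib.Helper44.QSpace Cfsg.Agent.Lib.Helper44.OGroup
open Cfsg.Agent.Lib.Helper44.OMat Cfsg.Agent.Lib.Helper44.OMat2 Cfsg.Agent.Lib.Helper44.ODet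
open Cfsg.Agent.Lib.Helper45.OmegaAut Cfsg.Agent.Lib.Helper45.OmegaAutKer
open Cfsg.Agent.Lib.Helper45.OmegaAutPsi Cfsg.Agent.Lib.Helper45.OmegaAutMain
open Cfsg.Agent.Lib.Helper45.OmegaCenter Cfsg.Agent.Lib.Helper45.OmegaAutIdx

universe u

variable {F : Type u} [Field F] {ι : Type} [Fintype ι] [DecidableEq ι]
variable (Q : QuadraticForm F (ι → F))

theorem inn_le_pso : Cfsg.Inn (Cfsg.POmega F ⇑Q) ≤ Cfsg.psoAut F ⇑Q := by
  rw [inn_eq', pso_eq']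
  exact Subgroup.map_le_range _ _

theorem pso_le_pgo : Cfsg.psoAut F ⇑Q ≤ Cfsg.pgoAut F ⇑Q := by
  rw [pso_eq, pgo_eq]
  exact Subgroup.map_le_range _ _

theorem conj_mul_conj {G : Type*} [Group G] (a b : G) :
    a * b * a⁻¹ * (a * b * a⁻¹) = a * (b * b) * a⁻¹ := by group

/-- The homomorphism `Phi` with codomain `pgoAut`. -/
def PhiR : ↥(Cfsg.Geo.quadSimilarityGroup (F := F) ⇑Q) →* ↥(Cfsg.pgoAut F ⇑Q) :=
  (Phi ⇑Q).codRestrict (Cfsg.pgoAut F ⇑Q) (fun g => by rw [pgo_eq]; exact ⟨g, rfl⟩)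

theorem PhiR_coe (g : ↥(Cfsg.Geo.quadSimilarityGroup (F := F) ⇑Q)) :
    ((PhiR Q g : ↥(Cfsg.pgoAut F ⇑Q)) : MulAut (Cfsg.POmega F ⇑Q)) = Phi ⇑Q g := rfl

theorem PhiR_surjective : Function.Surjective (PhiR Q) := by
  rintro ⟨p, hp⟩
  have hp' := hp
  rw [pgo_eq] at hp'
  obtain ⟨g, rfl⟩ := hp'
  exact ⟨g, rfl⟩

variable [Fintype F]

/-- Case `-1 ∉ Ω`: the quotient is the four-group. -/
theorem pgo_mod_inn_of_not (h2 : (2 : F) ≠ 0) (hS : Sep Q) {k : ℕ}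
    (hk : Fintype.card ι = 2 * k) (hn : 5 ≤ Fintype.card ι)
    (hδ : ∃ g : ↥(Cfsg.Geo.quadSimilarityGroup (F := F) ⇑Q), ¬ IsSquare (mu Q g))
    (hneg : ¬ ∃ g : ↥(Cfsg.isometryGroup F ⇑Q), g ∈ Cfsg.Omega F ⇑Q ∧
        ((g : GL ι F) : Matrix ι ι F) = -1) :
    ∃ φ : ↥(Cfsg.pgoAut F ⇑Q) →* Multiplicative (ZMod 2 × ZMod 2), Function.Surjective φ ∧
      φ.ker = (Cfsg.Inn (Cfsg.POmega F ⇑Q)).subgroupOf (Cfsg.pgoAut F ⇑Q) := by
  have h1 := (relIndex_inn_pso Q h2 hS hk hn).2 hneg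
  rw [Subgroup.relIndex_eq_one] at h1
  have h3 : Cfsg.Inn (Cfsg.POmega F ⇑Q) = Cfsg.psoAut F ⇑Q := le_antisymm (inn_le_pso Q) h1
  rw [h3]
  exact pgo_mod_pso Q h2 hS hk hn hδ

/-- The product `r_u (δ r_u δ⁻¹)` for a similarity `δ` with non-square multiplier: it comes from
the special orthogonal group but does not lie in `Ω`. -/
theorem exists_so_elt (h2 : (2 : F) ≠ 0) (hS : Sep Q) (hn : 2 ≤ Fintype.card ι)
    (δ : ↥(Cfsg.Geo.quadSimilarityGroup (F := F) ⇑Q)) (hδ : ¬ IsSquare (mu Q δ))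
    {u : ι → F} (hu : Q u ≠ 0) :
    ∃ s : ↥(Cfsg.specialIsometryGroup F ⇑Q),
      inclSO Q s = rfl' Q u * (δ * rfl' Q u * δ⁻¹) ∧
      (s : ↥(Cfsg.isometryGroup F ⇑Q)) ∉ Cfsg.Omega F ⇑Q := by
  set w : ι → F := ((δ : GL ι F) : Matrix ι ι F) *ᵥ u with hw
  have hQw : Q w = (mu Q δ : F) * Q u := mu_spec Q δ u
  have hμ0 : (mu Q δ : F) ≠ 0 := (mu Q δ).ne_zero
  have hw0 : Q w ≠ 0 := by rw [hQw]; exact mul_ne_zero hμ0 hu
  set s₀ : ↥(Cfsg.isometryGroup F ⇑Q) := (isoEquiv Q).symm (refl Q u * refl Q w) with hs₀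
  have hvs : ∀ v ∈ [u, w], Q v ≠ 0 := by
    intro v hv
    simp only [List.mem_cons, List.not_mem_nil, or_false] at hv
    rcases hv with rfl | rfl
    · exact hu
    · exact hw0
  have hprod : ([u, w].map (refl Q)).prod = refl Q u * refl Q w := by
    simp
  have hiso : isoEquiv Q s₀ = ([u, w].map (refl Q)).prod := by
    rw [hprod, hs₀, MulEquiv.apply_symm_apply]
  have hact : ∀ x, (((s₀ : ↥(Cfsg.isometryGroup F ⇑Q)) : GL ι F) : Matrix ι ι F) *ᵥ x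
      = reflE Q u (reflE Q w x) := by
    intro x
    rw [hs₀, isoEquiv_symm_mulVec]
    rfl
  have hact' : ∀ x, (((s₀ : ↥(Cfsg.isometryGroup F ⇑Q)) : GL ι F) : Matrix ι ι F) *ᵥ x
      = ([u, w].map (reflE Q)).prod x := by
    intro x
    rw [hact]
    simp
  have hdet : Matrix.GeneralLinearGroup.det (s₀ : GL ι F) = 1 := by
    rw [det_of_prod Q s₀ [u, w] hvs hiso]
    simp
  refine ⟨⟨s₀, (mem_special_iff Q s₀).mpr hdet⟩, ?_, ?_⟩
  · apply Subtype.ext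
    apply Units.ext
    apply matrix_ext_mulVec
    intro x
    rw [inclSO_coe]
    show (((s₀ : ↥(Cfsg.isometryGroup F ⇑Q)) : GL ι F) : Matrix ι ι F) *ᵥ x = _
    rw [hact, Subgroup.coe_mul, Subgroup.coe_mul, Subgroup.coe_mul, Units.val_mul, Units.val_mul,
      Units.val_mul, ← Matrix.mulVec_mulVec, ← Matrix.mulVec_mulVec, ← Matrix.mulVec_mulVec,
      rfl'_mulVec, rfl'_mulVec, sim_reflE Q hμ0 (mu_spec Q δ), Matrix.mulVec_mulVec,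
      ← Units.val_mul, ← Subgroup.coe_mul, mul_inv_cancel, Subgroup.coe_one, Units.val_one,
      Matrix.one_mulVec]
  · intro hmem
    have hmem' : s₀ ∈ Cfsg.Omega F ⇑Q := hmem
    rw [mem_omega_iff_of_mulVec h2 Q hS hn s₀ [u, w] hvs hact'] at hmem'
    obtain ⟨-, r, hr⟩ := hmem'
    simp only [List.map_cons, List.map_nil, List.prod_cons, List.prod_nil, mul_one] at hr
    rw [hQw] at hr
    apply hδ
    have hr0 : r ≠ 0 := by
      rintro rfl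
      rw [mul_zero] at hr
      exact (mul_ne_zero hu (mul_ne_zero hμ0 hu)) hr
    have hν0 : r / Q u ≠ 0 := div_ne_zero hr0 hu
    refine ⟨Units.mk0 (r / Q u) hν0, ?_⟩
    apply Units.ext
    rw [Units.val_mul, Units.val_mk0]
    field_simp
    linear_combination hr

set_option maxHeartbeats 1600000 in
/-- Case `-1 ∈ Ω`: the quotient is dihedral of order 8. -/
theorem pgo_mod_inn_of_mem (h2 : (2 : F) ≠ 0) (hS : Sep Q) {k : ℕ}
    (hk : Fintype.card ι = 2 * k) (hn : 5 ≤ Fintype.card ι)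
    (hδ : ∃ g : ↥(Cfsg.Geo.quadSimilarityGroup (F := F) ⇑Q), ¬ IsSquare (mu Q g))
    (hneg : ∃ g : ↥(Cfsg.isometryGroup F ⇑Q), g ∈ Cfsg.Omega F ⇑Q ∧
        ((g : GL ι F) : Matrix ι ι F) = -1) :
    ∃ φ : ↥(Cfsg.pgoAut F ⇑Q) →* DihedralGroup 4, Function.Surjective φ ∧
      φ.ker = (Cfsg.Inn (Cfsg.POmega F ⇑Q)).subgroupOf (Cfsg.pgoAut F ⇑Q) := by
  have hne : Nonempty ι := by rw [← Fintype.card_pos_iff]; omega
  have : Nontrivial (ι → F) := inferInstance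
  obtain ⟨u, hu⟩ := exists_ne_zero hS
  obtain ⟨δ, hδ'⟩ := hδ
  set N : Subgroup ↥(Cfsg.pgoAut F ⇑Q) :=
    (Cfsg.Inn (Cfsg.POmega F ⇑Q)).subgroupOf (Cfsg.pgoAut F ⇑Q) with hN
  have hNn : N.Normal := inferInstance
  -- the order of the quotient
  have hidx : N.index = 8 := by
    have h1 := (relIndex_inn_pso Q h2 hS hk hn).1 hneg
    obtain ⟨φ, hφs, hφk⟩ := pgo_mod_pso Q h2 hS hk hn ⟨δ, hδ'⟩
    have h3 : (Cfsg.psoAut F ⇑Q).relIndex (Cfsg.pgoAut F ⇑Q) = 4 := by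
      show ((Cfsg.psoAut F ⇑Q).subgroupOf (Cfsg.pgoAut F ⇑Q)).index = 4
      rw [← hφk, Subgroup.index_ker, MonoidHom.range_eq_top.mpr hφs, Subgroup.card_top]
      rw [Nat.card_eq_fintype_card]
      rfl
    have h4 := Subgroup.relIndex_mul_relIndex _ _ _ (inn_le_pso Q) (pso_le_pgo Q)
    rw [h1, h3] at h4
    exact h4.symm
  have hfin : Finite (↥(Cfsg.pgoAut F ⇑Q) ⧸ N) := by
    apply Nat.finite_of_card_ne_zero
    rw [← Subgroup.index_eq_card, hidx]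
    norm_num
  have h8 : Nat.card (↥(Cfsg.pgoAut F ⇑Q) ⧸ N) = 8 := by
    rw [← Subgroup.index_eq_card, hidx]
  -- the projection
  obtain ⟨π, hπ1⟩ : ∃ π : ↥(Cfsg.Geo.quadSimilarityGroup (F := F) ⇑Q) →* (↥(Cfsg.pgoAut F ⇑Q) ⧸ N),
      ∀ g, π g = 1 ↔ Phi ⇑Q g ∈ Cfsg.Inn (Cfsg.POmega F ⇑Q) := by
    refine ⟨(QuotientGroup.mk' N).comp (PhiR Q), ?_⟩
    intro g
    rw [MonoidHom.comp_apply, QuotientGroup.mk'_apply, QuotientGroup.eq_one_iff, hN,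
      Subgroup.mem_subgroupOf, PhiR_coe]
  obtain ⟨s, hs, hsΩ⟩ := exists_so_elt Q h2 hS (by omega) δ hδ' hu
  have hΩidx := index_omega_in_so Q h2 hS (by omega)
  have hker := ker_le_of_mem Q h2 hS hn hneg
  have hPhis : ∀ z : ↥(Cfsg.specialIsometryGroup F ⇑Q), Phi ⇑Q (inclSO Q z) = fSO Q z :=
    fun z => rfl
  -- `π t ≠ 1`
  have ht1 : π (rfl' Q u * (δ * rfl' Q u * δ⁻¹)) ≠ 1 := by
    rw [Ne, hπ1, ← hs, hPhis, inn_eq']
    rintro ⟨s', hs', hss'⟩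
    apply hsΩ
    have h5 : s'⁻¹ * s ∈ (fSO Q).ker := by
      rw [MonoidHom.mem_ker, map_mul, map_inv, hss', inv_mul_cancel]
    have h6 := Subgroup.mul_mem _ hs' (hker h5)
    rw [mul_inv_cancel_left] at h6
    exact Subgroup.mem_subgroupOf.mp h6
  -- `π (t * t) = 1`
  have ht2 : π ((rfl' Q u * (δ * rfl' Q u * δ⁻¹)) * (rfl' Q u * (δ * rfl' Q u * δ⁻¹))) = 1 := by
    rw [hπ1, ← hs, ← map_mul, hPhis, inn_eq']
    exact Subgroup.mem_map_of_mem _ (Subgroup.mul_self_mem_of_index_two hΩidx s)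
  have hrr : rfl' Q u * rfl' Q u = 1 := by
    apply Subtype.ext
    show ((isoEquiv Q).symm (refl Q u) : ↥(Cfsg.isometryGroup F ⇑Q)).1
      * ((isoEquiv Q).symm (refl Q u) : ↥(Cfsg.isometryGroup F ⇑Q)).1 = 1
    rw [← Subgroup.coe_mul, ← map_mul, refl_mul_self, map_one, Subgroup.coe_one]
  have hx : π (rfl' Q u) * π (rfl' Q u) = 1 :=
    (map_mul π _ _).symm.trans ((congrArg π hrr).trans (map_one π))
  have hy : π (δ * rfl' Q u * δ⁻¹) * π (δ * rfl' Q u * δ⁻¹) = 1 := by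
    have h5 : δ * rfl' Q u * δ⁻¹ * (δ * rfl' Q u * δ⁻¹) = 1 := by
      rw [conj_mul_conj, hrr, mul_one, mul_inv_cancel]
    exact (map_mul π _ _).symm.trans ((congrArg π h5).trans (map_one π))
  have hxy : π (rfl' Q u) ≠ π (δ * rfl' Q u * δ⁻¹) := by
    intro h
    apply ht1
    rw [map_mul, ← h, hx]
  have hcomm : π (rfl' Q u) * π (δ * rfl' Q u * δ⁻¹)
      = π (δ * rfl' Q u * δ⁻¹) * π (rfl' Q u) := by
    have h5 : (π (rfl' Q u) * π (δ * rfl' Q u * δ⁻¹))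
        * (π (rfl' Q u) * π (δ * rfl' Q u * δ⁻¹)) = 1 := by
      rw [← map_mul, ← map_mul, ht2]
    have hxi : (π (rfl' Q u))⁻¹ = π (rfl' Q u) := inv_eq_of_mul_eq_one_left hx
    have hyi : (π (δ * rfl' Q u * δ⁻¹))⁻¹ = π (δ * rfl' Q u * δ⁻¹) := inv_eq_of_mul_eq_one_left hy
    calc π (rfl' Q u) * π (δ * rfl' Q u * δ⁻¹)
        = (π (rfl' Q u) * π (δ * rfl' Q u * δ⁻¹))⁻¹ := (inv_eq_of_mul_eq_one_left h5).symm
      _ = (π (δ * rfl' Q u * δ⁻¹))⁻¹ * (π (rfl' Q u))⁻¹ := mul_inv_rev _ _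
      _ = π (δ * rfl' Q u * δ⁻¹) * π (rfl' Q u) := by rw [hxi, hyi]
  have hd : π δ * π (rfl' Q u) * (π δ)⁻¹ = π (δ * rfl' Q u * δ⁻¹) := by
    rw [map_mul, map_mul, map_inv]
  obtain ⟨e⟩ := Cfsg.Agent.Lib.Helper45.D8.d4_of_card_eight h8 _ _ _ hx hxy hcomm hd
  refine ⟨e.toMonoidHom.comp (QuotientGroup.mk' N), ?_, ?_⟩
  · exact e.surjective.comp (QuotientGroup.mk'_surjective N)
  · ext p
    rw [MonoidHom.mem_ker, MonoidHom.comp_apply, MulEquiv.coe_toMonoidHom,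
      MulEquiv.map_eq_one_iff, QuotientGroup.mk'_apply, QuotientGroup.eq_one_iff]

end Cfsg.Agent.Lib.Helper45.OmegaAutD8
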