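import Mathlib

set_option autoImplicit false

/-! Identifying small quotients `P ⧸ N` (orders 2 and 4) with standard groups, in the form
"there is a surjective homomorphism with kernel `N`". -/

namespace Cfsg.Agent.Lib.Helper45.QuotSmall

variable {P : Type*} [Group P]

/-- A quotient isomorphic to `M` gives a surjective homomorphism onto `M` with kernel `N`. -/
theorem hom_of_equiv (N : Subgroup P) [N.Normal] {M : Type*} [Group M] (e : P ⧸ N ≃* M) :
    ∃ φ : P →* M, Function.Surjective φ ∧ φ.ker = N := by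
  refine ⟨e.toMonoidHom.comp (QuotientGroup.mk' N), ?_, ?_⟩
  · exact e.surjective.comp (QuotientGroup.mk'_surjective N)
  · ext p
    rw [MonoidHom.mem_ker, MonoidHom.comp_apply, MulEquiv.coe_toMonoidHom,
      MulEquiv.map_eq_one_iff, QuotientGroup.mk'_apply, QuotientGroup.eq_one_iff]

theorem card_mult_zmod (n : ℕ) [NeZero n] : Nat.card (Multiplicative (ZMod n)) = n := by
  rw [Nat.card_eq_fintype_card, Fintype.card_multiplicative, ZMod.card]

/-- Index two: the quotient is cyclic of order 2. -/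
theorem exists_hom_c2 (N : Subgroup P) [N.Normal] (h : N.index = 2) :
    ∃ φ : P →* Multiplicative (ZMod 2), Function.Surjective φ ∧ φ.ker = N := by
  have hc : Nat.card (P ⧸ N) = 2 := by rw [← Subgroup.index_eq_card, h]
  have : Fact (Nat.Prime 2) := ⟨Nat.prime_two⟩
  have : IsCyclic (P ⧸ N) := isCyclic_of_prime_card hc
  exact hom_of_equiv N (mulEquivOfCyclicCardEq (by rw [hc, card_mult_zmod]))

/-- Index four with an element whose square is not in `N`: the quotient is cyclic of order 4. -/
theorem exists_hom_c4 (N : Subgroup P) [N.Normal] (h : N.index = 4) (x : P) (hx : x * x ∉ N) :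
    ∃ φ : P →* Multiplicative (ZMod 4), Function.Surjective φ ∧ φ.ker = N := by
  have hc : Nat.card (P ⧸ N) = 4 := by rw [← Subgroup.index_eq_card, h]
  have : Finite (P ⧸ N) := Nat.finite_of_card_ne_zero (by rw [hc]; norm_num)
  have hx2 : ((x : P ⧸ N)) ^ 2 ≠ 1 := by
    rw [pow_two, ← QuotientGroup.mk_mul, Ne, QuotientGroup.eq_one_iff]
    exact hx
  have hord : orderOf (x : P ⧸ N) = 4 := by
    have hdvd : orderOf (x : P ⧸ N) ∣ 2 ^ 2 := by
      have := orderOf_dvd_natCard (x : P ⧸ N)
      rw [hc] at this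
      exact this
    obtain ⟨i, hi, hi2⟩ := (Nat.dvd_prime_pow Nat.prime_two).mp hdvd
    interval_cases i
    · exfalso
      apply hx2
      rw [pow_zero] at hi2
      rw [orderOf_eq_one_iff.mp hi2, one_pow]
    · exfalso
      apply hx2
      rw [pow_one] at hi2
      rw [← hi2]
      exact pow_orderOf_eq_one _
    · exact hi2
  have : IsCyclic (P ⧸ N) := isCyclic_of_orderOf_eq_card (x : P ⧸ N) (by rw [hord, hc])
  exact hom_of_equiv N (mulEquivOfCyclicCardEq (by rw [hc, card_mult_zmod]))

/-- Index four with two distinct involutions modulo `N`: the quotient is a four-group. -/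
theorem exists_hom_v4 (N : Subgroup P) [N.Normal] (h : N.index = 4) (a b : P)
    (ha : a * a ∈ N) (hb : b * b ∈ N) (ha1 : a ∉ N) (hb1 : b ∉ N) (hab : a⁻¹ * b ∉ N) :
    ∃ φ : P →* Multiplicative (ZMod 2 × ZMod 2), Function.Surjective φ ∧ φ.ker = N := by
  classical
  have hc : Nat.card (P ⧸ N) = 2 ^ 2 := by rw [← Subgroup.index_eq_card, h]; norm_num
  have : Finite (P ⧸ N) := Nat.finite_of_card_ne_zero (by rw [hc]; norm_num)
  let _ : Fintype (P ⧸ N) := Fintype.ofFinite _
  have hncyc : ¬ IsCyclic (P ⧸ N) := by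
    intro hcyc
    have hle := IsCyclic.card_pow_eq_one_le (α := P ⧸ N) (n := 2) (by norm_num)
    have ha' : ((a : P ⧸ N)) ^ 2 = 1 := by
      rw [pow_two, ← QuotientGroup.mk_mul, QuotientGroup.eq_one_iff]; exact ha
    have hb' : ((b : P ⧸ N)) ^ 2 = 1 := by
      rw [pow_two, ← QuotientGroup.mk_mul, QuotientGroup.eq_one_iff]; exact hb
    have ha1' : (a : P ⧸ N) ≠ 1 := by rw [Ne, QuotientGroup.eq_one_iff]; exact ha1
    have hb1' : (b : P ⧸ N) ≠ 1 := by rw [Ne, QuotientGroup.eq_one_iff]; exact hb1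
    have hab' : (a : P ⧸ N) ≠ (b : P ⧸ N) := by
      rw [Ne, QuotientGroup.eq]; exact hab
    have hsub : ({1, (a : P ⧸ N), (b : P ⧸ N)} : Finset (P ⧸ N))
        ⊆ Finset.univ.filter (fun z : P ⧸ N => z ^ 2 = 1) := by
      intro z hz
      simp only [Finset.mem_insert, Finset.mem_singleton] at hz
      rw [Finset.mem_filter]
      refine ⟨Finset.mem_univ _, ?_⟩
      rcases hz with rfl | rfl | rfl
      · exact one_pow 2
      · exact ha'
      · exact hb'
    have h3 : ({1, (a : P ⧸ N), (b : P ⧸ N)} : Finset (P ⧸ N)).card = 3 := by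
      rw [Finset.card_insert_of_notMem, Finset.card_insert_of_notMem, Finset.card_singleton]
      · simpa using hab'
      · simp only [Finset.mem_insert, Finset.mem_singleton, not_or]
        exact ⟨fun h => ha1' h.symm, fun h => hb1' h.symm⟩
    have := Finset.card_le_card hsub
    omega
  have hexp : Monoid.exponent (P ⧸ N) = 2 :=
    (not_isCyclic_iff_exponent_eq_prime Nat.prime_two hc).mp hncyc
  have : IsKleinFour (P ⧸ N) := ⟨hc, hexp⟩
  obtain ⟨e⟩ := IsKleinFour.nonempty_mulEquiv (G₁ := P ⧸ N) (G₂ := Multiplicative (ZMod 2 × ZMod 2))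
  exact hom_of_equiv N e

end Cfsg.Agent.Lib.Helper45.QuotSmall
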