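import Mathlib
import Cfsg.Agent.Lib.Helper45.OmegaAutD8
import Cfsg.Agent.Lib.Helper45.QuotSmall

set_option autoImplicit false

/-! The image `D0` in `Aut(PΩ(Q))` of the similarities `g` with `det g = μ(g)^k` (dimension `2k`),
modulo `Inn(PΩ(Q))`: cyclic of order 2, cyclic of order 4, or a four-group. -/

namespace Cfsg.Agent.Lib.Helper45.OmegaInndiag

open Module QuadraticMap Matrix
open Cfsg.Agent.Lib.Helper44.QSpace Cfsg.Agent.Lib.Helper44.OGroup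
open Cfsg.Agent.Lib.Helper44.OMat Cfsg.Agent.Lib.Helper44.OMat2 Cfsg.Agent.Lib.Helper44.ODet
open Cfsg.Agent.Lib.Helper45.OmegaAut Cfsg.Agent.Lib.Helper45.OmegaAutKer
open Cfsg.Agent.Lib.Helper45.OmegaAutPsi Cfsg.Agent.Lib.Helper45.OmegaAutMain
open Cfsg.Agent.Lib.Helper45.OmegaCenter Cfsg.Agent.Lib.Helper45.OmegaAutIdx
open Cfsg.Agent.Lib.Helper45.OmegaAutD8 Cfsg.Agent.Lib.Helper45.QuotSmall

universe u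

variable {F : Type u} [Field F] [Fintype F] {ι : Type} [Fintype ι] [DecidableEq ι]
variable (Q : QuadraticForm F (ι → F))

/-- The similarities `g` with `det g = μ(g)^k`. -/
noncomputable def G0 {v₀ : ι → F} (hv₀ : Q v₀ ≠ 0) (k : ℕ) :
    Subgroup ↥(Cfsg.Geo.quadSimilarityGroup (F := F) ⇑Q) := (dl Q hv₀ k).ker

/-- Their image in `Aut(PΩ(Q))`. -/
noncomputable def D0 {v₀ : ι → F} (hv₀ : Q v₀ ≠ 0) (k : ℕ) :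
    Subgroup (MulAut (Cfsg.POmega F ⇑Q)) := (G0 Q hv₀ k).map (Phi ⇑Q)

theorem mem_G0 {v₀ : ι → F} (hv₀ : Q v₀ ≠ 0) (k : ℕ)
    (g : ↥(Cfsg.Geo.quadSimilarityGroup (F := F) ⇑Q)) : g ∈ G0 Q hv₀ k ↔ dl Q hv₀ k g = 1 :=
  MonoidHom.mem_ker

theorem neg_one_ne_one (h2 : (2 : F) ≠ 0) : (-1 : Fˣ) ≠ 1 := by
  intro h
  have h' := congrArg (fun t : Fˣ => (t : F)) h
  simp only [Units.val_neg, Units.val_one] at h'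
  apply h2
  linear_combination -h'

theorem dl_rfl' {v₀ : ι → F} (hv₀ : Q v₀ ≠ 0) (k : ℕ) {u : ι → F} (hu : Q u ≠ 0) :
    dl Q hv₀ k (rfl' Q u) = -1 := by
  rw [dl_apply, mu_iso Q hv₀ _ (rfl'_mem_iso Q u), inv_one, one_pow, mul_one, det_rfl' Q hu]

theorem ker_le_G0 (h2 : (2 : F) ≠ 0) (hS : Sep Q) {v₀ : ι → F} (hv₀ : Q v₀ ≠ 0) {k : ℕ}
    (hk : Fintype.card ι = 2 * k) (hn : 5 ≤ Fintype.card ι) :
    (Phi ⇑Q).ker ≤ G0 Q hv₀ k := by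
  intro g hg
  rw [MonoidHom.mem_ker] at hg
  obtain ⟨c, hc⟩ := scalar_of_Phi_eq_one h2 Q hS hn g hg
  have h1 := psi_scalar Q h2 hS hv₀ hk g c hc
  exact (mem_G0 Q hv₀ k g).mpr ((psi_eq_one_iff Q h2 hS hv₀ hk g).mp h1).2

theorem index_G0 (h2 : (2 : F) ≠ 0) (hS : Sep Q) {v₀ : ι → F} (hv₀ : Q v₀ ≠ 0) {k : ℕ}
    (hk : Fintype.card ι = 2 * k) : (G0 Q hv₀ k).index = 2 := by
  rw [Subgroup.index_eq_two_iff]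
  refine ⟨rfl' Q v₀, fun b => ?_⟩
  rw [mem_G0, mem_G0, map_mul, dl_rfl' Q hv₀ k hv₀]
  rcases dl_pm Q hv₀ hS hk b with h | h
  · rw [h, one_mul]
    exact Or.inr ⟨rfl, neg_one_ne_one h2⟩
  · rw [h]
    exact Or.inl ⟨by rw [neg_mul_neg, one_mul], neg_one_ne_one h2⟩

theorem relIndex_D0_pgo (h2 : (2 : F) ≠ 0) (hS : Sep Q) {v₀ : ι → F} (hv₀ : Q v₀ ≠ 0) {k : ℕ}
    (hk : Fintype.card ι = 2 * k) (hn : 5 ≤ Fintype.card ι) :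
    (D0 Q hv₀ k).relIndex (Cfsg.pgoAut F ⇑Q) = 2 := by
  unfold D0
  rw [pgo_eq, MonoidHom.range_eq_map, Subgroup.relIndex_map_map, top_sup_eq,
    Subgroup.relIndex_top_right, sup_eq_left.mpr (ker_le_G0 Q h2 hS hv₀ hk hn)]
  exact index_G0 Q h2 hS hv₀ hk

theorem inn_le_D0 {v₀ : ι → F} (hv₀ : Q v₀ ≠ 0) (k : ℕ) :
    Cfsg.Inn (Cfsg.POmega F ⇑Q) ≤ D0 Q hv₀ k := by
  rw [inn_eq]
  rintro β ⟨s, rfl⟩
  refine ⟨inclΩ ⇑Q s, ?_, rfl⟩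
  rw [SetLike.mem_coe, mem_G0, dl_apply,
    mu_iso Q hv₀ _ (show ((inclΩ ⇑Q s : ↥(Cfsg.Geo.quadSimilarityGroup (F := F) ⇑Q)) : GL ι F)
      ∈ Cfsg.isometryGroup F ⇑Q from (s : ↥(Cfsg.isometryGroup F ⇑Q)).2), inv_one, one_pow, mul_one]
  exact (mem_special_iff Q _).mp (omega_le_special Q s.2)

theorem D0_le_pgo {v₀ : ι → F} (hv₀ : Q v₀ ≠ 0) (k : ℕ) :
    D0 Q hv₀ k ≤ Cfsg.pgoAut F ⇑Q := by
  unfold D0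
  rw [pgo_eq]
  exact Subgroup.map_le_range _ _

theorem relIndex_pso_pgo (h2 : (2 : F) ≠ 0) (hS : Sep Q) {k : ℕ}
    (hk : Fintype.card ι = 2 * k) (hn : 5 ≤ Fintype.card ι)
    (hδ : ∃ g : ↥(Cfsg.Geo.quadSimilarityGroup (F := F) ⇑Q), ¬ IsSquare (mu Q g)) :
    (Cfsg.psoAut F ⇑Q).relIndex (Cfsg.pgoAut F ⇑Q) = 4 := by
  obtain ⟨φ, hφs, hφk⟩ := pgo_mod_pso Q h2 hS hk hn hδ
  show ((Cfsg.psoAut F ⇑Q).subgroupOf (Cfsg.pgoAut F ⇑Q)).index = 4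
  rw [← hφk, Subgroup.index_ker, MonoidHom.range_eq_top.mpr hφs, Subgroup.card_top]
  rw [Nat.card_eq_fintype_card]
  rfl

/-- The index of `Inn` in `D0`: `4` if `-1 ∈ Ω`, `2` otherwise. -/
theorem relIndex_inn_D0 (h2 : (2 : F) ≠ 0) (hS : Sep Q) {v₀ : ι → F} (hv₀ : Q v₀ ≠ 0) {k : ℕ}
    (hk : Fintype.card ι = 2 * k) (hn : 5 ≤ Fintype.card ι)
    (hδ : ∃ g : ↥(Cfsg.Geo.quadSimilarityGroup (F := F) ⇑Q), ¬ IsSquare (mu Q g)) :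
    ((∃ g : ↥(Cfsg.isometryGroup F ⇑Q), g ∈ Cfsg.Omega F ⇑Q ∧
        ((g : GL ι F) : Matrix ι ι F) = -1) →
      (Cfsg.Inn (Cfsg.POmega F ⇑Q)).relIndex (D0 Q hv₀ k) = 4) ∧
    ((¬ ∃ g : ↥(Cfsg.isometryGroup F ⇑Q), g ∈ Cfsg.Omega F ⇑Q ∧
        ((g : GL ι F) : Matrix ι ι F) = -1) →
      (Cfsg.Inn (Cfsg.POmega F ⇑Q)).relIndex (D0 Q hv₀ k) = 2) := by
  have h3 := relIndex_pso_pgo Q h2 hS hk hn hδ
  have h4 := Subgroup.relIndex_mul_relIndex _ _ _ (inn_le_pso Q) (pso_le_pgo Q)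
  have h5 := Subgroup.relIndex_mul_relIndex _ _ _ (inn_le_D0 Q hv₀ k) (D0_le_pgo Q hv₀ k)
  rw [relIndex_D0_pgo Q h2 hS hv₀ hk hn] at h5
  rw [h3] at h4
  constructor
  · intro hneg
    rw [(relIndex_inn_pso Q h2 hS hk hn).1 hneg] at h4
    omega
  · intro hneg
    rw [(relIndex_inn_pso Q h2 hS hk hn).2 hneg] at h4
    omega

/-- `Φ(r_u δ r_u δ⁻¹)` is not inner when `-1 ∈ Ω` and `μ(δ)` is a non-square. -/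
theorem t_not_inn (h2 : (2 : F) ≠ 0) (hS : Sep Q) (hn : 5 ≤ Fintype.card ι)
    (hneg : ∃ g : ↥(Cfsg.isometryGroup F ⇑Q), g ∈ Cfsg.Omega F ⇑Q ∧
        ((g : GL ι F) : Matrix ι ι F) = -1)
    (δ : ↥(Cfsg.Geo.quadSimilarityGroup (F := F) ⇑Q)) (hδ : ¬ IsSquare (mu Q δ))
    {u : ι → F} (hu : Q u ≠ 0) :
    Phi ⇑Q (rfl' Q u * (δ * rfl' Q u * δ⁻¹)) ∉ Cfsg.Inn (Cfsg.POmega F ⇑Q) := by
  obtain ⟨s, hs, hsΩ⟩ := exists_so_elt Q h2 hS (by omega) δ hδ hu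
  have hker := ker_le_of_mem Q h2 hS hn hneg
  have hPhis : Phi ⇑Q (inclSO Q s) = fSO Q s := rfl
  rw [← hs, hPhis, inn_eq']
  rintro ⟨s', hs', hss'⟩
  apply hsΩ
  have h5 : s'⁻¹ * s ∈ (fSO Q).ker := by
    rw [MonoidHom.mem_ker, map_mul, map_inv, hss', inv_mul_cancel]
  have h6 := Subgroup.mul_mem _ hs' (hker h5)
  rw [mul_inv_cancel_left] at h6
  exact Subgroup.mem_subgroupOf.mp h6

/-- The square of `Φ(r_u δ r_u δ⁻¹)` is inner. -/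
theorem t_sq_inn (h2 : (2 : F) ≠ 0) (hS : Sep Q) (hn : 2 ≤ Fintype.card ι)
    (δ : ↥(Cfsg.Geo.quadSimilarityGroup (F := F) ⇑Q)) (hδ : ¬ IsSquare (mu Q δ))
    {u : ι → F} (hu : Q u ≠ 0) :
    Phi ⇑Q ((rfl' Q u * (δ * rfl' Q u * δ⁻¹)) * (rfl' Q u * (δ * rfl' Q u * δ⁻¹)))
      ∈ Cfsg.Inn (Cfsg.POmega F ⇑Q) := by
  have hne : Nonempty ι := by rw [← Fintype.card_pos_iff]; omega
  obtain ⟨s, hs, hsΩ⟩ := exists_so_elt Q h2 hS hn δ hδ hu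
  have hΩidx := index_omega_in_so Q h2 hS hn
  have hPhis : Phi ⇑Q (inclSO Q (s * s)) = fSO Q (s * s) := rfl
  rw [← hs, ← map_mul, hPhis, inn_eq']
  exact Subgroup.mem_map_of_mem _ (Subgroup.mul_self_mem_of_index_two hΩidx s)

/-- `ψ(r_u δ r_u δ⁻¹) = 1`. -/
theorem psi_t (h2 : (2 : F) ≠ 0) (hS : Sep Q) {v₀ : ι → F} (hv₀ : Q v₀ ≠ 0) {k : ℕ}
    (hk : Fintype.card ι = 2 * k)
    (δ : ↥(Cfsg.Geo.quadSimilarityGroup (F := F) ⇑Q)) (u : ι → F) :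
    psi Q h2 hS hv₀ hk (rfl' Q u * (δ * rfl' Q u * δ⁻¹)) = 1 := by
  rw [map_mul, map_mul, map_mul, map_inv, mul_comm (psi Q h2 hS hv₀ hk δ), mul_assoc,
    mul_inv_cancel, mul_one]
  have : ∀ z : Multiplicative (ZMod 2 × ZMod 2), z * z = 1 := by decide
  exact this _

theorem rfl'_mul_self (u : ι → F) : rfl' Q u * rfl' Q u = 1 := by
  apply Subtype.ext
  show ((isoEquiv Q).symm (refl Q u) : ↥(Cfsg.isometryGroup F ⇑Q)).1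
    * ((isoEquiv Q).symm (refl Q u) : ↥(Cfsg.isometryGroup F ⇑Q)).1 = 1
  rw [← Subgroup.coe_mul, ← map_mul, refl_mul_self, map_one, Subgroup.coe_one]

theorem not_pso_of_nonsquare (h2 : (2 : F) ≠ 0) (hS : Sep Q) {v₀ : ι → F} (hv₀ : Q v₀ ≠ 0) {k : ℕ}
    (hk : Fintype.card ι = 2 * k) (hn : 5 ≤ Fintype.card ι)
    (δ : ↥(Cfsg.Geo.quadSimilarityGroup (F := F) ⇑Q)) (hδ : ¬ IsSquare (mu Q δ)) :
    psi Q h2 hS hv₀ hk δ ≠ 1 := by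
  intro h
  exact hδ ((psi_eq_one_iff Q h2 hS hv₀ hk δ).mp h).1

/-- Case `-1 ∉ Ω`: `D0 / Inn` is cyclic of order 2. -/
theorem d0_mod_inn_c2 (h2 : (2 : F) ≠ 0) (hS : Sep Q) {v₀ : ι → F} (hv₀ : Q v₀ ≠ 0) {k : ℕ}
    (hk : Fintype.card ι = 2 * k) (hn : 5 ≤ Fintype.card ι)
    (hδ : ∃ g : ↥(Cfsg.Geo.quadSimilarityGroup (F := F) ⇑Q), ¬ IsSquare (mu Q g))
    (hneg : ¬ ∃ g : ↥(Cfsg.isometryGroup F ⇑Q), g ∈ Cfsg.Omega F ⇑Q ∧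
        ((g : GL ι F) : Matrix ι ι F) = -1) :
    ∃ φ : ↥(D0 Q hv₀ k) →* Multiplicative (ZMod 2), Function.Surjective φ ∧
      φ.ker = (Cfsg.Inn (Cfsg.POmega F ⇑Q)).subgroupOf (D0 Q hv₀ k) :=
  exists_hom_c2 _ ((relIndex_inn_D0 Q h2 hS hv₀ hk hn hδ).2 hneg)

/-- Case `-1 ∈ Ω` and a similarity `δ` with non-square multiplier, `δ²` scalar, `det δ = -μ^k`:
`D0 / Inn` is cyclic of order 4. -/
theorem d0_mod_inn_c4 (h2 : (2 : F) ≠ 0) (hS : Sep Q) {v₀ : ι → F} (hv₀ : Q v₀ ≠ 0) {k : ℕ}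
    (hk : Fintype.card ι = 2 * k) (hn : 5 ≤ Fintype.card ι)
    (hneg : ∃ g : ↥(Cfsg.isometryGroup F ⇑Q), g ∈ Cfsg.Omega F ⇑Q ∧
        ((g : GL ι F) : Matrix ι ι F) = -1)
    (δ : ↥(Cfsg.Geo.quadSimilarityGroup (F := F) ⇑Q)) (hδ : ¬ IsSquare (mu Q δ))
    (hsc : ∃ c : F, ∀ x, (((δ * δ : ↥(Cfsg.Geo.quadSimilarityGroup (F := F) ⇑Q)) : GL ι F) :
      Matrix ι ι F) *ᵥ x = c • x)
    (hdl : dl Q hv₀ k δ = -1) :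
    ∃ φ : ↥(D0 Q hv₀ k) →* Multiplicative (ZMod 4), Function.Surjective φ ∧
      φ.ker = (Cfsg.Inn (Cfsg.POmega F ⇑Q)).subgroupOf (D0 Q hv₀ k) := by
  obtain ⟨c, hc⟩ := hsc
  have hδδ : Phi ⇑Q (δ * δ) = 1 := Phi_eq_one_of_scalar ⇑Q (δ * δ) c hc
  have hmem : δ * rfl' Q v₀ ∈ G0 Q hv₀ k := by
    rw [mem_G0, map_mul, hdl, dl_rfl' Q hv₀ k hv₀, neg_mul_neg, one_mul]
  refine exists_hom_c4 _ ((relIndex_inn_D0 Q h2 hS hv₀ hk hn ⟨δ, hδ⟩).1 hneg)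
    ⟨Phi ⇑Q (δ * rfl' Q v₀), Subgroup.mem_map_of_mem _ hmem⟩ ?_
  rw [Subgroup.mem_subgroupOf]
  show Phi ⇑Q (δ * rfl' Q v₀) * Phi ⇑Q (δ * rfl' Q v₀) ∉ Cfsg.Inn (Cfsg.POmega F ⇑Q)
  have hrr := rfl'_mul_self Q v₀
  have hri : (rfl' Q v₀)⁻¹ = rfl' Q v₀ := inv_eq_of_mul_eq_one_left hrr
  have e1 : δ * rfl' Q v₀ * (δ * rfl' Q v₀)
      = (δ * rfl' Q v₀ * δ⁻¹) * (δ * δ) * rfl' Q v₀ := by group
  have e2 : (rfl' Q v₀ * (δ * rfl' Q v₀ * δ⁻¹))⁻¹ = (δ * rfl' Q v₀ * δ⁻¹) * rfl' Q v₀ := by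
    rw [_root_.mul_inv_rev, _root_.mul_inv_rev, _root_.mul_inv_rev, inv_inv, hri]
    simp only [mul_assoc]
  have e3 : Phi ⇑Q (δ * rfl' Q v₀) * Phi ⇑Q (δ * rfl' Q v₀)
      = (Phi ⇑Q (rfl' Q v₀ * (δ * rfl' Q v₀ * δ⁻¹)))⁻¹ := by
    rw [← map_mul, e1, map_mul, map_mul, hδδ, mul_one, ← map_mul, ← e2, map_inv]
  rw [e3, inv_mem_iff]
  exact t_not_inn Q h2 hS hn hneg δ hδ hv₀

/-- Case `-1 ∈ Ω` and a similarity `δ` with non-square multiplier, `δ²` scalar, `det δ = μ^k`: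
`D0 / Inn` is a four-group. -/
theorem d0_mod_inn_v4 (h2 : (2 : F) ≠ 0) (hS : Sep Q) {v₀ : ι → F} (hv₀ : Q v₀ ≠ 0) {k : ℕ}
    (hk : Fintype.card ι = 2 * k) (hn : 5 ≤ Fintype.card ι)
    (hneg : ∃ g : ↥(Cfsg.isometryGroup F ⇑Q), g ∈ Cfsg.Omega F ⇑Q ∧
        ((g : GL ι F) : Matrix ι ι F) = -1)
    (δ : ↥(Cfsg.Geo.quadSimilarityGroup (F := F) ⇑Q)) (hδ : ¬ IsSquare (mu Q δ))
    (hsc : ∃ c : F, ∀ x, (((δ * δ : ↥(Cfsg.Geo.quadSimilarityGroup (F := F) ⇑Q)) : GL ι F) :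
      Matrix ι ι F) *ᵥ x = c • x)
    (hdl : dl Q hv₀ k δ = 1) :
    ∃ φ : ↥(D0 Q hv₀ k) →* Multiplicative (ZMod 2 × ZMod 2), Function.Surjective φ ∧
      φ.ker = (Cfsg.Inn (Cfsg.POmega F ⇑Q)).subgroupOf (D0 Q hv₀ k) := by
  obtain ⟨c, hc⟩ := hsc
  have hδδ : Phi ⇑Q (δ * δ) = 1 := Phi_eq_one_of_scalar ⇑Q (δ * δ) c hc
  have hmemδ : δ ∈ G0 Q hv₀ k := (mem_G0 Q hv₀ k δ).mpr hdl
  have hψt := psi_t Q h2 hS hv₀ hk δ v₀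
  have hmemt : rfl' Q v₀ * (δ * rfl' Q v₀ * δ⁻¹) ∈ G0 Q hv₀ k :=
    (mem_G0 Q hv₀ k _).mpr ((psi_eq_one_iff Q h2 hS hv₀ hk _).mp hψt).2
  have hψδ := not_pso_of_nonsquare Q h2 hS hv₀ hk hn δ hδ
  refine exists_hom_v4 _ ((relIndex_inn_D0 Q h2 hS hv₀ hk hn ⟨δ, hδ⟩).1 hneg)
    ⟨Phi ⇑Q δ, Subgroup.mem_map_of_mem _ hmemδ⟩
    ⟨Phi ⇑Q (rfl' Q v₀ * (δ * rfl' Q v₀ * δ⁻¹)), Subgroup.mem_map_of_mem _ hmemt⟩ ?_ ?_ ?_ ?_ ?_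
  · rw [Subgroup.mem_subgroupOf]
    show Phi ⇑Q δ * Phi ⇑Q δ ∈ Cfsg.Inn (Cfsg.POmega F ⇑Q)
    rw [← map_mul, hδδ]
    exact Subgroup.one_mem _
  · rw [Subgroup.mem_subgroupOf]
    show Phi ⇑Q (rfl' Q v₀ * (δ * rfl' Q v₀ * δ⁻¹)) * Phi ⇑Q (rfl' Q v₀ * (δ * rfl' Q v₀ * δ⁻¹))
      ∈ Cfsg.Inn (Cfsg.POmega F ⇑Q)
    rw [← map_mul]
    exact t_sq_inn Q h2 hS (by omega) δ hδ hv₀
  · rw [Subgroup.mem_subgroupOf]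
    show Phi ⇑Q δ ∉ Cfsg.Inn (Cfsg.POmega F ⇑Q)
    intro h
    exact hψδ ((psi_eq_one_iff_pso Q h2 hS hv₀ hk hn δ).mpr (inn_le_pso Q h))
  · rw [Subgroup.mem_subgroupOf]
    exact t_not_inn Q h2 hS hn hneg δ hδ hv₀
  · rw [Subgroup.mem_subgroupOf]
    show (Phi ⇑Q δ)⁻¹ * Phi ⇑Q (rfl' Q v₀ * (δ * rfl' Q v₀ * δ⁻¹)) ∉ Cfsg.Inn (Cfsg.POmega F ⇑Q)
    intro h
    rw [← map_inv, ← map_mul] at h
    have h1 := (psi_eq_one_iff_pso Q h2 hS hv₀ hk hn _).mpr (inn_le_pso Q h)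
    rw [map_mul, hψt, mul_one, map_inv, inv_eq_one] at h1
    exact hψδ h1

end Cfsg.Agent.Lib.Helper45.OmegaInndiag
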