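import Mathlib
import Cfsg.Agent.Lib.Helper45.EOStmt

set_option autoImplicit false

/-! Piece statements for S3589: for `q` even, `Sp_8(q)` and the full orthogonal group `GO⁻_8(q)`
have the same set of element orders.

Route.  (⊇) `GO⁻_8(q)` embeds into `Sp_8(q)` (polar form), and `Z(Sp_8(q)) = 1`.
(⊆) For `A ∈ Sp_8(q)` the minimal polynomial is reciprocal of degree `≤ 8`, so (landed `EOStmt.Dvd`)
`orderOf A ∣ lcm(lcm_{a ∈ DA}(q^a-1), lcm_{b ∈ DB}(q^b+1)) * 2^c` with `Σ DA + Σ DB + c ≤ 4`; every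
such number divides one of 12 explicit numbers (`LL q`), and each of the 12 is the order of an
isometry of `H³ ⊥ N` built as a block sum of: Singer cycles of `GL_k(q)` on `H^k` (order `q^k-1`),
isometries of order `q^(n+1)+1` of `H^n ⊥ N` (field trace form), reflections, and explicit
unipotent isometries of order `4`, `8`.

Coordinates: `quadFormPlus k F v = Σ_i v (inl i) * v (inr i)` on `Fin k ⊕ Fin k → F`;
`quadFormMinus m F a b v = Σ_i v (inl (inl i)) * v (inl (inr i)) + (z₁² + a z₁ z₂ + b z₂²)`,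
`z₁ = v (inr 0)`, `z₂ = v (inr 1)`, on `(Fin m ⊕ Fin m) ⊕ Fin 2 → F`.
`isometryGroup F Q = {g : GL ι F | ∀ u, Q (g *ᵥ u) = Q u}`. -/

namespace Cfsg.Agent.Lib.Helper45.S8Stmt

open Cfsg.Agent.Lib.Helper45.EOStmt

universe u

/-- `N` is the order of some isometry of `Q` -/
def HasOrd {F : Type u} [Field F] {ι : Type} [Fintype ι] [DecidableEq ι] (Q : (ι → F) → F)
    (N : ℕ) : Prop :=
  ∃ g : ↥(Cfsg.isometryGroup F Q), orderOf g = N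

/-- anisotropic binary part -/
def Aniso {F : Type u} [Field F] (a b : F) : Prop :=
  ∀ z₁ z₂ : F, z₁ ^ 2 + a * z₁ * z₂ + b * z₂ ^ 2 = 0 → z₁ = 0 ∧ z₂ = 0

/-- [LINORD] a linear isometry gives an element of `isometryGroup` of the same order
(`Matrix.GeneralLinearGroup.toLin'`, `LinearMap.GeneralLinearGroup.generalLinearEquiv`, or
`LinearMap.toMatrix'`; `orderOf_injective`). -/
def LinOrd : Prop := ∀ (F : Type u) [Field F] (ι : Type) [Fintype ι] [DecidableEq ι]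
  (Q : (ι → F) → F) (X : (ι → F) ≃ₗ[F] (ι → F)), (∀ v, Q (X v) = Q v) → HasOrd Q (orderOf X)

/-- [BLOCKPM] block sum `H^k ⊥ (H^m ⊥ N) = H^(k+m) ⊥ N`.
`e : (Fin k ⊕ Fin k) ⊕ ((Fin m ⊕ Fin m) ⊕ Fin 2) ≃ (Fin (k+m) ⊕ Fin (k+m)) ⊕ Fin 2`
(`Fin.castAdd`, `Fin.natAdd`), `Q_(k+m) v = Q⁺_k (v ∘ e ∘ inl) + Q⁻_m (v ∘ e ∘ inr)`
(`Fin.sum_univ_add`); `(A, B) ↦ reindex e e (fromBlocks A 0 0 B)` is an injective monoid hom
`O(Q⁺_k) × O(Q⁻_m) → O(Q⁻_(k+m))`; `Prod.orderOf`, `orderOf_injective`. -/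
def BlockPM : Prop := ∀ (F : Type u) [Field F] (k m : ℕ) (a b : F) (N₁ N₂ : ℕ),
  HasOrd (Cfsg.quadFormPlus k F) N₁ → HasOrd (Cfsg.quadFormMinus m F a b) N₂ →
  HasOrd (Cfsg.quadFormMinus (k + m) F a b) (Nat.lcm N₁ N₂)

/-- [BLOCKPP] block sum `H^k₁ ⊥ H^k₂ = H^(k₁+k₂)` (as [BLOCKPM]). -/
def BlockPP : Prop := ∀ (F : Type u) [Field F] (k₁ k₂ : ℕ) (N₁ N₂ : ℕ),
  HasOrd (Cfsg.quadFormPlus k₁ F) N₁ → HasOrd (Cfsg.quadFormPlus k₂ F) N₂ →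
  HasOrd (Cfsg.quadFormPlus (k₁ + k₂) F) (Nat.lcm N₁ N₂)

/-- [BLOCKMM] in characteristic 2, `N ⊥ N ≅ H²` for `N = z₁² + a z₁ z₂ + b z₂²`, `a ≠ 0`.
Explicit: `T (z₁, z₂, w₁, w₂) = (x₁, y₁, x₂, y₂) := (z₁ + w₁, z₁ + w₁ + a z₂, z₂ + w₂,
b z₂ + b w₂ + a w₁)` is a linear bijection (`a ≠ 0`) with `x₁ y₁ + x₂ y₂ = N(z) + N(w)`.
So `(g₁, g₂) ↦ T ∘ (g₁ ⊕ g₂) ∘ T⁻¹` is an injective hom `O(N) × O(N) → O(H²)`. -/
def BlockMM : Prop := ∀ (F : Type u) [Field F] [CharP F 2] (a b : F), a ≠ 0 → ∀ N₁ N₂ : ℕ,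
  HasOrd (Cfsg.quadFormMinus 0 F a b) N₁ → HasOrd (Cfsg.quadFormMinus 0 F a b) N₂ →
  HasOrd (Cfsg.quadFormPlus 2 F) (Nat.lcm N₁ N₂)

/-- [GLEMB] `GL_k` acts on `H^k`: `(x, y) ↦ (A x, A⁻ᵀ y)`, i.e. the matrix
`fromBlocks A 0 0 (A⁻¹)ᵀ`; injective hom. -/
def GlEmb : Prop := ∀ (F : Type u) [Field F] (k : ℕ) (A : GL (Fin k) F),
  HasOrd (Cfsg.quadFormPlus k F) (orderOf A)

/-- [SINGER] a Singer cycle: multiplication by a generator of `K^×`, `K` the extension of degree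
`k`, in an `F`-basis of `K`.  (The construction is inside `Cfsg.Agent.S2261`, second part.) -/
def Singer : Prop := ∀ (F : Type u) [Field F] [Fintype F] (k : ℕ), 1 ≤ k →
  ∃ A : GL (Fin k) F, orderOf A = Fintype.card F ^ k - 1

/-- [P2] the swap `(x, y) ↦ (y, x)` of `H`. -/
def P2 : Prop := ∀ (F : Type u) [Field F], HasOrd (Cfsg.quadFormPlus 1 F) 2

/-- [P4] `(x₁, y₁, x₂, y₂) ↦ (y₂, x₂, x₁, y₁)` on `H²` has order 4 (its square is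
`(y₁, x₁, y₂, x₂)`). -/
def P4 : Prop := ∀ (F : Type u) [Field F], HasOrd (Cfsg.quadFormPlus 2 F) 4

/-- [U3P] characteristic 2: in the coordinates `(x₁, y₁, x₂, y₂, x₃, y₃)` the matrix (acting on
column vectors) with rows
`[1,0,1,0,1,0] [0,1,0,0,0,0] [0,0,1,0,1,0] [0,1,0,1,0,0] [0,0,0,1,0,1] [0,0,0,0,1,0]`
preserves `x₁y₁ + x₂y₂ + x₃y₃`; `g⁸ = 1`, `g⁴ ≠ 1` (`g⁴` has the entry `1` at row 1, column 4). -/
def U3P : Prop := ∀ (F : Type u) [Field F] [CharP F 2], HasOrd (Cfsg.quadFormPlus 3 F) 8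

/-- [U3M] characteristic 2, `a ≠ 0`: in the coordinates `(x₁, y₁, x₂, y₂, z₁, z₂)` the matrix with
rows `[1,0,1,b,a,a²] [0,1,0,0,0,0] [0,0,1,b,a,a²] [0,1,0,1,0,0] [0,0,0,0,1,a] [0,0,0,1,0,1]`
preserves `x₁y₁ + x₂y₂ + z₁² + a z₁z₂ + b z₂²`; `g⁸ = 1`, and `g⁴ = 1 +` (entries `a²` at
(row 1, column 4) and (row 3, column 2)) `≠ 1`. -/
def U3M : Prop := ∀ (F : Type u) [Field F] [CharP F 2] (a b : F), a ≠ 0 →
  HasOrd (Cfsg.quadFormMinus 2 F a b) 8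

/-- [R1] characteristic 2, `a ≠ 0`: `(z₁, z₂) ↦ (z₁ + a z₂, z₂)` is an isometry of order 2 of
`z₁² + a z₁z₂ + b z₂²`. -/
def R1 : Prop := ∀ (F : Type u) [Field F] [CharP F 2] (a b : F), a ≠ 0 →
  HasOrd (Cfsg.quadFormMinus 0 F a b) 2

/-- [MBL] an isometry of order `q^(n+1) + 1` of the minus-type form of dimension `2n + 2`.
Adapt `Cfsg.Agent.Lib.Helper44.Der5.exists_singer_minus`: `K = FiniteField.Extension F 2 (2(n+1))`,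
`ζ` a unit of order `q^(n+1) + 1` (`K^×` cyclic of order `q^(2(n+1)) - 1`), then
`ζ * sig ζ = ζ^(q^(n+1)+1) = 1`, `mulE ζ ∈ O(trQ)`; `trQ` is not hyperbolic by `not_hyp_of_free`
applied to a power of `ζ` of odd prime order `r ∣ q^(n+1)+1`; `exists_iso_minus`, `conjE`;
`orderOf (conjE Ψ (mulE ζ)) = orderOf ζ` (`mulE_pow`, `conjE_pow`). -/
def MBL : Prop := ∀ (F : Type u) [Field F] [Fintype F] [CharP F 2] (a b : F), Aniso a b →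
  ∀ n : ℕ, ∃ X : ((Fin n ⊕ Fin n) ⊕ Fin 2 → F) ≃ₗ[F] ((Fin n ⊕ Fin n) ⊕ Fin 2 → F),
    (∀ v, Cfsg.quadFormMinus n F a b (X v) = Cfsg.quadFormMinus n F a b v) ∧
    orderOf X = Fintype.card F ^ (n + 1) + 1

/-- the 12 maximal element orders -/
def LL (q : ℕ) : List ℕ :=
  [q ^ 4 + 1, Nat.lcm (q ^ 2 - 1) (q ^ 2 + 1), Nat.lcm (q ^ 3 - 1) (q + 1),
   Nat.lcm (q - 1) (q ^ 3 + 1), Nat.lcm (q ^ 3 - 1) 2, Nat.lcm 2 (q ^ 3 + 1),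
   Nat.lcm (Nat.lcm (q - 1) 2) (q ^ 2 + 1), Nat.lcm (Nat.lcm (q + 1) 2) (q ^ 2 + 1),
   Nat.lcm (Nat.lcm (q - 1) 4) (q + 1), Nat.lcm 4 (q ^ 2 + 1), Nat.lcm (q - 1) 8,
   Nat.lcm 8 (q + 1)]

/-- [ARITH] (checked by machine for `q = 2, 4, ..., 64`).  `DA, DB ⊆ {1,2,3,4}` with
`Σ DA + Σ DB + c ≤ 4`.  E.g. `c = 0`: `q⁴-1 = lcm(q²-1, q²+1)` absorbs `DA = {4}`, `{2},{2}`,
`{1},{1,2}`; `lcm(q³-1, q+1)` absorbs `{1,3},∅` and `{3},{1}`; `lcm(q-1, q³+1)` absorbs `∅,{1,3}`,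
`{1},{3}`; `c = 1`: `2(q³∓1)`, `lcm(lcm(q∓1, 2), q²+1)`, and `{1,2},∅`, `{2},{1}`, `{1},{1}`
(`2(q²-1)`) go into `lcm(lcm(q-1,4), q+1) = 4(q²-1)`; `c = 2`: `4(q²-1)`, `lcm(4, q²+1)`;
`c = 3`: `lcm(q-1, 8)`, `lcm(8, q+1)`.  (`c ≤ 3` is a hypothesis.)  Useful: `q` even, so
`gcd(q^i - 1, q^j + 1) = 1`-type facts are NOT needed if you argue by `Nat.lcm_dvd` and
`Nat.dvd_lcm_left/right`, `X^a - 1 ∣ X^(a t) - 1`, `q + 1 ∣ q² - 1`, `q + 1 ∣ q³ + 1`,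
`q² - 1 ∣ q⁴ - 1`, and coprimality of `2^c` with odd numbers (`Nat.Coprime.mul_dvd_of_dvd_of_dvd`). -/
def Arith : Prop := ∀ (q f : ℕ), 1 ≤ f → q = 2 ^ f → ∀ (DA DB : Finset ℕ) (c : ℕ),
  (∀ a ∈ DA, 1 ≤ a) → (∀ b ∈ DB, 1 ≤ b) → DA.sum id + DB.sum id + c ≤ 4 → c ≤ 3 →
  ∃ N ∈ LL q, Nat.lcm (SA q DA) (SB q DB) * 2 ^ c ∣ N

/-- [UPPER] from the landed `EOStmt.Dvd` (`p = 2`, so `em = 0`, `sgn 0 = 1`) and `EOStmt.RcMin`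
(`J = Matrix.J (Fin 4) F`, `Aᵀ J A = J` by `Matrix.SymplecticGroup.transpose_mem`, as in
`Helper38.EOFINSP`): `minpoly ∣ X^KK - 1` gives `A^KK = 1`; `c := Nat.clog 2 (max E ep)`; the budget
`2(Σ DA + Σ DB) + 2d(E-1) + ep ≤ 8`, `d ≥ 1`, `(DA = ∅ → DB = ∅ → E ≤ 1)` gives `E ≤ 5`, `ep ≤ 8`,
`Σ + c ≤ 4`, `c ≤ 3` (finite check on `E`, `ep`). -/
def Upper : Prop := ∀ (F : Type u) [Field F] [Fintype F] [CharP F 2]
  (A : Matrix.symplecticGroup (Fin 4) F),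
  ∃ (DA DB : Finset ℕ) (c : ℕ), (∀ a ∈ DA, 1 ≤ a) ∧ (∀ b ∈ DB, 1 ≤ b) ∧
    DA.sum id + DB.sum id + c ≤ 4 ∧ c ≤ 3 ∧
    orderOf A ∣ Nat.lcm (SA (Fintype.card F) DA) (SB (Fintype.card F) DB) * 2 ^ c

/-- [EMBED] `GO⁻_8 ≤ Sp_8` in characteristic 2.  An isometry `h` preserves the polar form, whose
Gram matrix `G` has `G (x_i, y_i) = G (y_i, x_i) = 1`, `G (z₁, z₂) = G (z₂, z₁) = a`, `0` else, so
`hᵀ G h = G` (cf. `Helper38.EOFINQ`).  Reindex by `Fin 4 ⊕ Fin 4 ≃ (Fin 3 ⊕ Fin 3) ⊕ Fin 2`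
(`inl i ↦ x_i`, `inl 3 ↦ z₁`, `inr i ↦ y_i`, `inr 3 ↦ z₂`) and conjugate by
`P = diag(1,1,1,1,1,1,1,a⁻¹)`: `Pᵀ G P = J` (`-1 = 1`), so `P⁻¹ h P` is symplectic. -/
def Embed : Prop := ∀ (F : Type u) [Field F] [CharP F 2] (a b : F), a ≠ 0 →
  ∃ φ : ↥(Cfsg.isometryGroup F (Cfsg.quadFormMinus 3 F a b)) →*
      ↥(Matrix.symplecticGroup (Fin 4) F), Function.Injective φ

/-- [PSPORD] `Z(Sp_8(q)) = 1` for `q` even (`Cfsg.Agent.S0246.result`: the centre has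
`gcd 2 (q-1)` elements), so the quotient map is injective. -/
def PspOrd : Prop := ∀ (F : Type u) [Field F] [Fintype F] [CharP F 2]
  (A : Matrix.symplecticGroup (Fin 4) F),
  orderOf (QuotientGroup.mk A : Cfsg.PSp 4 F) = orderOf A

end Cfsg.Agent.Lib.Helper45.S8Stmt
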