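import Mathlib
import Cfsg.Agent.Lib.Helper45.OmegaAutMain

set_option autoImplicit false

/-! Similarities with non-square multiplier for the plus and minus type forms (odd `q`). -/

namespace Cfsg.Agent.Lib.Helper45.OmegaAutSim

open Module QuadraticMap Matrix
open Cfsg.Agent.Lib.Helper44.QSpace Cfsg.Agent.Lib.Helper44.OGroup
open Cfsg.Agent.Lib.Helper44.OMat Cfsg.Agent.Lib.Helper44.NegPairs
open Cfsg.Agent.Lib.Helper45.OmegaAut Cfsg.Agent.Lib.Helper45.OmegaAutPsi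
open Cfsg.Agent.Lib.Helper45.OmegaAutMain

universe u

variable {F : Type u} [Field F] {ι : Type} [Fintype ι] [DecidableEq ι]

/-- A linear map multiplying a nondegenerate form by `ν ≠ 0` is a similarity with multiplier `ν`. -/
theorem exists_sim_of_linear (Q : QuadraticForm F (ι → F)) (hS : Sep Q) {v₀ : ι → F}
    (hv₀ : Q v₀ ≠ 0) (L : (ι → F) →ₗ[F] (ι → F)) (ν : Fˣ)
    (hL : ∀ v, Q (L v) = (ν : F) * Q v) :
    ∃ g : ↥(Cfsg.Geo.quadSimilarityGroup (F := F) ⇑Q), mu Q g = ν := by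
  have hpol : ∀ x y, polar Q (L x) (L y) = (ν : F) * polar Q x y := by
    intro x y
    unfold polar
    rw [← map_add, hL, hL, hL]; ring
  have hinj : Function.Injective L := by
    rw [injective_iff_map_eq_zero]
    intro v hv
    apply hS
    intro y
    have h := hpol v y
    rw [hv, polar_zero_left] at h
    exact (mul_eq_zero.mp h.symm).resolve_left ν.ne_zero
  have he : ∀ x, (LinearEquiv.ofInjectiveEndo L hinj) x = L x := fun x => rfl
  have hg : (glEquiv.symm (LinearEquiv.ofInjectiveEndo L hinj) : GL ι F)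
      ∈ Cfsg.Geo.quadSimilarityGroup (F := F) ⇑Q :=
    ⟨ν, fun v => by rw [glEquiv_symm_mulVec, he, hL]⟩
  exact ⟨⟨_, hg⟩, mu_unique Q hv₀ _ ν (fun v => by
    show Q (((glEquiv.symm (LinearEquiv.ofInjectiveEndo L hinj) : GL ι F) : Matrix ι ι F) *ᵥ v) = _
    rw [glEquiv_symm_mulVec, he, hL])⟩

variable [Fintype F]

theorem exists_nonsquare_unit (h2 : (2 : F) ≠ 0) : ∃ ν : Fˣ, ¬ IsSquare ν ∧ ¬ IsSquare (ν : F) := by
  obtain ⟨a, ha⟩ := FiniteField.exists_nonsquare (ringChar_ne h2)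
  have ha0 : a ≠ 0 := by
    rintro rfl
    exact ha IsSquare.zero
  refine ⟨Units.mk0 a ha0, ?_, ha⟩
  rintro ⟨r, hr⟩
  apply ha
  refine ⟨(r : F), ?_⟩
  have := congrArg (fun t : Fˣ => (t : F)) hr
  simpa using this

/-- Plus type: a similarity with non-square multiplier. -/
theorem plus_sim (h2 : (2 : F) ≠ 0) (m : ℕ) (hm : 1 ≤ m) :
    ∃ g : ↥(Cfsg.Geo.quadSimilarityGroup (F := F) ⇑(plusQ m F)), ¬ IsSquare (mu (plusQ m F) g) := by
  obtain ⟨ν, hν, -⟩ := exists_nonsquare_unit (F := F) h2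
  have : Nontrivial (Fin m ⊕ Fin m → F) := by
    have : Nonempty (Fin m ⊕ Fin m) := ⟨Sum.inl ⟨0, by omega⟩⟩
    infer_instance
  obtain ⟨v₀, hv₀⟩ := exists_ne_zero (sep_plusQ (F := F) m)
  let L : (Fin m ⊕ Fin m → F) →ₗ[F] (Fin m ⊕ Fin m → F) :=
    LinearMap.pi (fun i => (Sum.elim (fun _ => (ν : F)) (fun _ => (1 : F)) i) • LinearMap.proj i)
  have hL : ∀ v, plusQ m F (L v) = (ν : F) * plusQ m F v := by
    intro v
    show Cfsg.quadFormPlus m F (L v) = (ν : F) * Cfsg.quadFormPlus m F v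
    unfold Cfsg.quadFormPlus
    rw [Finset.mul_sum]
    apply Finset.sum_congr rfl
    intro i _
    simp only [L, LinearMap.pi_apply, LinearMap.smul_apply, LinearMap.proj_apply, Sum.elim_inl,
      Sum.elim_inr, smul_eq_mul]
    ring
  obtain ⟨g, hg⟩ := exists_sim_of_linear (plusQ m F) (sep_plusQ m) hv₀ L ν hL
  exact ⟨g, by rw [hg]; exact hν⟩

/-- Minus type: a similarity with non-square multiplier. -/
theorem minus_sim (h2 : (2 : F) ≠ 0) (m : ℕ) (a b : F)
    (hab : ∀ z₁ z₂ : F, z₁ ^ 2 + a * z₁ * z₂ + b * z₂ ^ 2 = 0 → z₁ = 0 ∧ z₂ = 0) :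
    ∃ g : ↥(Cfsg.Geo.quadSimilarityGroup (F := F) ⇑(minusQ m F a b)),
      ¬ IsSquare (mu (minusQ m F a b) g) := by
  obtain ⟨ν, hν, -⟩ := exists_nonsquare_unit (F := F) h2
  have hS := sep_minusQ h2 m a b hab
  have : Nontrivial ((Fin m ⊕ Fin m) ⊕ Fin 2 → F) := by
    have : Nonempty ((Fin m ⊕ Fin m) ⊕ Fin 2) := ⟨Sum.inr 0⟩
    infer_instance
  obtain ⟨v₀, hv₀⟩ := exists_ne_zero hS
  -- the binary form represents `ν`
  have hD : b - a ^ 2 / 4 ≠ 0 := by
    intro hD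
    have h4 : (4 : F) ≠ 0 := by
      have : (4 : F) = 2 * 2 := by norm_num
      rw [this]; exact mul_ne_zero h2 h2
    have hb : b = a ^ 2 / 4 := sub_eq_zero.mp hD
    have := (hab (-a / 2) 1 (by rw [hb]; field_simp; ring)).2
    exact one_ne_zero this
  obtain ⟨s, t, hst⟩ := Cfsg.Agent.Lib.Helper44.FinSq.exists_sq_add_sq (one_ne_zero (α := F)) hD
    (ν : F)
  obtain ⟨c, d, hcd⟩ : ∃ c d : F, c ^ 2 + a * c * d + b * d ^ 2 = (ν : F) := by
    refine ⟨s - a / 2 * t, t, ?_⟩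
    have h4 : (4 : F) ≠ 0 := by
      have : (4 : F) = 2 * 2 := by norm_num
      rw [this]; exact mul_ne_zero h2 h2
    rw [← hst]
    field_simp
    ring
  let L : ((Fin m ⊕ Fin m) ⊕ Fin 2 → F) →ₗ[F] ((Fin m ⊕ Fin m) ⊕ Fin 2 → F) :=
    LinearMap.pi (fun i => Sum.elim
      (Sum.elim (fun j => (ν : F) • LinearMap.proj (Sum.inl (Sum.inl j)))
        (fun j => LinearMap.proj (Sum.inl (Sum.inr j))))
      (fun t => if t = 0 then c • LinearMap.proj (Sum.inr 0) - (b * d) • LinearMap.proj (Sum.inr 1)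
        else d • LinearMap.proj (Sum.inr 0) + (c + a * d) • LinearMap.proj (Sum.inr 1)) i)
  have hL : ∀ v, minusQ m F a b (L v) = (ν : F) * minusQ m F a b v := by
    intro v
    show Cfsg.quadFormMinus m F a b (L v) = (ν : F) * Cfsg.quadFormMinus m F a b v
    unfold Cfsg.quadFormMinus
    have e1 : ∀ i : Fin m, L v (Sum.inl (Sum.inl i)) = (ν : F) * v (Sum.inl (Sum.inl i)) := by
      intro i; simp [L]
    have e2 : ∀ i : Fin m, L v (Sum.inl (Sum.inr i)) = v (Sum.inl (Sum.inr i)) := by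
      intro i; simp [L]
    have e3 : L v (Sum.inr 0) = c * v (Sum.inr 0) - b * d * v (Sum.inr 1) := by
      simp [L]
    have e4 : L v (Sum.inr 1) = d * v (Sum.inr 0) + (c + a * d) * v (Sum.inr 1) := by
      simp [L]
    have hsum : ∑ i : Fin m, L v (Sum.inl (Sum.inl i)) * L v (Sum.inl (Sum.inr i))
        = (ν : F) * ∑ i : Fin m, v (Sum.inl (Sum.inl i)) * v (Sum.inl (Sum.inr i)) := by
      rw [Finset.mul_sum]
      apply Finset.sum_congr rfl
      intro i _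
      rw [e1, e2]; ring
    rw [hsum, e3, e4]
    linear_combination (v (Sum.inr 0) ^ 2 + a * v (Sum.inr 0) * v (Sum.inr 1)
        + b * v (Sum.inr 1) ^ 2) * hcd
  obtain ⟨g, hg⟩ := exists_sim_of_linear (minusQ m F a b) hS hv₀ L ν hL
  exact ⟨g, by rw [hg]; exact hν⟩

end Cfsg.Agent.Lib.Helper45.OmegaAutSim
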