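import Mathlib
import Cfsg.Agent.Lib.Helper45.OmegaInndiag
import Cfsg.Agent.Lib.Helper45.SingClass
import Cfsg.Agent.Lib.Helper45.OmegaAutSim
import Cfsg.Agent.S2629

set_option autoImplicit false

/-! `Inndiag(PΩ⁺_{2m}(q))` as the image of the similarities with `det g = μ(g)^m` (odd `q`). -/

namespace Cfsg.Agent.Lib.Helper45.PlusInndiag

open Module QuadraticMap Matrix
open Cfsg.Agent.Lib.Helper44.QSpace Cfsg.Agent.Lib.Helper44.OGroup
open Cfsg.Agent.Lib.Helper44.OMat Cfsg.Agent.Lib.Helper44.NegPairs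
open Cfsg.Agent.Lib.Helper44.MaxTS Cfsg.Agent.Lib.Helper44.MaxTS3
open Cfsg.Agent.Lib.Helper45.OmegaAut Cfsg.Agent.Lib.Helper45.OmegaAutPsi
open Cfsg.Agent.Lib.Helper45.OmegaAutMain Cfsg.Agent.Lib.Helper45.OmegaInndiag
open Cfsg.Agent.Lib.Helper45.SingClass

universe u

section Generic

variable {F : Type u} [Field F] {ι : Type} [Fintype ι] [DecidableEq ι]

/-- A linear map multiplying a nondegenerate form by `ν ≠ 0` is the action of a similarity. -/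
theorem exists_sim_mulVec (Q : QuadraticForm F (ι → F)) (hS : Sep Q)
    (L : (ι → F) →ₗ[F] (ι → F)) (ν : Fˣ) (hL : ∀ v, Q (L v) = (ν : F) * Q v) :
    ∃ g : ↥(Cfsg.Geo.quadSimilarityGroup (F := F) ⇑Q),
      ∀ v, ((g : GL ι F) : Matrix ι ι F) *ᵥ v = L v := by
  have hpol : ∀ x y, polar Q (L x) (L y) = (ν : F) * polar Q x y := by
    intro x y
    unfold polar
    rw [← map_add, hL, hL, hL]; ring
  have hinj : Function.Injective L := by
    rw [injective_iff_map_eq_zero]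
    intro v hv
    apply hS
    intro y
    have h := hpol v y
    rw [hv, polar_zero_left] at h
    exact (mul_eq_zero.mp h.symm).resolve_left ν.ne_zero
  have he : ∀ x, (LinearEquiv.ofInjectiveEndo L hinj) x = L x := fun x => rfl
  have hg : (glEquiv.symm (LinearEquiv.ofInjectiveEndo L hinj) : GL ι F)
      ∈ Cfsg.Geo.quadSimilarityGroup (F := F) ⇑Q :=
    ⟨ν, fun v => by rw [glEquiv_symm_mulVec, he, hL]⟩
  exact ⟨⟨_, hg⟩, fun v => by
    show ((glEquiv.symm (LinearEquiv.ofInjectiveEndo L hinj) : GL ι F) : Matrix ι ι F) *ᵥ v = _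
    rw [glEquiv_symm_mulVec, he]⟩

end Generic

variable {F : Type u} [Field F]

/-- The standard maximal totally singular subspace `y = 0`. -/
abbrev U0 (m : ℕ) (F : Type u) [Field F] : Submodule F (Fin m ⊕ Fin m → F) :=
  LinearMap.ker (LinearMap.funLeft F F (Sum.inr : Fin m → Fin m ⊕ Fin m))

theorem mem_U0 {m : ℕ} (v : Fin m ⊕ Fin m → F) : v ∈ U0 m F ↔ ∀ i, v (Sum.inr i) = 0 := by
  rw [LinearMap.mem_ker]
  constructor
  · intro h i
    exact congrFun h i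
  · intro h
    funext i
    exact h i

/-- The linear map `(x, y) ↦ (μ x, y)`. -/
def Ld (m : ℕ) (μ : F) : (Fin m ⊕ Fin m → F) →ₗ[F] (Fin m ⊕ Fin m → F) :=
  LinearMap.pi (fun i => (Sum.elim (fun _ => μ) (fun _ => (1 : F)) i) • LinearMap.proj i)

theorem Ld_inl (m : ℕ) (μ : F) (v : Fin m ⊕ Fin m → F) (i : Fin m) :
    Ld m μ v (Sum.inl i) = μ * v (Sum.inl i) := by simp [Ld]

theorem Ld_inr (m : ℕ) (μ : F) (v : Fin m ⊕ Fin m → F) (i : Fin m) :
    Ld m μ v (Sum.inr i) = v (Sum.inr i) := by simp [Ld]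

theorem Ld_sim (m : ℕ) (μ : F) (v : Fin m ⊕ Fin m → F) :
    plusQ m F (Ld m μ v) = μ * plusQ m F v := by
  show Cfsg.quadFormPlus m F (Ld m μ v) = μ * Cfsg.quadFormPlus m F v
  unfold Cfsg.quadFormPlus
  rw [Finset.mul_sum]
  apply Finset.sum_congr rfl
  intro i _
  rw [Ld_inl, Ld_inr]; ring

theorem Ld_eq_diag (m : ℕ) (μ : F) (v : Fin m ⊕ Fin m → F) :
    Ld m μ v = Matrix.diagonal (Sum.elim (fun _ => μ) (fun _ => (1 : F))) *ᵥ v := by
  funext i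
  rw [Matrix.mulVec_diagonal]
  simp [Ld]

/-- The linear map `(x, y) ↦ (y, μ x)`. -/
def Ls (m : ℕ) (μ : F) : (Fin m ⊕ Fin m → F) →ₗ[F] (Fin m ⊕ Fin m → F) :=
  LinearMap.pi (fun i => Sum.elim (fun j => LinearMap.proj (Sum.inr j))
    (fun j => μ • LinearMap.proj (Sum.inl j)) i)

theorem Ls_inl (m : ℕ) (μ : F) (v : Fin m ⊕ Fin m → F) (i : Fin m) :
    Ls m μ v (Sum.inl i) = v (Sum.inr i) := by simp [Ls]

theorem Ls_inr (m : ℕ) (μ : F) (v : Fin m ⊕ Fin m → F) (i : Fin m) :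
    Ls m μ v (Sum.inr i) = μ * v (Sum.inl i) := by simp [Ls]

theorem Ls_sim (m : ℕ) (μ : F) (v : Fin m ⊕ Fin m → F) :
    plusQ m F (Ls m μ v) = μ * plusQ m F v := by
  show Cfsg.quadFormPlus m F (Ls m μ v) = μ * Cfsg.quadFormPlus m F v
  unfold Cfsg.quadFormPlus
  rw [Finset.mul_sum]
  apply Finset.sum_congr rfl
  intro i _
  rw [Ls_inl, Ls_inr]; ring

theorem Ls_Ls (m : ℕ) (μ : F) (v : Fin m ⊕ Fin m → F) : Ls m μ (Ls m μ v) = μ • v := by
  funext i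
  rcases i with i | i
  · rw [Ls_inl, Ls_inr]; rfl
  · rw [Ls_inr, Ls_inl]; rfl

variable [Fintype F]

/-- **Parity criterion for similarities of the hyperbolic form**: `g U₀` lies in the class of
`U₀` iff `det g = μ(g)^m`. -/
theorem plus_parity_iff (h2 : (2 : F) ≠ 0) {m : ℕ} (hm : 1 ≤ m) {v₀ : Fin m ⊕ Fin m → F}
    (hv₀ : plusQ m F v₀ ≠ 0)
    (g : ↥(Cfsg.Geo.quadSimilarityGroup (F := F) ⇑(plusQ m F))) :
    Even (m - finrank F ↥(U0 m F ⊓ (U0 m F).map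
        (Matrix.toLin' ((g : GL (Fin m ⊕ Fin m) F) : Matrix (Fin m ⊕ Fin m) (Fin m ⊕ Fin m) F))))
      ↔ dl (plusQ m F) hv₀ m g = 1 := by
  have hS : Sep (plusQ m F) := sep_plusQ m
  obtain ⟨d, hd⟩ := exists_sim_mulVec (plusQ m F) hS (Ld m (mu (plusQ m F) g : F)) (mu (plusQ m F) g) (Ld_sim m _)
  have hμd : mu (plusQ m F) d = mu (plusQ m F) g := mu_unique (plusQ m F) hv₀ d _ (fun v => by rw [hd, Ld_sim])
  -- the isometry `h = d⁻¹ g`
  have hμh : mu (plusQ m F) (d⁻¹ * g) = 1 := by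
    have := map_mul (muHom (plusQ m F) hv₀) d⁻¹ g
    rw [muHom_apply, muHom_apply, muHom_apply] at this
    rw [this]
    have h' := map_inv (muHom (plusQ m F) hv₀) d
    rw [muHom_apply, muHom_apply] at h'
    rw [h', hμd, inv_mul_cancel]
  have hiso : ((d⁻¹ * g : ↥(Cfsg.Geo.quadSimilarityGroup (F := F) ⇑(plusQ m F))) : GL (Fin m ⊕ Fin m) F)
      ∈ Cfsg.isometryGroup F ⇑(plusQ m F) := by
    rw [mem_iso_iff']
    intro v
    rw [mu_spec, hμh, Units.val_one, one_mul]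
  have key := Cfsg.Agent.S2629.result h2 hm
    (⟨_, hiso⟩ : ↥(Cfsg.isometryGroup F (Cfsg.quadFormPlus m F)))
  -- `d` fixes `U₀`
  have hdU : (U0 m F).map (glEquiv (d : GL (Fin m ⊕ Fin m) F) :
      (Fin m ⊕ Fin m → F) →ₗ[F] (Fin m ⊕ Fin m → F)) = U0 m F := by
    apply Submodule.eq_of_le_of_finrank_le
    · rintro _ ⟨v, hv, rfl⟩
      show glEquiv (d : GL (Fin m ⊕ Fin m) F) v ∈ U0 m F
      rw [glEquiv_apply, hd, mem_U0]
      intro i
      rw [Ld_inr]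
      exact (mem_U0 v).mp hv i
    · rw [LinearEquiv.finrank_map_eq]
  have hgd : (g : GL (Fin m ⊕ Fin m) F)
      = (d : GL (Fin m ⊕ Fin m) F)
        * ((d⁻¹ * g : ↥(Cfsg.Geo.quadSimilarityGroup (F := F) ⇑(plusQ m F))) : GL (Fin m ⊕ Fin m) F) := by
    rw [← Subgroup.coe_mul, mul_inv_cancel_left]
  have hfin : finrank F ↥(U0 m F ⊓ (U0 m F).map
        (Matrix.toLin' ((g : GL (Fin m ⊕ Fin m) F) : Matrix (Fin m ⊕ Fin m) (Fin m ⊕ Fin m) F)))
      = finrank F ↥(U0 m F ⊓ (U0 m F).map (Matrix.mulVecLin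
        (((d⁻¹ * g : ↥(Cfsg.Geo.quadSimilarityGroup (F := F) ⇑(plusQ m F))) : GL (Fin m ⊕ Fin m) F)
          : Matrix (Fin m ⊕ Fin m) (Fin m ⊕ Fin m) F))) := by
    have e1 : (U0 m F).map
        (Matrix.toLin' ((g : GL (Fin m ⊕ Fin m) F) : Matrix (Fin m ⊕ Fin m) (Fin m ⊕ Fin m) F))
        = ((U0 m F).map (Matrix.mulVecLin
        (((d⁻¹ * g : ↥(Cfsg.Geo.quadSimilarityGroup (F := F) ⇑(plusQ m F))) : GL (Fin m ⊕ Fin m) F)
          : Matrix (Fin m ⊕ Fin m) (Fin m ⊕ Fin m) F))).map (glEquiv (d : GL (Fin m ⊕ Fin m) F) :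
      (Fin m ⊕ Fin m → F) →ₗ[F] (Fin m ⊕ Fin m → F)) := by
      rw [← Submodule.map_comp]
      congr 1
      apply LinearMap.ext
      intro x
      rw [Matrix.toLin'_apply, LinearMap.comp_apply, Matrix.mulVecLin_apply]
      show _ = glEquiv (d : GL (Fin m ⊕ Fin m) F) _
      rw [glEquiv_apply, Matrix.mulVec_mulVec, ← Units.val_mul, ← hgd]
    rw [e1]
    have h5 := finrank_map_inf (glEquiv (d : GL (Fin m ⊕ Fin m) F)) (U0 m F)
      ((U0 m F).map (Matrix.mulVecLin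
        (((d⁻¹ * g : ↥(Cfsg.Geo.quadSimilarityGroup (F := F) ⇑(plusQ m F))) : GL (Fin m ⊕ Fin m) F)
          : Matrix (Fin m ⊕ Fin m) (Fin m ⊕ Fin m) F)))
    rw [hdU] at h5
    exact h5
  rw [hfin]
  have hkey : Even (m - finrank F ↥(U0 m F ⊓ (U0 m F).map (Matrix.mulVecLin
        (((d⁻¹ * g : ↥(Cfsg.Geo.quadSimilarityGroup (F := F) ⇑(plusQ m F))) : GL (Fin m ⊕ Fin m) F)
          : Matrix (Fin m ⊕ Fin m) (Fin m ⊕ Fin m) F)))) ↔
      (((d⁻¹ * g : ↥(Cfsg.Geo.quadSimilarityGroup (F := F) ⇑(plusQ m F))) : GL (Fin m ⊕ Fin m) F)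
          : Matrix (Fin m ⊕ Fin m) (Fin m ⊕ Fin m) F).det = 1 := key
  rw [hkey]
  -- determinants
  have hdetd : ((d : GL (Fin m ⊕ Fin m) F) : Matrix (Fin m ⊕ Fin m) (Fin m ⊕ Fin m) F).det
      = (mu (plusQ m F) g : F) ^ m := by
    have hmat : ((d : GL (Fin m ⊕ Fin m) F) : Matrix (Fin m ⊕ Fin m) (Fin m ⊕ Fin m) F)
        = Matrix.diagonal (Sum.elim (fun _ => (mu (plusQ m F) g : F)) (fun _ => (1 : F))) := by
      apply matrix_ext_mulVec
      intro x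
      rw [hd, Ld_eq_diag]
    rw [hmat, Matrix.det_diagonal, Fintype.prod_sum_type]
    simp
  have hμ0 : (mu (plusQ m F) g : F) ≠ 0 := (mu (plusQ m F) g).ne_zero
  have hdetg : ((g : GL (Fin m ⊕ Fin m) F) : Matrix (Fin m ⊕ Fin m) (Fin m ⊕ Fin m) F).det
      = (mu (plusQ m F) g : F) ^ m * (((d⁻¹ * g : ↥(Cfsg.Geo.quadSimilarityGroup (F := F) ⇑(plusQ m F))) :
          GL (Fin m ⊕ Fin m) F) : Matrix (Fin m ⊕ Fin m) (Fin m ⊕ Fin m) F).det := by
    conv_lhs => rw [hgd]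
    rw [Units.val_mul, Matrix.det_mul, hdetd]
  constructor
  · intro h1
    apply Units.ext
    rw [dl_apply, Units.val_mul, Units.val_pow_eq_pow_val, Units.val_inv_eq_inv_val,
      Matrix.GeneralLinearGroup.val_det_apply, hdetg, h1, mul_one, Units.val_one, inv_pow]
    exact mul_inv_cancel₀ (pow_ne_zero _ hμ0)
  · intro h1
    have h3 := congrArg (fun t : Fˣ => (t : F)) h1
    simp only [dl_apply, Units.val_mul, Units.val_pow_eq_pow_val, Units.val_inv_eq_inv_val,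
      Matrix.GeneralLinearGroup.val_det_apply, Units.val_one] at h3
    rw [hdetg, inv_pow] at h3
    have h4 : (mu (plusQ m F) g : F) ^ m ≠ 0 := pow_ne_zero _ hμ0
    field_simp at h3
    exact h3

/-- A similarity of the hyperbolic form preserves the two classes of maximal totally singular
subspaces iff `det g = μ(g)^m`. -/
theorem plus_preserves_iff (h2 : (2 : F) ≠ 0) {m : ℕ} (hm : 1 ≤ m) {v₀ : Fin m ⊕ Fin m → F}
    (hv₀ : plusQ m F v₀ ≠ 0)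
    (g : ↥(Cfsg.Geo.quadSimilarityGroup (F := F) ⇑(plusQ m F))) :
    Cfsg.PreservesSingularClasses (Cfsg.quadFormPlus m F)
        ((g : GL (Fin m ⊕ Fin m) F) : Matrix (Fin m ⊕ Fin m) (Fin m ⊕ Fin m) F)
      ↔ dl (plusQ m F) hv₀ m g = 1 := by
  have hV : Fintype.card (Fin m ⊕ Fin m) = 2 * m := by
    rw [Fintype.card_sum, Fintype.card_fin]; omega
  exact (preserves_iff (Q := plusQ m F) (sep_plusQ m) hV (ts_std m) (g : GL (Fin m ⊕ Fin m) F)
    (mu_spec (plusQ m F) g)).trans (plus_parity_iff h2 hm hv₀ g)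

/-- `Inndiag(PΩ⁺_{2m}(F))` is the image of the similarities with `det g = μ(g)^m`. -/
theorem inndiag_plus_eq (h2 : (2 : F) ≠ 0) {m : ℕ} (hm : 1 ≤ m) {v₀ : Fin m ⊕ Fin m → F}
    (hv₀ : plusQ m F v₀ ≠ 0) :
    Cfsg.inndiagPOmegaPlus m F = D0 (plusQ m F) hv₀ m := by
  unfold Cfsg.inndiagPOmegaPlus Cfsg.autSubgroupOf
  apply le_antisymm
  · refine (Subgroup.closure_le _).mpr ?_
    rintro β ⟨g, hg, hpres, hβ⟩
    exact ⟨⟨g, hg⟩, (mem_G0 (plusQ m F) hv₀ m _).mpr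
      ((plus_preserves_iff h2 hm hv₀ ⟨g, hg⟩).mp hpres),
      ((induced_iff (⇑(plusQ m F)) g hg β).mp hβ).symm⟩
  · rintro β ⟨g, hg0, rfl⟩
    exact Subgroup.subset_closure ⟨g.1, g.2,
      (plus_preserves_iff h2 hm hv₀ g).mpr ((mem_G0 (plusQ m F) hv₀ m g).mp hg0),
      (induced_iff (⇑(plusQ m F)) g.1 g.2 _).mpr rfl⟩

/-- The similarity `(x, y) ↦ (y, ν x)`: non-square multiplier, scalar square, and
`det = (-ν)^m`. -/
theorem plus_sigma (h2 : (2 : F) ≠ 0) {m : ℕ} (hm : 1 ≤ m) {v₀ : Fin m ⊕ Fin m → F}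
    (hv₀ : plusQ m F v₀ ≠ 0) :
    ∃ δ : ↥(Cfsg.Geo.quadSimilarityGroup (F := F) ⇑(plusQ m F)),
      ¬ IsSquare (mu (plusQ m F) δ) ∧
      (∃ c : F, ∀ x, (((δ * δ : ↥(Cfsg.Geo.quadSimilarityGroup (F := F) ⇑(plusQ m F))) :
        GL (Fin m ⊕ Fin m) F) : Matrix (Fin m ⊕ Fin m) (Fin m ⊕ Fin m) F) *ᵥ x = c • x) ∧
      (Even m ↔ dl (plusQ m F) hv₀ m δ = 1) := by
  obtain ⟨ν, hν, -⟩ := Cfsg.Agent.Lib.Helper45.OmegaAutSim.exists_nonsquare_unit (F := F) h2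
  obtain ⟨δ, hδ⟩ := exists_sim_mulVec (plusQ m F) (sep_plusQ m) (Ls m (ν : F)) ν (Ls_sim m _)
  have hμ : mu (plusQ m F) δ = ν := mu_unique (plusQ m F) hv₀ δ _ (fun v => by rw [hδ, Ls_sim])
  refine ⟨δ, by rw [hμ]; exact hν, ⟨(ν : F), fun x => ?_⟩, ?_⟩
  · rw [Subgroup.coe_mul, Units.val_mul, ← Matrix.mulVec_mulVec, hδ, hδ, Ls_Ls]
  · rw [← plus_parity_iff h2 hm hv₀ δ]
    have hbot : U0 m F ⊓ (U0 m F).map (Matrix.toLin'
        ((δ : GL (Fin m ⊕ Fin m) F) : Matrix (Fin m ⊕ Fin m) (Fin m ⊕ Fin m) F)) = ⊥ := by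
      rw [eq_bot_iff]
      rintro x ⟨hx1, v, hv, rfl⟩
      rw [Submodule.mem_bot]
      rw [SetLike.mem_coe, Matrix.toLin'_apply, hδ] at hx1
      rw [Matrix.toLin'_apply, hδ]
      funext i
      rcases i with i | i
      · rw [Ls_inl]
        exact (mem_U0 v).mp hv i
      · exact (mem_U0 _).mp hx1 i
    rw [hbot, finrank_bot, Nat.sub_zero]

end Cfsg.Agent.Lib.Helper45.PlusInndiag
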