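import Mathlib
import Cfsg.Agent.Lib.Helper45.EOStmt

set_option autoImplicit false

/-! S2264 + S2265: the assemblies [BOUND] and [TOPPOLY]. -/

namespace Cfsg.Agent.Lib.Helper45.EOAsm

open Polynomial
open Cfsg.Agent.Lib.Helper45.EOStmt

universe u

theorem bound_of (hAB : BoundAB) (hPM : BoundPM) : Bound := by
  intro q p r n DA DB ep em E d hp hr hq hDA hDB hd hbud hE hem hn
  by_cases h : DA = ∅ ∧ DB = ∅
  · obtain ⟨rfl, rfl⟩ := h
    have hE1 := hE rfl rfl
    have h0 : E - 1 = 0 := by omega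
    rw [h0, mul_zero, Finset.sum_empty] at hbud
    exact hPM q p r n ep em E hp hr hq hE1 (by omega) hem hn
  · have hne : DA ≠ ∅ ∨ DB ≠ ∅ := by
      by_contra hcon
      apply h
      constructor
      · by_contra h1
        exact hcon (Or.inl h1)
      · by_contra h1
        exact hcon (Or.inr h1)
    have hKP : KP q p DA DB ep em E = KK q p DA DB ep em E := by
      unfold KP
      rw [if_neg]
      rintro ⟨h1, h2, -⟩
      exact h ⟨h1, h2⟩
    rw [hKP]
    refine hAB q p r n DA DB ep em E d hp hr hq hDA hDB hd hbud hne hem ?_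
    rcases hn with h1 | h1
    · exact Or.inl h1
    · exact Or.inr h1.1

theorem SA_ne_zero {q : ℕ} (hq : 2 ≤ q) {D : Finset ℕ} (hD : ∀ a ∈ D, 1 ≤ a) : SA q D ≠ 0 := by
  unfold SA
  rw [Ne, Finset.lcm_eq_zero_iff]
  rintro ⟨a, ha, h0⟩
  have h1 := hD a ha
  have h2 : 2 ^ 1 ≤ q ^ a := le_trans (Nat.pow_le_pow_left hq 1) (Nat.pow_le_pow_right (by omega) h1)
  omega

theorem SB_ne_zero (q : ℕ) (D : Finset ℕ) : SB q D ≠ 0 := by
  unfold SB
  rw [Ne, Finset.lcm_eq_zero_iff]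
  rintro ⟨a, -, h0⟩
  omega

theorem KK_pos {q p : ℕ} (hq : 2 ≤ q) (hp : 0 < p) {DA : Finset ℕ} (hDA : ∀ a ∈ DA, 1 ≤ a)
    (DB : Finset ℕ) (ep em E : ℕ) : 1 ≤ KK q p DA DB ep em E := by
  unfold KK
  apply Nat.mul_pos
  · apply Nat.pos_of_ne_zero
    apply Nat.lcm_ne_zero
    · exact Nat.lcm_ne_zero (SA_ne_zero hq hDA) (SB_ne_zero q DB)
    · unfold sgn
      split_ifs <;> omega
  · exact Nat.pow_pos hp

theorem topPoly_of (hD : Dvd.{u}) (hB : Bound) : TopPoly.{u} := by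
  intro K _ _ p _ _ μ n hμ hrc hc0 hdeg hn
  obtain ⟨DA, DB, ep, em, E, d, hDA, hDB, hd, hbud, hE, hem, hdvd, hneg⟩ := hD K p μ hμ hrc hc0
  obtain ⟨r, -, hq⟩ := FiniteField.card K p
  have hp : p.Prime := Fact.out
  have hq2 : 2 ≤ Fintype.card K := Fintype.one_lt_card
  have hbound := hB (Fintype.card K) p r n DA DB ep em E d hp r.pos hq hDA hDB hd
    (le_trans hbud hdeg) hE hem hn
  refine ⟨KP (Fintype.card K) p DA DB ep em E, ?_, hbound, ?_⟩
  · unfold KP
    split_ifs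
    · exact Nat.pow_pos hp.pos
    · exact KK_pos hq2 hp.pos hDA DB ep em E
  · unfold KP
    split_ifs with h
    · right
      exact hneg h.1 h.2.1 h.2.2
    · left
      exact hdvd

end Cfsg.Agent.Lib.Helper45.EOAsm
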