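import Mathlib
import Cfsg.Prelude.Def_Classical
import Cfsg.Prelude.Def_LieClassical

set_option autoImplicit false

namespace Cfsg.Agent.Lib.Helper45.GUOrth

open Matrix

section Basics

variable {F K : Type*} [Field F] [Fintype F] [Field K] [Fintype K] [Algebra F K]

/-- the Frobenius of `K` over `F` -/
noncomputable def fr (F K : Type*) [Field F] [Fintype F] [Field K] [Fintype K] [Algebra F K] :
    K ≃ₐ[F] K :=
  FiniteField.frobeniusAlgEquivOfAlgebraic F K

theorem fr_apply (x : K) : fr F K x = x ^ Fintype.card F := rfl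

theorem fr_fr (h2 : Module.finrank F K = 2) (x : K) : fr F K (fr F K x) = x := by
  rw [fr_apply, fr_apply, ← pow_mul, ← sq]
  have : Fintype.card K = Fintype.card F ^ 2 := by
    rw [Module.card_eq_pow_finrank (K := F) (V := K), h2]
  rw [← this, FiniteField.pow_card]

theorem algebraMap_trace (h2 : Module.finrank F K = 2) (x : K) :
    algebraMap F K (Algebra.trace F K x) = x + fr F K x := by
  rw [FiniteField.algebraMap_trace_eq_sum_pow, h2, Finset.sum_range_succ, Finset.sum_range_succ,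
    Finset.sum_range_zero, zero_add, pow_zero, pow_one, pow_one, Nat.card_eq_fintype_card, fr_apply]

theorem algebraMap_norm (h2 : Module.finrank F K = 2) (x : K) :
    algebraMap F K (Algebra.norm F x) = x * fr F K x := by
  rw [FiniteField.algebraMap_norm_eq_prod_pow, h2, Finset.prod_range_succ, Finset.prod_range_succ,
    Finset.prod_range_zero, one_mul, pow_zero, pow_one, pow_one, Nat.card_eq_fintype_card, fr_apply]

theorem exists_eta (h2 : Module.finrank F K = 2) : ∃ η : K, η * fr F K η = -1 := by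
  obtain ⟨η, hη⟩ := FiniteField.norm_surjective F K (-1)
  refine ⟨η, ?_⟩
  rw [← algebraMap_norm h2, hη, map_neg, map_one]

theorem exists_c (h2 : Module.finrank F K = 2) : ∃ c : K, c + fr F K c = 1 := by
  haveI : FiniteDimensional F K := Module.finite_of_finrank_pos (by rw [h2]; norm_num)
  obtain ⟨c, hc⟩ := Algebra.trace_surjective F K 1
  refine ⟨c, ?_⟩
  rw [← algebraMap_trace h2, hc, map_one]

theorem pair_identity (h2 : Module.finrank F K = 2) (η c : K) (hη : η * fr F K η = -1)
    (hc : c + fr F K c = 1) (z z' : K) :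
    Algebra.trace F K ((z + η * z') * fr F K (fr F K c * z + (fr F K c - 1) * η * z')) =
      Algebra.norm F z + Algebra.norm F z' := by
  apply (algebraMap F K).injective
  rw [algebraMap_trace h2, RingHom.map_add (algebraMap F K), algebraMap_norm h2, algebraMap_norm h2]
  simp only [map_mul, map_add, map_sub, map_one, fr_fr h2]
  linear_combination (z * fr F K z + fr F K η * z * fr F K z' + η * z' * fr F K z +
    η * fr F K η * z' * fr F K z') * hc - z' * fr F K z' * hη

/-- polar form of the norm -/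
theorem norm_add (h2 : Module.finrank F K = 2) (x y : K) :
    Algebra.norm F (x + y) = Algebra.norm F x + Algebra.norm F y +
      Algebra.trace F K (x * fr F K y) := by
  apply (algebraMap F K).injective
  simp only [map_add, algebraMap_norm h2, algebraMap_trace h2, map_mul, fr_fr h2]
  ring

end Basics

section Embed

variable {F K : Type*} [Field F] [Fintype F] [Field K] [Fintype K] [Algebra F K]
variable {J : Type} [Fintype J] [DecidableEq J] {m : ℕ}

/-- transport of matrices along an `F`-linear equivalence -/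
noncomputable def mu (Ψ : (Fin m → K) ≃ₗ[F] (J → F)) :
    Matrix (Fin m) (Fin m) K →* Matrix J J F where
  toFun A := LinearMap.toMatrix'
    (Ψ.toLinearMap ∘ₗ (A.mulVecLin.restrictScalars F) ∘ₗ Ψ.symm.toLinearMap)
  map_one' := by
    rw [Matrix.mulVecLin_one]
    rw [← LinearMap.toMatrix'_id]
    congr 1
    ext v
    simp
  map_mul' A B := by
    rw [← LinearMap.toMatrix'_comp]
    congr 1
    ext v
    simp [Matrix.mulVec_mulVec]

theorem mu_mulVec (Ψ : (Fin m → K) ≃ₗ[F] (J → F)) (A : Matrix (Fin m) (Fin m) K)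
    (v : Fin m → K) : mu Ψ A *ᵥ Ψ v = Ψ (A *ᵥ v) := by
  show LinearMap.toMatrix' _ *ᵥ _ = _
  rw [LinearMap.toMatrix'_mulVec]
  simp

theorem mu_injective (Ψ : (Fin m → K) ≃ₗ[F] (J → F)) : Function.Injective (mu Ψ) := by
  intro A B h
  apply Matrix.mulVec_injective
  funext v
  apply Ψ.injective
  rw [← mu_mulVec, ← mu_mulVec, h]

theorem embed_of_equiv (h2 : Module.finrank F K = 2) (Q' : (J → F) → F)
    (Ψ : (Fin m → K) ≃ₗ[F] (J → F))
    (hΨ : ∀ v, Q' (Ψ v) = ∑ i, Algebra.norm F (v i)) :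
    ∃ φ : ↥(Cfsg.GU m K (Fintype.card F)) →* ↥(Cfsg.isometryGroup F Q'),
      Function.Injective φ := by
  let ψ : GL (Fin m) K →* GL J F := Units.map (mu Ψ)
  have hmem : ∀ g : ↥(Cfsg.GU m K (Fintype.card F)),
      (ψ.comp (Cfsg.GU m K (Fintype.card F)).subtype) g ∈ Cfsg.isometryGroup F Q' := by
    intro g u v
    show Q' (mu Ψ (g.1 : Matrix (Fin m) (Fin m) K) *ᵥ u) = Q' u
    obtain ⟨w, rfl⟩ := Ψ.surjective u
    rw [mu_mulVec, hΨ, hΨ]
    apply (algebraMap F K).injective
    rw [map_sum, map_sum]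
    simp only [algebraMap_norm h2, fr_apply]
    exact g.2 w w
  refine ⟨(ψ.comp (Cfsg.GU m K (Fintype.card F)).subtype).codRestrict _ hmem, ?_⟩
  intro g g' h
  have h1 : ψ g.1 = ψ g'.1 := congrArg Subtype.val h
  have h3 : mu Ψ (g.1 : Matrix (Fin m) (Fin m) K) = mu Ψ (g'.1 : Matrix (Fin m) (Fin m) K) :=
    congrArg (fun x : GL J F => (x : Matrix J J F)) h1
  apply Subtype.ext
  apply Units.ext
  exact mu_injective Ψ h3

/-- a linear map carrying the sum of norms to `Q'` is injective -/
theorem injective_of_norm (h2 : Module.finrank F K = 2) (Q' : (J → F) → F)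
    (Ψ₀ : (Fin m → K) →ₗ[F] (J → F))
    (hΨ : ∀ v, Q' (Ψ₀ v) = ∑ i, Algebra.norm F (v i)) : Function.Injective Ψ₀ := by
  rw [← LinearMap.ker_eq_bot, LinearMap.ker_eq_bot']
  intro v hv
  have h0 : ∑ i, Algebra.norm F (v i) = 0 := by
    rw [← hΨ, hv, ← map_zero Ψ₀, hΨ]
    simp
  funext i
  have key : ∀ t : K, Algebra.trace F K (v i * t) = 0 := by
    intro t
    let e : Fin m → K := Pi.single i (fr F K t)
    have h1 : ∑ l, Algebra.norm F ((v + e) l) = ∑ l, Algebra.norm F (e l) := by
      rw [← hΨ, ← hΨ, map_add, hv, zero_add]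
    have h3 : ∀ l, Algebra.norm F ((v + e) l) =
        Algebra.norm F (v l) + Algebra.norm F (e l) +
          Algebra.trace F K (v l * fr F K (e l)) := by
      intro l
      rw [Pi.add_apply, norm_add h2]
    rw [Finset.sum_congr rfl (fun l _ => h3 l), Finset.sum_add_distrib, Finset.sum_add_distrib,
      h0, zero_add] at h1
    have h4 : ∑ l, Algebra.trace F K (v l * fr F K (e l)) =
        Algebra.trace F K (v i * t) := by
      rw [Finset.sum_eq_single i]
      · show Algebra.trace F K (v i * fr F K ((Pi.single i (fr F K t) : Fin m → K) i)) = _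
        rw [Pi.single_eq_same, fr_fr h2]
      · intro l _ hl
        show Algebra.trace F K (v l * fr F K ((Pi.single i (fr F K t) : Fin m → K) l)) = _
        rw [Pi.single_eq_of_ne hl]
        simp
      · intro hi
        exact absurd (Finset.mem_univ i) hi
    rw [← h4]
    exact add_eq_left.1 h1
  have hnd := traceForm_nondegenerate F K
  apply hnd.1
  intro y
  rw [Algebra.traceForm_apply]
  exact key y

theorem embed_of_linear (h2 : Module.finrank F K = 2) (Q' : (J → F) → F)
    (hJ : Fintype.card J = m * 2) (Ψ₀ : (Fin m → K) →ₗ[F] (J → F))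
    (hΨ : ∀ v, Q' (Ψ₀ v) = ∑ i, Algebra.norm F (v i)) :
    ∃ φ : ↥(Cfsg.GU m K (Fintype.card F)) →* ↥(Cfsg.isometryGroup F Q'),
      Function.Injective φ := by
  haveI : FiniteDimensional F K := Module.finite_of_finrank_pos (by rw [h2]; norm_num)
  have hrank : Module.finrank F (Fin m → K) = Module.finrank F (J → F) := by
    rw [Module.finrank_pi_fintype, Module.finrank_pi]
    simp [h2, hJ]
  let e := LinearEquiv.ofInjectiveOfFinrankEq Ψ₀ (injective_of_norm h2 Q' Ψ₀ hΨ) hrank
  exact embed_of_equiv h2 Q' e hΨ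

end Embed

section Even

variable {F K : Type*} [Field F] [Fintype F] [Field K] [Fintype K] [Algebra F K]
variable (k : ℕ) (η c : K) (b : Module.Basis (Fin 2) F K)

/-- coordinate projection as an `F`-linear map -/
noncomputable def pr (F : Type*) {K : Type*} [Field F] [Field K] [Algebra F K] {n : ℕ}
    (i : Fin n) : (Fin n → K) →ₗ[F] K :=
  LinearMap.proj i

/-- first mixed coordinate of the `j`-th pair -/
noncomputable def uL (j : Fin k) : (Fin (k + k) → K) →ₗ[F] K :=
  pr F (Fin.castAdd k j) + (LinearMap.mul F K η) ∘ₗ pr F (Fin.natAdd k j)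

/-- second mixed coordinate of the `j`-th pair -/
noncomputable def wL (j : Fin k) : (Fin (k + k) → K) →ₗ[F] K :=
  (LinearMap.mul F K (fr F K c)) ∘ₗ pr F (Fin.castAdd k j) +
    (LinearMap.mul F K ((fr F K c - 1) * η)) ∘ₗ pr F (Fin.natAdd k j)

omit [Fintype F] [Fintype K] in
theorem uL_apply (j : Fin k) (v : Fin (k + k) → K) :
    uL (F := F) k η j v = v (Fin.castAdd k j) + η * v (Fin.natAdd k j) := by
  simp [uL, pr]

theorem wL_apply (j : Fin k) (v : Fin (k + k) → K) :
    wL (F := F) k η c j v =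
      fr F K c * v (Fin.castAdd k j) + (fr F K c - 1) * η * v (Fin.natAdd k j) := by
  simp [wL, pr]

/-- the coordinate functionals in the even case -/
noncomputable def rowE : Fin (k + k) ⊕ Fin (k + k) → ((Fin (k + k) → K) →ₗ[F] F) :=
  Sum.elim
    (Fin.addCases (fun j => (b.coord 0) ∘ₗ uL k η j) (fun j => (b.coord 1) ∘ₗ uL k η j))
    (Fin.addCases
      (fun j => (Algebra.trace F K) ∘ₗ (LinearMap.mul F K (b 0)) ∘ₗ (fr F K).toLinearMap ∘ₗ
        wL k η c j)
      (fun j => (Algebra.trace F K) ∘ₗ (LinearMap.mul F K (b 1)) ∘ₗ (fr F K).toLinearMap ∘ₗ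
        wL k η c j))

/-- the change of variables in the even case -/
noncomputable def PsiE : (Fin (k + k) → K) →ₗ[F] (Fin (k + k) ⊕ Fin (k + k) → F) :=
  LinearMap.pi (rowE k η c b)

theorem PsiE_inl_castAdd (v : Fin (k + k) → K) (j : Fin k) :
    PsiE k η c b v (Sum.inl (Fin.castAdd k j)) = b.repr (uL (F := F) k η j v) 0 := by
  show (Fin.addCases (fun j => (b.coord 0) ∘ₗ uL k η j) (fun j => (b.coord 1) ∘ₗ uL k η j)
    (Fin.castAdd k j) : (Fin (k + k) → K) →ₗ[F] F) v = _
  rw [Fin.addCases_left]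
  rfl

theorem PsiE_inl_natAdd (v : Fin (k + k) → K) (j : Fin k) :
    PsiE k η c b v (Sum.inl (Fin.natAdd k j)) = b.repr (uL (F := F) k η j v) 1 := by
  show (Fin.addCases (fun j => (b.coord 0) ∘ₗ uL k η j) (fun j => (b.coord 1) ∘ₗ uL k η j)
    (Fin.natAdd k j) : (Fin (k + k) → K) →ₗ[F] F) v = _
  rw [Fin.addCases_right]
  rfl

theorem PsiE_inr_castAdd (v : Fin (k + k) → K) (j : Fin k) :
    PsiE k η c b v (Sum.inr (Fin.castAdd k j)) =
      Algebra.trace F K (b 0 * fr F K (wL (F := F) k η c j v)) := by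
  show (Fin.addCases
      (fun j => (Algebra.trace F K) ∘ₗ (LinearMap.mul F K (b 0)) ∘ₗ (fr F K).toLinearMap ∘ₗ
        wL k η c j)
      (fun j => (Algebra.trace F K) ∘ₗ (LinearMap.mul F K (b 1)) ∘ₗ (fr F K).toLinearMap ∘ₗ
        wL k η c j) (Fin.castAdd k j) : (Fin (k + k) → K) →ₗ[F] F) v = _
  rw [Fin.addCases_left]
  rfl

theorem PsiE_inr_natAdd (v : Fin (k + k) → K) (j : Fin k) :
    PsiE k η c b v (Sum.inr (Fin.natAdd k j)) =
      Algebra.trace F K (b 1 * fr F K (wL (F := F) k η c j v)) := by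
  show (Fin.addCases
      (fun j => (Algebra.trace F K) ∘ₗ (LinearMap.mul F K (b 0)) ∘ₗ (fr F K).toLinearMap ∘ₗ
        wL k η c j)
      (fun j => (Algebra.trace F K) ∘ₗ (LinearMap.mul F K (b 1)) ∘ₗ (fr F K).toLinearMap ∘ₗ
        wL k η c j) (Fin.natAdd k j) : (Fin (k + k) → K) →ₗ[F] F) v = _
  rw [Fin.addCases_right]
  rfl

theorem PsiE_quad (h2 : Module.finrank F K = 2) (hη : η * fr F K η = -1)
    (hc : c + fr F K c = 1) (v : Fin (k + k) → K) :
    Cfsg.quadFormPlus (k + k) F (PsiE k η c b v) = ∑ i, Algebra.norm F (v i) := by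
  simp only [Cfsg.quadFormPlus, Fin.sum_univ_add, PsiE_inl_castAdd, PsiE_inl_natAdd,
    PsiE_inr_castAdd, PsiE_inr_natAdd]
  rw [← Finset.sum_add_distrib, ← Finset.sum_add_distrib]
  apply Finset.sum_congr rfl
  intro j _
  rw [← pair_identity h2 η c hη hc, ← uL_apply (F := F), ← wL_apply (F := F)]
  generalize uL (F := F) k η j v = u
  generalize fr F K (wL (F := F) k η c j v) = y
  have hu : u = b.repr u 0 • b 0 + b.repr u 1 • b 1 := by
    conv_lhs => rw [← b.sum_repr u, Fin.sum_univ_two]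
  conv_rhs => rw [hu]
  simp [add_mul, smul_mul_assoc]

theorem gu_embeds_plus (h2 : Module.finrank F K = 2) :
    ∃ φ : ↥(Cfsg.GU (k + k) K (Fintype.card F)) →*
        ↥(Cfsg.isometryGroup F (Cfsg.quadFormPlus (k + k) F)), Function.Injective φ := by
  obtain ⟨η, hη⟩ := exists_eta h2
  obtain ⟨c, hc⟩ := exists_c h2
  let b : Module.Basis (Fin 2) F K := Module.finBasisOfFinrankEq F K h2
  exact embed_of_linear h2 (Cfsg.quadFormPlus (k + k) F) (by simp; ring) (PsiE k η c b)
    (PsiE_quad k η c b h2 hη hc)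

end Even

section Odd

variable {F K : Type*} [Field F] [Fintype F] [Field K] [Fintype K] [Algebra F K]
variable (k : ℕ) (η c : K) (b : Module.Basis (Fin 2) F K) (L : (Fin 2 → F) ≃ₗ[F] K)

/-- the coordinate functionals in the odd case -/
noncomputable def rowO :
    (Fin (k + k) ⊕ Fin (k + k)) ⊕ Fin 2 → ((Fin (k + k + 1) → K) →ₗ[F] F) :=
  Sum.elim (fun i => rowE k η c b i ∘ₗ LinearMap.funLeft F K Fin.castSucc)
    (fun r => LinearMap.proj r ∘ₗ L.symm.toLinearMap ∘ₗ pr F (Fin.last (k + k)))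

/-- the change of variables in the odd case -/
noncomputable def PsiO :
    (Fin (k + k + 1) → K) →ₗ[F] ((Fin (k + k) ⊕ Fin (k + k)) ⊕ Fin 2 → F) :=
  LinearMap.pi (rowO k η c b L)

theorem PsiO_inl (v : Fin (k + k + 1) → K) (i : Fin (k + k) ⊕ Fin (k + k)) :
    PsiO k η c b L v (Sum.inl i) = PsiE k η c b (v ∘ Fin.castSucc) i := by
  rfl

theorem PsiO_inr (v : Fin (k + k + 1) → K) (r : Fin 2) :
    PsiO k η c b L v (Sum.inr r) = L.symm (v (Fin.last (k + k))) r := by
  rfl

theorem PsiO_quad (h2 : Module.finrank F K = 2) (hη : η * fr F K η = -1)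
    (hc : c + fr F K c = 1) (a b' : F)
    (hL : ∀ x, Algebra.norm F (L x) = x 0 ^ 2 + a * x 0 * x 1 + b' * x 1 ^ 2)
    (v : Fin (k + k + 1) → K) :
    Cfsg.quadFormMinus (k + k) F a b' (PsiO k η c b L v) = ∑ i, Algebra.norm F (v i) := by
  rw [Fin.sum_univ_castSucc]
  have h1 := PsiE_quad k η c b h2 hη hc (v ∘ Fin.castSucc)
  simp only [Function.comp_apply] at h1
  rw [← h1]
  simp only [Cfsg.quadFormMinus, Cfsg.quadFormPlus, PsiO_inl, PsiO_inr]
  congr 1
  rw [← hL, LinearEquiv.apply_symm_apply]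

theorem gu_embeds_minus (h2 : Module.finrank F K = 2) (a b' : F)
    (hL : ∀ x, Algebra.norm F (L x) = x 0 ^ 2 + a * x 0 * x 1 + b' * x 1 ^ 2) :
    ∃ φ : ↥(Cfsg.GU (k + k + 1) K (Fintype.card F)) →*
        ↥(Cfsg.isometryGroup F (Cfsg.quadFormMinus (k + k) F a b')), Function.Injective φ := by
  obtain ⟨η, hη⟩ := exists_eta h2
  obtain ⟨c, hc⟩ := exists_c h2
  let b : Module.Basis (Fin 2) F K := Module.finBasisOfFinrankEq F K h2
  exact embed_of_linear h2 (Cfsg.quadFormMinus (k + k) F a b') (by simp; ring)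
    (PsiO k η c b L) (PsiO_quad k η c b L h2 hη hc a b' hL)

end Odd

section Alg

variable {F K : Type*} [Field F] [Fintype F] [Field K] [Fintype K]

theorem exists_ringHom (hKF : Fintype.card K = Fintype.card F ^ 2) : Nonempty (F →+* K) := by
  classical
  obtain ⟨p, hp⟩ := CharP.exists F
  haveI : Fact p.Prime := ⟨CharP.char_is_prime F p⟩
  let L := FiniteField.Extension F p 2
  haveI : Fintype L := Fintype.ofFinite L
  have hcardL : Fintype.card L = Fintype.card F ^ 2 := by
    rw [Fintype.card_eq_nat_card, FiniteField.natCard_extension, Nat.card_eq_fintype_card]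
  let φ : L ≃+* K := FiniteField.ringEquivOfCardEq (hcardL.trans hKF.symm)
  exact ⟨φ.toRingHom.comp (algebraMap F L)⟩

theorem finrank_eq_two [Algebra F K] (hKF : Fintype.card K = Fintype.card F ^ 2) :
    Module.finrank F K = 2 := by
  have h := Module.card_eq_pow_finrank (K := F) (V := K)
  rw [hKF] at h
  exact (Nat.pow_right_injective (Fintype.one_lt_card : 1 < Fintype.card F) h).symm

end Alg

end Cfsg.Agent.Lib.Helper45.GUOrth
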