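import Mathlib
import Cfsg.Prelude.Def_Classical
import Cfsg.Prelude.Def_GeometricClasses
import Cfsg.Agent.Lib.Helper37.HypStmt
import Cfsg.Agent.Lib.Helper94.OPStmt
import Cfsg.Agent.Lib.Helper45.OMiStmt
import Cfsg.Agent.Lib.Helper45.OMiAsm
import Cfsg.Agent.Lib.Helper94.OMiPStmt

/-!
# S5991: final assembly from the pieces of `OMiStmt`, the `r = p` part taken as the single
hypothesis `Cfsg.Agent.Lib.Helper94.OMiPStmt.PDerM` (helper94's sub-call).
-/

set_option autoImplicit false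

universe u

open scoped Matrix

namespace Cfsg.Agent.Lib.Helper45.OMiAsm2

open Cfsg.Agent.Lib.Helper37.HypStmt (cc)
open Cfsg.Agent.Lib.Helper45.OMiStmt

open Cfsg.Agent.Lib.Helper45.OMiAsm (two_ne_zero_m one_ne_neg_one_m nonscalar_of_order_m)

theorem thm_of2 (hInv : InvolM.{u}) (hScal : ScalM.{u}) (hNR : NegRedM.{u})
    (hNF : NegSqNoFixM.{u}) (hNE : NegSqExM.{u}) (hNA : NegSqNonAM.{u}) (hNB : NegSqNonBM.{u})
    (hP : Cfsg.Agent.Lib.Helper94.OMiPStmt.PDerM.{u})
    (hB1 : B1M.{u}) (hB2 : B2M.{u}) (hND : NDivM.{u})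
    {F : Type u} [Field F] [Fintype F] {p : ℕ} [Fact p.Prime] [CharP F p]
    (hodd : Odd (Fintype.card F)) (d m : ℕ) (hd : 4 ≤ d) (hm : Odd m) (hmd : m < d)
    (a b : F) (hab : ∀ x y : F, x ^ 2 + a * x * y + b * y ^ 2 = 0 → x = 0 ∧ y = 0)
    (W₀ : Submodule F ((Fin (d - 1) ⊕ Fin (d - 1)) ⊕ Fin 2 → F))
    (hW₀ : Module.finrank F ↥W₀ = m ∧
      Cfsg.Geo.IsNondegenerateOn (QuadraticMap.polar (Cfsg.quadFormMinus (d - 1) F a b)) W₀)
    (r : ℕ) [Fact r.Prime]
    (hrΩ : r ∣ Nat.card {W : Submodule F ((Fin (d - 1) ⊕ Fin (d - 1)) ⊕ Fin 2 → F) //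
      Module.finrank F ↥W = m ∧
      Cfsg.Geo.IsNondegenerateOn (QuadraticMap.polar (Cfsg.quadFormMinus (d - 1) F a b)) W ∧
      Cfsg.Geo.AreIsometricFor (Cfsg.quadFormMinus (d - 1) F a b) W W₀})
    (i c : ℕ) (hi : i = orderOf ((Fintype.card F : ℕ) : ZMod r))
    (hc : c = if Even i then i else 2 * i) :
    (∀ x : Matrix.GeneralLinearGroup ((Fin (d - 1) ⊕ Fin (d - 1)) ⊕ Fin 2) F,
      x ∈ Cfsg.Geo.omegaGL (Cfsg.quadFormMinus (d - 1) F a b) →
      (∃ z : F, ((x ^ r : Matrix.GeneralLinearGroup ((Fin (d - 1) ⊕ Fin (d - 1)) ⊕ Fin 2) F) :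
        Matrix ((Fin (d - 1) ⊕ Fin (d - 1)) ⊕ Fin 2) ((Fin (d - 1) ⊕ Fin (d - 1)) ⊕ Fin 2) F) =
          z • (1 : Matrix ((Fin (d - 1) ⊕ Fin (d - 1)) ⊕ Fin 2)
            ((Fin (d - 1) ⊕ Fin (d - 1)) ⊕ Fin 2) F)) →
      (∀ z : F, (x : Matrix ((Fin (d - 1) ⊕ Fin (d - 1)) ⊕ Fin 2)
          ((Fin (d - 1) ⊕ Fin (d - 1)) ⊕ Fin 2) F) ≠
        z • (1 : Matrix ((Fin (d - 1) ⊕ Fin (d - 1)) ⊕ Fin 2)
          ((Fin (d - 1) ⊕ Fin (d - 1)) ⊕ Fin 2) F)) →
      ∃ W : Submodule F ((Fin (d - 1) ⊕ Fin (d - 1)) ⊕ Fin 2 → F), (Module.finrank F ↥W = m ∧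
        Cfsg.Geo.IsNondegenerateOn (QuadraticMap.polar (Cfsg.quadFormMinus (d - 1) F a b)) W ∧
        Cfsg.Geo.AreIsometricFor (Cfsg.quadFormMinus (d - 1) F a b) W W₀) ∧
        W.map (Matrix.toLin' (x : Matrix ((Fin (d - 1) ⊕ Fin (d - 1)) ⊕ Fin 2)
          ((Fin (d - 1) ⊕ Fin (d - 1)) ⊕ Fin 2) F)) ≤ W) ↔
    ((r = 2 ∧ (Even d ∨ Fintype.card F % 8 ≠ 7)) ∨
     (r ≠ p ∧ 2 < r ∧ Odd i ∧ ((2 * d) % c = 0 ∨ (c ≤ m ∧ 0 < m % c ∧ m % c < (2 * d) % c))) ∨
     (r ≠ p ∧ 2 < r ∧ Even i ∧ (((2 * d) % c = 0 ∧ Even ((2 * d) / i)) ∨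
       (0 < (2 * d) % c ∧ i ≤ m ∧ 0 < m % c ∧ m % c < (2 * d) % c)))) := by
  have hcc : c = cc i := hc
  subst hcc
  subst hi
  have hA : Aniso a b := hab
  have hrpr : r.Prime := Fact.out
  have hppr : p.Prime := Fact.out
  have hd1 : 1 ≤ d := by omega
  have h2 : (2 : F) ≠ 0 := two_ne_zero_m hodd
  have hp2 : p ≠ 2 := by
    intro h
    apply h2
    have := CharP.cast_eq_zero F p
    rw [h] at this
    exact_mod_cast this
  have hiso : ∀ x : Matrix.GeneralLinearGroup (M d) F,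
      x ∈ Cfsg.Geo.omegaGL (Cfsg.quadFormMinus (d - 1) F a b) →
      x ∈ Cfsg.isometryGroup F (Cfsg.quadFormMinus (d - 1) F a b) := by
    intro x hx
    obtain ⟨y, -, rfl⟩ := hx
    exact y.2
  by_cases hr2 : r = 2
  · subst hr2
    constructor
    · intro hL
      left
      refine ⟨rfl, ?_⟩
      by_contra hcon
      have hdo : Odd d := by
        by_contra hde
        exact hcon (Or.inl (Nat.not_odd_iff_even.mp hde))
      have h7 : Fintype.card F % 8 = 7 := by
        by_contra h8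
        exact hcon (Or.inr h8)
      obtain ⟨x, hxΩ, hxx⟩ := hNE F h7 d hdo a b hA
      have hxi := hiso x hxΩ
      have hsq : ((x ^ 2 : Matrix.GeneralLinearGroup (M d) F) : Matrix (M d) (M d) F) =
          (-1 : F) • (1 : Matrix (M d) (M d) F) := by
        rw [Units.val_pow_eq_pow_val, pow_two, hxx]
        simp
      have hns : ∀ z : F, (x : Matrix (M d) (M d) F) ≠ z • (1 : Matrix (M d) (M d) F) := by
        intro z hz
        have hzz : (1 : Matrix (M d) (M d) F) = -1 := by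
          rw [← hxx, hz]
          rcases hScal F d a b x hxi z hz with rfl | rfl <;> simp
        exact one_ne_neg_one_m h2 hzz
      obtain ⟨W, hW, hS⟩ := hL x hxΩ ⟨-1, hsq⟩ hns
      exact hNF F hodd d m a b hm x hxi hxx W hW.1 hW.2.1 hS
    · rintro (⟨-, hE⟩ | ⟨-, h, -⟩ | ⟨-, h, -⟩)
      · intro x hxΩ ⟨z, hz⟩ hns
        have hxi := hiso x hxΩ
        have hx2i : x ^ 2 ∈ Cfsg.isometryGroup F (Cfsg.quadFormMinus (d - 1) F a b) :=
          Subgroup.pow_mem _ hxi 2
        rcases hScal F d a b (x ^ 2) hx2i z hz with rfl | rfl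
        · have hxx : (x : Matrix (M d) (M d) F) * (x : Matrix (M d) (M d) F) = 1 := by
            rw [← pow_two, ← Units.val_pow_eq_pow_val, hz, one_smul]
          obtain ⟨W, hW, hS⟩ := hInv F hodd d m hd1 a b hA hm hmd W₀ hW₀.1 hW₀.2 x hxi hxx
          exact ⟨W, hW, hS⟩
        · exfalso
          have hxx : (x : Matrix (M d) (M d) F) * (x : Matrix (M d) (M d) F) = -1 := by
            rw [← pow_two, ← Units.val_pow_eq_pow_val, hz]
            simp
          by_cases hA' : Even d ∨ Fintype.card F % 4 = 1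
          · exact hNA F hodd d hd1 hA' a b hA x hxΩ hxx
          · have hdo : Odd d := by
              by_contra hde
              exact hA' (Or.inl (Nat.not_odd_iff_even.mp hde))
            have h3 : Fintype.card F % 8 = 3 := by
              have h41 : ¬ Fintype.card F % 4 = 1 := fun h => hA' (Or.inr h)
              have h87 : Fintype.card F % 8 ≠ 7 := by
                rcases hE with hde | h87
                · exfalso
                  exact (Nat.not_even_iff_odd.mpr hdo) hde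
                · exact h87
              obtain ⟨t, ht⟩ := hodd
              omega
            exact hNB F h3 d hd1 hdo a b hA x hxΩ hxx
      · omega
      · omega
  · have h2r : 2 < r := by
      have := hrpr.two_le
      omega
    by_cases hrp : r = p
    · constructor
      · intro hL
        exfalso
        obtain ⟨x, hxΩ, hxp, hxW⟩ := hP F p hodd d m hd hm hmd a b hab W₀ hW₀.1 hW₀.2
        have hxr : x ^ r = 1 := by
          rw [hrp, ← hxp]
          exact pow_orderOf_eq_one x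
        have hsc : ∃ z : F, ((x ^ r : Matrix.GeneralLinearGroup (M d) F) :
            Matrix (M d) (M d) F) = z • (1 : Matrix (M d) (M d) F) :=
          ⟨1, by rw [hxr, one_smul]; rfl⟩
        obtain ⟨W, hW, hS⟩ := hL x hxΩ hsc
          (nonscalar_of_order_m hScal a b x (hiso x hxΩ) hxp hppr hp2)
        exact hxW W hW hS
      · rintro (⟨h, -⟩ | ⟨h, -⟩ | ⟨h, -⟩)
        · exact absurd h hr2
        · exact absurd hrp h
        · exact absurd hrp h
    · have hrodd : Odd r := hrpr.odd_of_ne_two hr2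
      constructor
      · intro hL
        by_contra hR
        have hcond : ¬ CondM d m (orderOf ((Fintype.card F : ℕ) : ZMod r)) := by
          intro hC
          apply hR
          rcases hC with h | h
          · exact Or.inr (Or.inl ⟨hrp, h2r, h⟩)
          · exact Or.inr (Or.inr ⟨hrp, h2r, h⟩)
        have hk := hND F p hodd d m hd a b hA hm hmd W₀ hW₀.1 hW₀.2 r hr2 hrp hrΩ
        obtain ⟨x, hxΩ, hxr, hxW⟩ :=
          hB2 F p hodd d m hd a b hA hm hmd W₀ hW₀.1 hW₀.2 r hr2 hrp hk hcond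
        have hxr1 : x ^ r = 1 := by
          rw [← hxr]
          exact pow_orderOf_eq_one x
        have hsc : ∃ z : F, ((x ^ r : Matrix.GeneralLinearGroup (M d) F) :
            Matrix (M d) (M d) F) = z • (1 : Matrix (M d) (M d) F) :=
          ⟨1, by rw [hxr1, one_smul]; rfl⟩
        obtain ⟨W, hW, hS⟩ := hL x hxΩ hsc
          (nonscalar_of_order_m hScal a b x (hiso x hxΩ) hxr hrpr hr2)
        exact hxW W hW hS
      · intro hR x hxΩ ⟨z, hz⟩ hns
        have hC : CondM d m (orderOf ((Fintype.card F : ℕ) : ZMod r)) := by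
          rcases hR with ⟨h, -⟩ | ⟨-, -, h⟩ | ⟨-, -, h⟩
          · exact absurd h hr2
          · exact Or.inl h
          · exact Or.inr h
        have hxi := hiso x hxΩ
        have hxri : x ^ r ∈ Cfsg.isometryGroup F (Cfsg.quadFormMinus (d - 1) F a b) :=
          Subgroup.pow_mem _ hxi r
        rcases hScal F d a b (x ^ r) hxri z hz with rfl | rfl
        · have hxr1 : x ^ r = 1 := Units.ext (by rw [hz, one_smul]; rfl)
          obtain ⟨W, hW, hS⟩ :=
            hB1 F p hodd d m hd a b hA hm hmd W₀ hW₀.1 hW₀.2 r hr2 hrp hC x hxi hxr1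
          exact ⟨W, hW, hS⟩
        · have hneg : ((x ^ r : Matrix.GeneralLinearGroup (M d) F) : Matrix (M d) (M d) F)
              = -1 := by
            rw [hz]
            simp
          obtain ⟨y, hyi, hyr, hyS⟩ := hNR F d a b r hrodd x hxi hneg
          obtain ⟨W, hW, hS⟩ :=
            hB1 F p hodd d m hd a b hA hm hmd W₀ hW₀.1 hW₀.2 r hr2 hrp hC y hyi hyr
          exact ⟨W, hW, (hyS W).mp hS⟩

end Cfsg.Agent.Lib.Helper45.OMiAsm2
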