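import Mathlib
import Cfsg.Prelude.Def_Classical
import Cfsg.Prelude.Def_ClassicalGeometry
import Cfsg.Agent.Lib.Helper44.OMat2
import Cfsg.Agent.Lib.Helper44.NegPairs

set_option autoImplicit false

/-! Characteristic 2: an isometry lies in `Ω` iff `g - 1` has even rank (Dickson invariant). -/

namespace Cfsg.Agent.Lib.Helper45.OmegaRank

open Module QuadraticMap Matrix
open Cfsg.Agent.Lib.Helper44.QSpace Cfsg.Agent.Lib.Helper44.OGroup
open Cfsg.Agent.Lib.Helper44.OMat Cfsg.Agent.Lib.Helper44.OMat2 Cfsg.Agent.Lib.Helper44.Omega2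
open Cfsg.Agent.Lib.Helper44.CD2a Cfsg.Agent.Lib.Helper44.Parity

variable {F : Type*} [Field F] {ι : Type} [Fintype ι] [DecidableEq ι]

/-- rank–nullity for `g - 1`, matrix form. -/
theorem rank_sub_one_add (Q : QuadraticForm F (ι → F)) (g : ↥(Cfsg.isometryGroup F ⇑Q)) :
    (((g : GL ι F) : Matrix ι ι F) - 1).rank
      + finrank F (fixS (isoEquiv Q g : (ι → F) ≃ₗ[F] (ι → F))) = Fintype.card ι := by
  have h := LinearMap.finrank_range_add_finrank_ker (((g : GL ι F) : Matrix ι ι F) - 1).mulVecLin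
  rw [Module.finrank_fintype_fun_eq_card] at h
  have hk : LinearMap.ker (((g : GL ι F) : Matrix ι ι F) - 1).mulVecLin
      = fixS (isoEquiv Q g : (ι → F) ≃ₗ[F] (ι → F)) := by
    ext x
    rw [LinearMap.mem_ker, mem_fixS, Matrix.mulVecLin_apply, Matrix.sub_mulVec, Matrix.one_mulVec,
      sub_eq_zero, isoEquiv_apply]
  rw [hk] at h
  rw [Matrix.rank]
  rw [← h]

/-- **Characteristic 2**: `g ∈ Ω` iff `g - 1` has even rank. -/
theorem mem_omega_iff_even_rank [Fintype F] [CharP F 2] (Q : QuadraticForm F (ι → F))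
    (hS : Sep Q) (hG : Good Q) (g : ↥(Cfsg.isometryGroup F ⇑Q)) :
    g ∈ Cfsg.Omega F ⇑Q ↔ Even (((g : GL ι F) : Matrix ι ι F) - 1).rank := by
  rw [mem_omega_iff, commutator_eq_ker_two hS hG, MonoidHom.mem_ker]
  have h := rank_sub_one_add Q g
  have e : parHom hS (cdp_two hS hG) (isoEquiv Q g)
      = Multiplicative.ofAdd (chi (isoEquiv Q g : (ι → F) ≃ₗ[F] (ι → F))) := rfl
  rw [e]
  have e2 : chi (isoEquiv Q g : (ι → F) ≃ₗ[F] (ι → F))
      = (((((g : GL ι F) : Matrix ι ι F) - 1).rank : ℕ) : ZMod 2) := by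
    unfold chi
    rw [Module.finrank_fintype_fun_eq_card, ← h]
    push_cast
    have : ∀ a l : ZMod 2, a + l + l = a := by decide
    exact this _ _
  rw [e2]
  constructor
  · intro h1
    have h2 : (((((g : GL ι F) : Matrix ι ι F) - 1).rank : ℕ) : ZMod 2) = 0 := h1
    exact ZMod.natCast_eq_zero_iff_even.mp h2
  · intro h1
    have h2 : (((((g : GL ι F) : Matrix ι ι F) - 1).rank : ℕ) : ZMod 2) = 0 :=
      ZMod.natCast_eq_zero_iff_even.mpr h1
    rw [h2]
    rfl

end Cfsg.Agent.Lib.Helper45.OmegaRank
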