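import Mathlib
import Cfsg.Prelude.Def_Classical
import Cfsg.Agent.S2669

set_option autoImplicit false

namespace Cfsg.Agent.Lib.Helper45.OrthStep

open Matrix

section Abstract

variable {F V : Type*} [Field F] [AddCommGroup V] [Module F V] (Q : QuadraticForm F V)

open QuadraticMap

theorem Q_sub (x y : V) : Q (x - y) = Q x + Q y - polar Q x y := by
  rw [sub_eq_add_neg, QuadraticMap.map_add Q x (-y), QuadraticMap.map_neg, polar_neg_right]
  ring

/-- orthogonal reflection (orthogonal transvection in characteristic two) -/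
noncomputable def refl (w : V) : V →ₗ[F] V :=
  LinearMap.id - (Q w)⁻¹ • (polarBilin Q w).smulRight w

theorem refl_apply (w x : V) : refl Q w x = x - ((Q w)⁻¹ * polar Q w x) • w := by
  simp [refl, mul_smul]

theorem Q_refl (w : V) (hw : Q w ≠ 0) (x : V) : Q (refl Q w x) = Q x := by
  rw [refl_apply]
  set c := (Q w)⁻¹ * polar Q w x with hc
  have h1 : x - c • w = x + (-c) • w := by
    rw [neg_smul, sub_eq_add_neg]
  rw [h1, QuadraticMap.map_add Q x ((-c) • w), QuadraticMap.map_smul, polar_smul_right,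
    polar_comm Q x w]
  simp only [smul_eq_mul]
  rw [hc]
  field_simp
  ring

/-- Siegel (Eichler) transformation -/
noncomputable def siegel (e u : V) : V →ₗ[F] V :=
  LinearMap.id + (polarBilin Q u).smulRight e - (polarBilin Q e).smulRight u -
    (Q u) • (polarBilin Q e).smulRight e

theorem siegel_apply (e u x : V) :
    siegel Q e u x = x + polar Q u x • e - polar Q e x • u - (Q u * polar Q e x) • e := by
  simp [siegel, mul_smul]

theorem Q_siegel (e u : V) (he : Q e = 0) (heu : polar Q e u = 0) (x : V) :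
    Q (siegel Q e u x) = Q x := by
  rw [siegel_apply]
  set α := polar Q u x with hα
  set β := polar Q e x with hβ
  have h1 : x + α • e - β • u - (Q u * β) • e = x + ((α - Q u * β) • e + (-β) • u) := by
    rw [sub_smul, neg_smul]
    abel
  rw [h1, QuadraticMap.map_add Q x, QuadraticMap.map_add Q ((α - Q u * β) • e),
    QuadraticMap.map_smul, QuadraticMap.map_smul, polar_add_right, polar_smul_right,
    polar_smul_right, polar_smul_left, polar_smul_right, he, heu, polar_comm Q x e,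
    polar_comm Q x u, ← hα, ← hβ]
  simp only [smul_eq_mul]
  ring

/-- linear maps preserving `Q` -/
def IsIso (L : V →ₗ[F] V) : Prop := ∀ x, Q (L x) = Q x

theorem IsIso.polar {L : V →ₗ[F] V} (hL : IsIso Q L) (x y : V) :
    polar Q (L x) (L y) = polar Q x y := by
  simp only [QuadraticMap.polar, ← map_add, hL (x + y), hL x, hL y]

theorem IsIso.comp {L L' : V →ₗ[F] V} (hL : IsIso Q L) (hL' : IsIso Q L') :
    IsIso Q (L ∘ₗ L') := fun x => by
  rw [LinearMap.comp_apply, hL, hL']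

/-- hyperbolic pairs -/
def HP (e f : V) : Prop := Q e = 0 ∧ Q f = 0 ∧ polar Q e f = 1

theorem exists_refl_map (a b : V) (ha : Q a = 0) (hb : Q b = 0) (hab : polar Q a b ≠ 0) :
    ∃ L : V →ₗ[F] V, IsIso Q L ∧ L a = b := by
  have hQ : Q (a - b) = -polar Q a b := by
    rw [Q_sub, ha, hb]
    ring
  have hQ0 : Q (a - b) ≠ 0 := by
    rw [hQ]
    exact neg_ne_zero.2 hab
  refine ⟨refl Q (a - b), Q_refl Q _ hQ0, ?_⟩
  rw [refl_apply]
  have h1 : polar Q (a - b) a = -polar Q a b := by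
    rw [polar_sub_left, polar_self, ha, polar_comm Q b a]
    simp
  rw [h1, hQ, inv_mul_cancel₀ (neg_ne_zero.2 hab), one_smul]
  abel

theorem exists_map_singular (e f e' f' : V) (h : HP Q e f) (h' : HP Q e' f') :
    ∃ L : V →ₗ[F] V, IsIso Q L ∧ L e = e' := by
  obtain ⟨he, hf, hef⟩ := h
  obtain ⟨he', hf', hef'⟩ := h'
  by_cases h0 : polar Q e e' = 0
  · -- an intermediate singular vector
    have key : ∃ z : V, Q z = 0 ∧ polar Q e z ≠ 0 ∧ polar Q z e' ≠ 0 := by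
      by_cases h1 : polar Q f e' = 0
      · by_cases h2 : polar Q f' e = 0
        · refine ⟨f + f' + (-polar Q f f') • e, ?_, ?_, ?_⟩
          · rw [QuadraticMap.map_add Q (f + f'), QuadraticMap.map_add Q f f',
              QuadraticMap.map_smul, hf, hf', he,
              polar_smul_right, polar_add_left, polar_comm Q f e, hef, h2]
            simp
          · rw [polar_add_right, polar_add_right, polar_smul_right, polar_self, he, hef,
              polar_comm Q e f', h2]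
            simp
          · rw [polar_add_left, polar_add_left, polar_smul_left, h1, h0, polar_comm Q f' e', hef']
            simp
        · refine ⟨f', hf', ?_, ?_⟩
          · rw [polar_comm]
            exact h2
          · rw [polar_comm, hef']
            exact one_ne_zero
      · refine ⟨f, hf, ?_, h1⟩
        rw [hef]
        exact one_ne_zero
    obtain ⟨z, hz, hez, hze'⟩ := key
    obtain ⟨L₁, hL₁, hL₁e⟩ := exists_refl_map Q e z he hz hez
    obtain ⟨L₂, hL₂, hL₂z⟩ := exists_refl_map Q z e' hz he' hze'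
    exact ⟨L₂ ∘ₗ L₁, hL₂.comp Q hL₁, by rw [LinearMap.comp_apply, hL₁e, hL₂z]⟩
  · exact exists_refl_map Q e e' he he' h0

theorem exists_map_second (e f f' : V) (h : HP Q e f) (h' : HP Q e f') :
    ∃ L : V →ₗ[F] V, IsIso Q L ∧ L e = e ∧ L f = f' := by
  obtain ⟨he, hf, hef⟩ := h
  obtain ⟨-, hf', hef'⟩ := h'
  have heu : polar Q e (f - f') = 0 := by
    rw [polar_sub_right, hef, hef', sub_self]
  refine ⟨siegel Q e (f - f'), Q_siegel Q e _ he heu, ?_, ?_⟩
  · rw [siegel_apply, polar_comm Q (f - f') e, heu, polar_self, he]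
    simp
  · rw [siegel_apply, hef, Q_sub, hf, hf', polar_sub_left, polar_self, hf,
      polar_comm Q f' f]
    simp only [smul_eq_mul, mul_zero, zero_sub, zero_add, one_smul, mul_one]
    module

theorem exists_map_pair (e f e' f' : V) (h : HP Q e f) (h' : HP Q e' f') :
    ∃ L : V →ₗ[F] V, IsIso Q L ∧ L e = e' ∧ L f = f' := by
  obtain ⟨L₁, hL₁, hL₁e⟩ := exists_map_singular Q e f e' f' h h'
  have h'' : HP Q e' (L₁ f) := by
    refine ⟨h'.1, ?_, ?_⟩
    · rw [hL₁, h.2.1]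
    · rw [← hL₁e, hL₁.polar Q, h.2.2]
  obtain ⟨L₂, hL₂, hL₂e, hL₂f⟩ := exists_map_second Q e' (L₁ f) f' h'' h'
  exact ⟨L₂ ∘ₗ L₁, hL₂.comp Q hL₁, by rw [LinearMap.comp_apply, hL₁e, hL₂e],
    by rw [LinearMap.comp_apply, hL₂f]⟩

end Abstract

section Mat

variable {F : Type*} [Field F] {J : Type} [Fintype J] [DecidableEq J]
  (Q : QuadraticForm F (J → F))

/-- no nonzero singular vector in the radical of the polar form -/
def ND : Prop := ∀ w : J → F, Q w = 0 → (∀ v, QuadraticMap.polar Q w v = 0) → w = 0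

theorem mem_iso_iff (g : GL J F) :
    g ∈ Cfsg.isometryGroup F (⇑Q) ↔ ∀ v, Q ((g : Matrix J J F) *ᵥ v) = Q v := by
  constructor
  · intro h v
    exact h v v
  · intro h u v
    exact h u

theorem polar_mulVec (M : Matrix J J F) (hM : ∀ v, Q (M *ᵥ v) = Q v) (x y : J → F) :
    QuadraticMap.polar Q (M *ᵥ x) (M *ᵥ y) = QuadraticMap.polar Q x y := by
  simp only [QuadraticMap.polar, ← Matrix.mulVec_add, hM]

theorem isUnit_of_preserves (hND : ND Q) (M : Matrix J J F) (hM : ∀ v, Q (M *ᵥ v) = Q v) :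
    IsUnit M := by
  rw [← Matrix.mulVec_injective_iff_isUnit]
  intro x x' hxx
  have h0 : M *ᵥ (x - x') = 0 := by
    rw [Matrix.mulVec_sub, hxx, sub_self]
  have h1 : x - x' = 0 := by
    apply hND
    · rw [← hM, h0, map_zero]
    · intro v
      rw [← polar_mulVec Q M hM, h0, QuadraticMap.polar_zero_left]
  exact sub_eq_zero.1 h1

/-- a matrix preserving `Q`, as an element of the isometry group -/
noncomputable def mkO (hND : ND Q) (M : Matrix J J F) (hM : ∀ v, Q (M *ᵥ v) = Q v) :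
    ↥(Cfsg.isometryGroup F (⇑Q)) :=
  ⟨(isUnit_of_preserves Q hND M hM).unit, fun u _ => hM u⟩

theorem mkO_coe (hND : ND Q) (M : Matrix J J F) (hM : ∀ v, Q (M *ᵥ v) = Q v) :
    (((mkO Q hND M hM : ↥(Cfsg.isometryGroup F (⇑Q))) : GL J F) : Matrix J J F) = M := rfl

theorem exists_of_linear (hND : ND Q) (L : (J → F) →ₗ[F] (J → F)) (hL : IsIso Q L) :
    ∃ g : ↥(Cfsg.isometryGroup F (⇑Q)), ∀ v, ((g : GL J F) : Matrix J J F) *ᵥ v = L v := by
  have h1 : ∀ v, LinearMap.toMatrix' L *ᵥ v = L v := fun v => by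
    rw [LinearMap.toMatrix'_mulVec]
  exact ⟨mkO Q hND (LinearMap.toMatrix' L) (fun v => by rw [h1, hL]), fun v => by
    rw [mkO_coe, h1]⟩

theorem iso_apply (g : ↥(Cfsg.isometryGroup F (⇑Q))) (v : J → F) :
    Q (((g : GL J F) : Matrix J J F) *ᵥ v) = Q v := (mem_iso_iff Q g.1).1 g.2 v

end Mat

section Hyp

variable {F : Type*} [Field F] {J : Type} [Fintype J] [DecidableEq J]
  (Q : QuadraticForm F (J → F))

/-- the orthogonal sum of `Q` and a hyperbolic plane -/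
noncomputable def hyp : QuadraticForm F (J ⊕ Fin 2 → F) :=
  Q.comp (LinearMap.funLeft F F Sum.inl) + QuadraticMap.proj (Sum.inr 0) (Sum.inr 1)

theorem hyp_apply (v : J ⊕ Fin 2 → F) :
    hyp Q v = Q (v ∘ Sum.inl) + v (Sum.inr 0) * v (Sum.inr 1) := rfl

/-- the first vector of the standard hyperbolic pair -/
def eH : J ⊕ Fin 2 → F := Sum.elim 0 ![1, 0]

/-- the second vector of the standard hyperbolic pair -/
def fH : J ⊕ Fin 2 → F := Sum.elim 0 ![0, 1]

theorem eH_eq : (eH : J ⊕ Fin 2 → F) = Pi.single (Sum.inr 0) 1 := by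
  funext i
  rcases i with i | i
  · simp [eH]
  · fin_cases i <;> simp [eH]

theorem fH_eq : (fH : J ⊕ Fin 2 → F) = Pi.single (Sum.inr 1) 1 := by
  funext i
  rcases i with i | i
  · simp [fH]
  · fin_cases i <;> simp [fH]

theorem hyp_eH : hyp Q eH = 0 := by
  have h : (eH : J ⊕ Fin 2 → F) ∘ Sum.inl = 0 := rfl
  rw [hyp_apply, h, map_zero]
  simp [eH]

theorem hyp_fH : hyp Q fH = 0 := by
  have h : (fH : J ⊕ Fin 2 → F) ∘ Sum.inl = 0 := rfl
  rw [hyp_apply, h, map_zero]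
  simp [fH]

theorem polar_eH (v : J ⊕ Fin 2 → F) : QuadraticMap.polar (hyp Q) v eH = v (Sum.inr 1) := by
  have h : (v + eH) ∘ Sum.inl = v ∘ Sum.inl := by
    funext i
    simp [eH]
  rw [QuadraticMap.polar, hyp_eH, hyp_apply, hyp_apply, h]
  simp [eH]
  ring

theorem polar_fH (v : J ⊕ Fin 2 → F) : QuadraticMap.polar (hyp Q) v fH = v (Sum.inr 0) := by
  have h : (v + fH) ∘ Sum.inl = v ∘ Sum.inl := by
    funext i
    simp [fH]
  rw [QuadraticMap.polar, hyp_fH, hyp_apply, hyp_apply, h]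
  simp [fH]
  ring

theorem hp_std : HP (hyp Q) (eH : J ⊕ Fin 2 → F) fH :=
  ⟨hyp_eH Q, hyp_fH Q, by rw [polar_fH]; simp [eH]⟩

theorem polar_elim (w v : J → F) (t : Fin 2 → F) :
    QuadraticMap.polar (hyp Q) (Sum.elim w 0) (Sum.elim v t) = QuadraticMap.polar Q w v := by
  simp only [QuadraticMap.polar, hyp_apply]
  have h1 : (Sum.elim w (0 : Fin 2 → F) + Sum.elim v t) ∘ Sum.inl = w + v := rfl
  have h2 : (Sum.elim w (0 : Fin 2 → F)) ∘ Sum.inl = w := rfl
  have h3 : (Sum.elim v t) ∘ Sum.inl = v := rfl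
  rw [h1, h2, h3]
  simp
  ring

theorem nd_hyp (hND : ND Q) : ND (hyp Q) := by
  intro w hw hpol
  have h1 : w (Sum.inr 1) = 0 := by
    rw [← polar_eH Q w]
    exact hpol _
  have h0 : w (Sum.inr 0) = 0 := by
    rw [← polar_fH Q w]
    exact hpol _
  have hw' : w = Sum.elim (w ∘ Sum.inl) 0 := by
    funext i
    rcases i with i | i
    · rfl
    · fin_cases i
      · exact h0
      · exact h1
  have h2 : w ∘ Sum.inl = 0 := by
    apply hND
    · rw [hyp_apply, h0, h1] at hw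
      simpa using hw
    · intro v
      have := hpol (Sum.elim v 0)
      rw [hw', polar_elim] at this
      exact this
  rw [hw', h2]
  funext i
  rcases i with i | i <;> rfl

/-- block embedding -/
def blk (A : Matrix J J F) : Matrix (J ⊕ Fin 2) (J ⊕ Fin 2) F :=
  Matrix.fromBlocks A 0 0 1

theorem blk_mulVec (A : Matrix J J F) (v : J ⊕ Fin 2 → F) :
    blk A *ᵥ v = Sum.elim (A *ᵥ (v ∘ Sum.inl)) (v ∘ Sum.inr) := by
  rw [blk, Matrix.fromBlocks_mulVec]
  simp

theorem blk_preserves (A : Matrix J J F) (hA : ∀ v, Q (A *ᵥ v) = Q v) (v : J ⊕ Fin 2 → F) :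
    hyp Q (blk A *ᵥ v) = hyp Q v := by
  rw [blk_mulVec, hyp_apply, hyp_apply]
  have h : (Sum.elim (A *ᵥ (v ∘ Sum.inl)) (v ∘ Sum.inr)) ∘ Sum.inl = A *ᵥ (v ∘ Sum.inl) := rfl
  rw [h, hA]
  rfl

theorem blk_eH (A : Matrix J J F) : blk A *ᵥ (eH : J ⊕ Fin 2 → F) = eH := by
  rw [blk_mulVec]
  have h : (eH : J ⊕ Fin 2 → F) ∘ Sum.inl = 0 := rfl
  rw [h, Matrix.mulVec_zero]
  rfl

theorem blk_fH (A : Matrix J J F) : blk A *ᵥ (fH : J ⊕ Fin 2 → F) = fH := by
  rw [blk_mulVec]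
  have h : (fH : J ⊕ Fin 2 → F) ∘ Sum.inl = 0 := rfl
  rw [h, Matrix.mulVec_zero]
  rfl

theorem blk_injective : Function.Injective (blk : Matrix J J F → _) := by
  intro A B h
  exact (Matrix.fromBlocks_inj.1 h).1

theorem stab_eq (M : Matrix (J ⊕ Fin 2) (J ⊕ Fin 2) F) (hM : ∀ v, hyp Q (M *ᵥ v) = hyp Q v)
    (he : M *ᵥ (eH : J ⊕ Fin 2 → F) = eH) (hf : M *ᵥ (fH : J ⊕ Fin 2 → F) = fH) :
    ∃ A : Matrix J J F, (∀ v, Q (A *ᵥ v) = Q v) ∧ blk A = M := by
  have hr1 : ∀ v : J ⊕ Fin 2 → F, (M *ᵥ v) (Sum.inr 1) = v (Sum.inr 1) := by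
    intro v
    rw [← polar_eH Q (M *ᵥ v), ← polar_eH Q v]
    conv_lhs => rw [← he]
    exact polar_mulVec (hyp Q) M hM v eH
  have hr0 : ∀ v : J ⊕ Fin 2 → F, (M *ᵥ v) (Sum.inr 0) = v (Sum.inr 0) := by
    intro v
    rw [← polar_fH Q (M *ᵥ v), ← polar_fH Q v]
    conv_lhs => rw [← hf]
    exact polar_mulVec (hyp Q) M hM v fH
  have hr : ∀ (v : J ⊕ Fin 2 → F) (t : Fin 2), (M *ᵥ v) (Sum.inr t) = v (Sum.inr t) := by
    intro v t
    fin_cases t
    · exact hr0 v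
    · exact hr1 v
  have hcol0 : ∀ i, M i (Sum.inr 0) = (eH : J ⊕ Fin 2 → F) i := by
    intro i
    have := congrFun he i
    rw [eH_eq, Matrix.mulVec_single_one] at this
    rw [eH_eq]
    exact this
  have hcol1 : ∀ i, M i (Sum.inr 1) = (fH : J ⊕ Fin 2 → F) i := by
    intro i
    have := congrFun hf i
    rw [fH_eq, Matrix.mulVec_single_one] at this
    rw [fH_eq]
    exact this
  have hrow : ∀ (t : Fin 2) (j : J), M (Sum.inr t) (Sum.inl j) = 0 := by
    intro t j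
    have := hr (Pi.single (Sum.inl j) 1) t
    rw [Matrix.mulVec_single_one] at this
    simpa using this
  have hMA : blk M.toBlocks₁₁ = M := by
    ext i j
    rcases i with i | i <;> rcases j with j | j
    · rfl
    · fin_cases j
      · show (0 : F) = M (Sum.inl i) (Sum.inr 0)
        rw [hcol0]
        rfl
      · show (0 : F) = M (Sum.inl i) (Sum.inr 1)
        rw [hcol1]
        rfl
    · show (0 : F) = M (Sum.inr i) (Sum.inl j)
      rw [hrow]
    · fin_cases j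
      · show (1 : Matrix (Fin 2) (Fin 2) F) i 0 = M (Sum.inr i) (Sum.inr 0)
        rw [hcol0]
        show (1 : Matrix (Fin 2) (Fin 2) F) i 0 = ![1, 0] i
        fin_cases i <;> simp [Matrix.one_apply]
      · show (1 : Matrix (Fin 2) (Fin 2) F) i 1 = M (Sum.inr i) (Sum.inr 1)
        rw [hcol1]
        show (1 : Matrix (Fin 2) (Fin 2) F) i 1 = ![0, 1] i
        fin_cases i <;> simp [Matrix.one_apply]
  refine ⟨M.toBlocks₁₁, ?_, hMA⟩
  intro w
  have h1 := hM (Sum.elim w 0)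
  rw [← hMA, blk_mulVec, hyp_apply, hyp_apply] at h1
  simpa using h1

end Hyp

section Count

variable {F : Type*} [Field F] {J : Type} [Fintype J] [DecidableEq J]

theorem exists_partner (Q : QuadraticForm F (J → F)) (hND : ND Q) (e : J → F) (he0 : e ≠ 0)
    (he : Q e = 0) : ∃ f, HP Q e f := by
  have h1 : ∃ v, QuadraticMap.polar Q e v ≠ 0 := by
    by_contra hcon
    push Not at hcon
    exact he0 (hND e he hcon)
  obtain ⟨v, hv⟩ := h1
  obtain ⟨v₁, hp⟩ : ∃ v₁, QuadraticMap.polar Q e v₁ = 1 :=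
    ⟨(QuadraticMap.polar Q e v)⁻¹ • v, by
      rw [QuadraticMap.polar_smul_right, smul_eq_mul, inv_mul_cancel₀ hv]⟩
  refine ⟨v₁ - Q v₁ • e, he, ?_, ?_⟩
  · rw [Q_sub, QuadraticMap.map_smul, he, QuadraticMap.polar_smul_right,
      QuadraticMap.polar_comm Q v₁ e, hp]
    simp
  · rw [QuadraticMap.polar_sub_right, QuadraticMap.polar_smul_right, QuadraticMap.polar_self, he,
      hp]
    simp

theorem hp_ne_zero (Q : QuadraticForm F (J → F)) (e f : J → F) (h : HP Q e f) : e ≠ 0 := by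
  rintro rfl
  have := h.2.2
  rw [QuadraticMap.polar_zero_left] at this
  exact zero_ne_one this

theorem mulVec_ne_zero (g : GL J F) (v : J → F) (hv : v ≠ 0) :
    (g : Matrix J J F) *ᵥ v ≠ 0 := by
  intro h0
  apply hv
  have := congrArg (fun x => ((g⁻¹ : GL J F) : Matrix J J F) *ᵥ x) h0
  simpa [Matrix.mulVec_mulVec] using this

theorem card_stageA (Q : QuadraticForm F (J → F)) (hND : ND Q) (e f : J → F) (hef : HP Q e f) :
    Nat.card ↥(Cfsg.isometryGroup F (⇑Q)) =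
      Nat.card {v : J → F // v ≠ 0 ∧ Q v = 0} *
        Nat.card {h : ↥(Cfsg.isometryGroup F (⇑Q)) // ((h : GL J F) : Matrix J J F) *ᵥ e = e} := by
  have he0 := hp_ne_zero Q e f hef
  let φ : ↥(Cfsg.isometryGroup F (⇑Q)) → {v : J → F // v ≠ 0 ∧ Q v = 0} := fun g =>
    ⟨((g : GL J F) : Matrix J J F) *ᵥ e, mulVec_ne_zero g.1 e he0, by rw [iso_apply, hef.1]⟩
  let act : {h : ↥(Cfsg.isometryGroup F (⇑Q)) // ((h : GL J F) : Matrix J J F) *ᵥ e = e} →
      ↥(Cfsg.isometryGroup F (⇑Q)) → ↥(Cfsg.isometryGroup F (⇑Q)) := fun h g => g * h.1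
  apply Cfsg.Agent.S2669.card_eq_mul φ act
  · rintro ⟨e', he'0, he'⟩
    obtain ⟨f', hf'⟩ := exists_partner Q hND e' he'0 he'
    obtain ⟨L, hL, hLe⟩ := exists_map_singular Q e f e' f' hef hf'
    obtain ⟨g, hg⟩ := exists_of_linear Q hND L hL
    exact ⟨g, Subtype.ext (by
      show ((g : GL J F) : Matrix J J F) *ᵥ e = e'
      rw [hg, hLe])⟩
  · intro h g
    apply Subtype.ext
    show ((g * h.1 : ↥(Cfsg.isometryGroup F (⇑Q))) : GL J F).1 *ᵥ e =
      ((g : GL J F) : Matrix J J F) *ᵥ e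
    rw [Subgroup.coe_mul, Units.val_mul, ← Matrix.mulVec_mulVec, h.2]
  · intro g g₂ hgg
    have h1 : ((g : GL J F) : Matrix J J F) *ᵥ e = ((g₂ : GL J F) : Matrix J J F) *ᵥ e :=
      congrArg Subtype.val hgg
    have h2 : (((g⁻¹ * g₂ : ↥(Cfsg.isometryGroup F (⇑Q))) : GL J F) : Matrix J J F) *ᵥ e = e := by
      rw [Subgroup.coe_mul, Units.val_mul, ← Matrix.mulVec_mulVec, ← h1, Matrix.mulVec_mulVec,
        ← Units.val_mul, ← Subgroup.coe_mul, inv_mul_cancel]
      simp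
    refine ⟨⟨g⁻¹ * g₂, h2⟩, ?_, ?_⟩
    · show g * (g⁻¹ * g₂) = g₂
      rw [mul_inv_cancel_left]
    · intro h' hh'
      have h3 : g * h'.1 = g₂ := hh'
      apply Subtype.ext
      show h'.1 = g⁻¹ * g₂
      rw [← h3, inv_mul_cancel_left]

variable (Q : QuadraticForm F (J → F))

theorem card_stageB (hND : ND Q) :
    Nat.card {h : ↥(Cfsg.isometryGroup F (⇑(hyp Q))) //
        ((h : GL (J ⊕ Fin 2) F) : Matrix (J ⊕ Fin 2) (J ⊕ Fin 2) F) *ᵥ eH = eH} =
      Nat.card {f' : J ⊕ Fin 2 → F // hyp Q f' = 0 ∧ QuadraticMap.polar (hyp Q) eH f' = 1} *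
        Nat.card ↥(Cfsg.isometryGroup F (⇑Q)) := by
  have hND' := nd_hyp Q hND
  let SE := {h : ↥(Cfsg.isometryGroup F (⇑(hyp Q))) //
        ((h : GL (J ⊕ Fin 2) F) : Matrix (J ⊕ Fin 2) (J ⊕ Fin 2) F) *ᵥ eH = eH}
  let φ : SE → {f' : J ⊕ Fin 2 → F // hyp Q f' = 0 ∧ QuadraticMap.polar (hyp Q) eH f' = 1} :=
    fun h => ⟨((h.1 : GL (J ⊕ Fin 2) F) : Matrix (J ⊕ Fin 2) (J ⊕ Fin 2) F) *ᵥ fH, by
      rw [iso_apply, hyp_fH], by
      have h1 := polar_mulVec (hyp Q) _ (iso_apply (hyp Q) h.1) eH fH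
      rw [h.2] at h1
      rw [h1]
      exact (hp_std Q).2.2⟩
  let ι : ↥(Cfsg.isometryGroup F (⇑Q)) → ↥(Cfsg.isometryGroup F (⇑(hyp Q))) := fun g' =>
    mkO (hyp Q) hND' (blk ((g' : GL J F) : Matrix J J F)) (blk_preserves Q _ (iso_apply Q g'))
  let act : ↥(Cfsg.isometryGroup F (⇑Q)) → SE → SE := fun g' h =>
    ⟨h.1 * ι g', by
      rw [Subgroup.coe_mul, Units.val_mul, ← Matrix.mulVec_mulVec]
      show ((h.1 : GL (J ⊕ Fin 2) F) : Matrix (J ⊕ Fin 2) (J ⊕ Fin 2) F) *ᵥ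
        (blk ((g' : GL J F) : Matrix J J F) *ᵥ eH) = eH
      rw [blk_eH, h.2]⟩
  apply Cfsg.Agent.S2669.card_eq_mul φ act
  · rintro ⟨f', hf'0, hf'1⟩
    obtain ⟨L, hL, hLe, hLf⟩ := exists_map_second (hyp Q) eH fH f' (hp_std Q)
      ⟨hyp_eH Q, hf'0, hf'1⟩
    obtain ⟨g, hg⟩ := exists_of_linear (hyp Q) hND' L hL
    exact ⟨⟨g, by rw [hg, hLe]⟩, Subtype.ext (by
      show ((g : GL (J ⊕ Fin 2) F) : Matrix (J ⊕ Fin 2) (J ⊕ Fin 2) F) *ᵥ fH = f'
      rw [hg, hLf])⟩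
  · intro g' h
    apply Subtype.ext
    show ((h.1 * ι g' : ↥(Cfsg.isometryGroup F (⇑(hyp Q)))) : GL (J ⊕ Fin 2) F).1 *ᵥ fH =
      ((h.1 : GL (J ⊕ Fin 2) F) : Matrix (J ⊕ Fin 2) (J ⊕ Fin 2) F) *ᵥ fH
    rw [Subgroup.coe_mul, Units.val_mul, ← Matrix.mulVec_mulVec]
    congr 1
    exact blk_fH _
  · intro h h₂ hhh
    have h1 : ((h.1 : GL (J ⊕ Fin 2) F) : Matrix (J ⊕ Fin 2) (J ⊕ Fin 2) F) *ᵥ fH =
        ((h₂.1 : GL (J ⊕ Fin 2) F) : Matrix (J ⊕ Fin 2) (J ⊕ Fin 2) F) *ᵥ fH :=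
      congrArg Subtype.val hhh
    have hfix : ∀ (x : J ⊕ Fin 2 → F),
        ((h.1 : GL (J ⊕ Fin 2) F) : Matrix (J ⊕ Fin 2) (J ⊕ Fin 2) F) *ᵥ x =
          ((h₂.1 : GL (J ⊕ Fin 2) F) : Matrix (J ⊕ Fin 2) (J ⊕ Fin 2) F) *ᵥ x →
        (((h.1⁻¹ * h₂.1 : ↥(Cfsg.isometryGroup F (⇑(hyp Q)))) : GL (J ⊕ Fin 2) F) :
          Matrix (J ⊕ Fin 2) (J ⊕ Fin 2) F) *ᵥ x = x := by
      intro x hx
      rw [Subgroup.coe_mul, Units.val_mul, ← Matrix.mulVec_mulVec, ← hx, Matrix.mulVec_mulVec,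
        ← Units.val_mul, ← Subgroup.coe_mul, inv_mul_cancel]
      simp
    have h2e := hfix eH (by rw [h.2, h₂.2])
    have h2f := hfix fH h1
    obtain ⟨A, hA, hAM⟩ := stab_eq Q _ (iso_apply (hyp Q) (h.1⁻¹ * h₂.1)) h2e h2f
    have h3 : ι (mkO Q hND A hA) = h.1⁻¹ * h₂.1 := by
      apply Subtype.ext
      apply Units.ext
      show blk A = _
      rw [hAM]
    refine ⟨mkO Q hND A hA, ?_, ?_⟩
    · apply Subtype.ext
      show h.1 * ι (mkO Q hND A hA) = h₂.1
      rw [h3, mul_inv_cancel_left]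
    · intro g'' hg''
      have h5 : h.1 * ι g'' = h₂.1 := congrArg Subtype.val hg''
      have h4 : ι g'' = ι (mkO Q hND A hA) := by
        rw [h3, ← h5, inv_mul_cancel_left]
      apply Subtype.ext
      apply Units.ext
      apply blk_injective
      exact congrArg (fun z : ↥(Cfsg.isometryGroup F (⇑(hyp Q))) =>
        ((z : GL (J ⊕ Fin 2) F) : Matrix (J ⊕ Fin 2) (J ⊕ Fin 2) F)) h4

theorem card_T [Fintype F] :
    Nat.card {f' : J ⊕ Fin 2 → F // hyp Q f' = 0 ∧ QuadraticMap.polar (hyp Q) eH f' = 1} =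
      Fintype.card F ^ Fintype.card J := by
  classical
  rw [← Fintype.card_fun, ← Nat.card_eq_fintype_card]
  symm
  let φ : (J → F) →
      {f' : J ⊕ Fin 2 → F // hyp Q f' = 0 ∧ QuadraticMap.polar (hyp Q) eH f' = 1} := fun w =>
    ⟨Sum.elim w ![-Q w, 1], by
      rw [hyp_apply]
      have h : (Sum.elim w ![-Q w, 1]) ∘ Sum.inl = w := rfl
      rw [h]
      simp, by
      rw [QuadraticMap.polar_comm, polar_eH]
      simp⟩
  apply Nat.card_congr (Equiv.ofBijective φ ⟨?_, ?_⟩)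
  · intro w w' h
    have h1 := congrArg (fun x : {f' : J ⊕ Fin 2 → F // hyp Q f' = 0 ∧
      QuadraticMap.polar (hyp Q) eH f' = 1} => (x : J ⊕ Fin 2 → F) ∘ Sum.inl) h
    exact h1
  · rintro ⟨f', hf'0, hf'1⟩
    refine ⟨f' ∘ Sum.inl, Subtype.ext ?_⟩
    have h1 : f' (Sum.inr 1) = 1 := by
      rw [← polar_eH Q f', QuadraticMap.polar_comm]
      exact hf'1
    have h0 : f' (Sum.inr 0) = -Q (f' ∘ Sum.inl) := by
      rw [hyp_apply, h1, mul_one] at hf'0
      linear_combination hf'0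
    funext i
    rcases i with i | i
    · rfl
    · fin_cases i
      · show -Q (f' ∘ Sum.inl) = f' (Sum.inr 0)
        rw [h0]
      · show (1 : F) = f' (Sum.inr 1)
        rw [h1]

/-- the induction step for the order of an orthogonal group -/
theorem card_step [Fintype F] (hND : ND Q) :
    Nat.card ↥(Cfsg.isometryGroup F (⇑(hyp Q))) =
      Nat.card {v : J ⊕ Fin 2 → F // v ≠ 0 ∧ hyp Q v = 0} *
        (Fintype.card F ^ Fintype.card J * Nat.card ↥(Cfsg.isometryGroup F (⇑Q))) := by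
  rw [card_stageA (hyp Q) (nd_hyp Q hND) eH fH (hp_std Q), card_stageB Q hND, card_T]

end Count

section Reindex

variable {F : Type*} [Field F] {J₁ J₂ : Type} [Fintype J₁] [DecidableEq J₁] [Fintype J₂]
  [DecidableEq J₂]

theorem card_iso_reindex (e : J₁ ≃ J₂) (Q₂ : (J₂ → F) → F) :
    Nat.card ↥(Cfsg.isometryGroup F (fun v : J₁ → F => Q₂ (v ∘ e.symm))) =
      Nat.card ↥(Cfsg.isometryGroup F Q₂) := by
  let E : GL J₁ F ≃* GL J₂ F := Units.mapEquiv (Matrix.reindexAlgEquiv F F e).toMulEquiv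
  have key : ∀ (g : GL J₁ F) (w : J₂ → F), ((E g : GL J₂ F) : Matrix J₂ J₂ F) *ᵥ w =
      ((g : Matrix J₁ J₁ F) *ᵥ (w ∘ e)) ∘ e.symm := by
    intro g w
    show (Matrix.reindex e e (g : Matrix J₁ J₁ F)) *ᵥ w = _
    rw [Matrix.reindex_apply, Matrix.submatrix_mulVec_equiv]
    rfl
  apply Nat.card_congr
  refine Equiv.subtypeEquiv E.toEquiv ?_
  intro g
  constructor
  · intro h u v
    show Q₂ (((E g : GL J₂ F) : Matrix J₂ J₂ F) *ᵥ u) = Q₂ u
    rw [key]
    have h1 : Q₂ (((g : Matrix J₁ J₁ F) *ᵥ (u ∘ e)) ∘ e.symm) = Q₂ ((u ∘ e) ∘ e.symm) :=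
      h (u ∘ e) (u ∘ e)
    have h2 : (u ∘ e) ∘ e.symm = u := by
      funext i
      simp
    rw [h2] at h1
    exact h1
  · intro h u v
    show Q₂ (((g : Matrix J₁ J₁ F) *ᵥ u) ∘ e.symm) = Q₂ (u ∘ e.symm)
    have h1 := h (u ∘ e.symm) (u ∘ e.symm)
    have h1' : Q₂ (((E g : GL J₂ F) : Matrix J₂ J₂ F) *ᵥ (u ∘ e.symm)) = Q₂ (u ∘ e.symm) := h1
    rw [key] at h1'
    have h2 : (u ∘ e.symm) ∘ e = u := by
      funext i
      simp
    rw [h2] at h1'
    exact h1'

theorem card_zeros_reindex (e : J₁ ≃ J₂) (Q₂ : (J₂ → F) → F) :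
    Nat.card {v : J₁ → F // v ≠ 0 ∧ Q₂ (v ∘ e.symm) = 0} =
      Nat.card {v : J₂ → F // v ≠ 0 ∧ Q₂ v = 0} := by
  apply Nat.card_congr
  refine Equiv.subtypeEquiv (e.arrowCongr (Equiv.refl F)) ?_
  intro v
  have h1 : (e.arrowCongr (Equiv.refl F)) v = v ∘ e.symm := rfl
  rw [h1]
  have h2 : v ∘ e.symm ≠ 0 ↔ v ≠ 0 := by
    constructor
    · rintro h rfl
      exact h rfl
    · intro h h0
      apply h
      funext i
      have := congrFun h0 (e i)
      simpa using this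
  rw [h2]

theorem card_nonzero_zeros [Fintype F] (Qf : (J₁ → F) → F) (h0 : Qf 0 = 0) :
    Nat.card {v : J₁ → F // v ≠ 0 ∧ Qf v = 0} + 1 = Nat.card {v : J₁ → F // Qf v = 0} := by
  classical
  rw [Nat.card_eq_fintype_card, Nat.card_eq_fintype_card, Fintype.card_subtype,
    Fintype.card_subtype]
  have h1 : (Finset.univ.filter (fun v : J₁ → F => Qf v = 0)) =
      insert 0 (Finset.univ.filter (fun v : J₁ → F => v ≠ 0 ∧ Qf v = 0)) := by
    ext v
    simp only [Finset.mem_filter, Finset.mem_univ, true_and, Finset.mem_insert]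
    constructor
    · intro h
      by_cases hv : v = 0
      · exact Or.inl hv
      · exact Or.inr ⟨hv, h⟩
    · rintro (rfl | ⟨-, h⟩)
      · exact h0
      · exact h
  rw [h1, Finset.card_insert_of_notMem]
  simp

/-- the induction step, for a form given on another index type -/
theorem card_step_concrete [Fintype F] (e : J₁ ⊕ Fin 2 ≃ J₂) (Q : QuadraticForm F (J₁ → F))
    (hND : ND Q) (Q' : (J₂ → F) → F)
    (h : ∀ v : J₁ ⊕ Fin 2 → F, Q' (v ∘ e.symm) = Q (v ∘ Sum.inl) + v (Sum.inr 0) * v (Sum.inr 1)) :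
    Nat.card ↥(Cfsg.isometryGroup F Q') =
      (Nat.card {v : J₂ → F // Q' v = 0} - 1) *
        (Fintype.card F ^ Fintype.card J₁ * Nat.card ↥(Cfsg.isometryGroup F (⇑Q))) := by
  have hfun : (fun v : J₁ ⊕ Fin 2 → F => Q' (v ∘ e.symm)) = ⇑(hyp Q) := by
    funext v
    rw [h, hyp_apply]
  have h1 := card_iso_reindex e Q'
  have h2 := card_zeros_reindex e Q'
  have h0 : Q' 0 = 0 := by
    have := h 0
    simpa using this
  have h3 := card_nonzero_zeros Q' h0
  rw [← h1, ← h3, Nat.add_sub_cancel, ← h2]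
  have h4 : Nat.card ↥(Cfsg.isometryGroup F (fun v : J₁ ⊕ Fin 2 → F => Q' (v ∘ e.symm))) =
      Nat.card ↥(Cfsg.isometryGroup F (⇑(hyp Q))) := by
    rw [hfun]
  have h5 : Nat.card {v : J₁ ⊕ Fin 2 → F // v ≠ 0 ∧ Q' (v ∘ e.symm) = 0} =
      Nat.card {v : J₁ ⊕ Fin 2 → F // v ≠ 0 ∧ hyp Q v = 0} := by
    apply Nat.card_congr
    refine Equiv.subtypeEquivRight ?_
    intro v
    rw [h, hyp_apply]
  rw [h4, h5]
  exact card_step Q hND

end Reindex

end Cfsg.Agent.Lib.Helper45.OrthStep
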