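import Mathlib
import Cfsg.Prelude.Def_Classical
import Cfsg.Agent.Lib.Helper45.OrthStep
import Cfsg.Agent.Lib.Helper45.GUOrth
import Cfsg.Agent.Lib.Helper5.HermCount
import Cfsg.Agent.S2641
import Cfsg.Agent.S2669
import Cfsg.Agent.S2679
import Cfsg.Agent.S0289
import Cfsg.Agent.S0290
import Cfsg.Agent.S0291

/-!
Orders of the finite orthogonal groups `O⁺_{2m}(q)`, `O⁻_{2m}(q)` (all `q`) and `O_{2m+1}(q)`
(`q` odd), for the standard forms of `Cfsg.Prelude.Def_Classical`, by induction on the Witt index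
with `OrthStep.card_step_concrete` and the zero counts S0289, S0290, S0291.
-/

set_option autoImplicit false

namespace Cfsg.Agent.Lib.Helper45.OrthCard

open Matrix Cfsg.Agent.Lib.Helper45.OrthStep


section Forms

variable {F : Type*} [Field F]

/-- the plus-type form as a `QuadraticForm` -/
noncomputable def QP (m : ℕ) : QuadraticForm F (Fin m ⊕ Fin m → F) :=
  ∑ i : Fin m, QuadraticMap.proj (Sum.inl i) (Sum.inr i)

theorem QP_apply (m : ℕ) (v : Fin m ⊕ Fin m → F) : QP m v = Cfsg.quadFormPlus m F v := by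
  simp [QP, Cfsg.quadFormPlus]

theorem QP_coe (m : ℕ) : (⇑(QP (F := F) m)) = Cfsg.quadFormPlus m F := funext (QP_apply m)

/-- the minus-type form as a `QuadraticForm` -/
noncomputable def QM (k : ℕ) (a b : F) : QuadraticForm F ((Fin k ⊕ Fin k) ⊕ Fin 2 → F) :=
  ∑ i : Fin k, QuadraticMap.proj (Sum.inl (Sum.inl i)) (Sum.inl (Sum.inr i)) +
    (QuadraticMap.proj (Sum.inr 0) (Sum.inr 0) + a • QuadraticMap.proj (Sum.inr 0) (Sum.inr 1) +
      b • QuadraticMap.proj (Sum.inr 1) (Sum.inr 1))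

theorem QM_apply (k : ℕ) (a b : F) (v : (Fin k ⊕ Fin k) ⊕ Fin 2 → F) :
    QM k a b v = Cfsg.quadFormMinus k F a b v := by
  simp [QM, Cfsg.quadFormMinus]
  ring

theorem QM_coe (k : ℕ) (a b : F) : (⇑(QM k a b)) = Cfsg.quadFormMinus k F a b :=
  funext (QM_apply k a b)

/-- the odd-dimensional form as a `QuadraticForm` -/
noncomputable def QO (m : ℕ) : QuadraticForm F (Unit ⊕ (Fin m ⊕ Fin m) → F) :=
  QuadraticMap.proj (Sum.inl ()) (Sum.inl ()) +
    ∑ i : Fin m, QuadraticMap.proj (Sum.inr (Sum.inl i)) (Sum.inr (Sum.inr i))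

theorem QO_apply (m : ℕ) (v : Unit ⊕ (Fin m ⊕ Fin m) → F) :
    QO m v = Cfsg.quadFormOdd m F v := by
  simp [QO, Cfsg.quadFormOdd]
  ring

theorem QO_coe (m : ℕ) : (⇑(QO (F := F) m)) = Cfsg.quadFormOdd m F := funext (QO_apply m)

theorem polar_QP (m : ℕ) (w v : Fin m ⊕ Fin m → F) :
    QuadraticMap.polar (QP m) w v =
      ∑ i : Fin m, (w (Sum.inl i) * v (Sum.inr i) + v (Sum.inl i) * w (Sum.inr i)) := by
  simp only [QuadraticMap.polar, QP_apply, Cfsg.quadFormPlus, Pi.add_apply]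
  rw [← Finset.sum_sub_distrib, ← Finset.sum_sub_distrib]
  apply Finset.sum_congr rfl
  intro i _
  ring

theorem nd_QP (m : ℕ) : ND (QP (F := F) m) := by
  classical
  intro w _ hw
  funext j
  rcases j with i | i
  · have h := hw (Pi.single (Sum.inr i) 1)
    rw [polar_QP] at h
    simpa [Pi.single_apply] using h
  · have h := hw (Pi.single (Sum.inl i) 1)
    rw [polar_QP] at h
    simpa [Pi.single_apply] using h

theorem polar_QM (k : ℕ) (a b : F) (w v : (Fin k ⊕ Fin k) ⊕ Fin 2 → F) :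
    QuadraticMap.polar (QM k a b) w v =
      ∑ i : Fin k, (w (Sum.inl (Sum.inl i)) * v (Sum.inl (Sum.inr i)) +
        v (Sum.inl (Sum.inl i)) * w (Sum.inl (Sum.inr i))) +
      (2 * w (Sum.inr 0) * v (Sum.inr 0) +
        a * (w (Sum.inr 0) * v (Sum.inr 1) + v (Sum.inr 0) * w (Sum.inr 1)) +
        2 * b * w (Sum.inr 1) * v (Sum.inr 1)) := by
  simp only [QuadraticMap.polar, QM_apply, Cfsg.quadFormMinus, Pi.add_apply]
  have h : ∀ A B C D E G : F, A + D - (B + E) - (C + G) = (A - B - C) + (D - E - G) := by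
    intros; ring
  rw [h, ← Finset.sum_sub_distrib, ← Finset.sum_sub_distrib]
  congr 1
  · apply Finset.sum_congr rfl
    intro i _
    ring
  · ring

theorem nd_QM (k : ℕ) (a b : F)
    (hab : ∀ z₁ z₂ : F, z₁ ^ 2 + a * z₁ * z₂ + b * z₂ ^ 2 = 0 → z₁ = 0 ∧ z₂ = 0) :
    ND (QM k a b) := by
  classical
  intro w hw0 hw
  have h1 : ∀ i, w (Sum.inl (Sum.inl i)) = 0 := by
    intro i
    have h := hw (Pi.single (Sum.inl (Sum.inr i)) 1)
    rw [polar_QM] at h
    simpa [Pi.single_apply] using h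
  have h2 : ∀ i, w (Sum.inl (Sum.inr i)) = 0 := by
    intro i
    have h := hw (Pi.single (Sum.inl (Sum.inl i)) 1)
    rw [polar_QM] at h
    simpa [Pi.single_apply] using h
  rw [QM_apply, Cfsg.quadFormMinus] at hw0
  simp only [h1, h2, mul_zero, Finset.sum_const_zero, zero_add] at hw0
  obtain ⟨h3, h4⟩ := hab _ _ hw0
  funext j
  rcases j with (i | i) | j
  · exact h1 i
  · exact h2 i
  · fin_cases j
    · exact h3
    · exact h4

theorem polar_QO (m : ℕ) (w v : Unit ⊕ (Fin m ⊕ Fin m) → F) :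
    QuadraticMap.polar (QO m) w v =
      2 * w (Sum.inl ()) * v (Sum.inl ()) +
      ∑ i : Fin m, (w (Sum.inr (Sum.inl i)) * v (Sum.inr (Sum.inr i)) +
        v (Sum.inr (Sum.inl i)) * w (Sum.inr (Sum.inr i))) := by
  simp only [QuadraticMap.polar, QO_apply, Cfsg.quadFormOdd, Pi.add_apply]
  have h : ∀ A B C D E G : F, A + D - (B + E) - (C + G) = (A - B - C) + (D - E - G) := by
    intros; ring
  rw [h, ← Finset.sum_sub_distrib, ← Finset.sum_sub_distrib]
  congr 1
  · ring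
  · apply Finset.sum_congr rfl
    intro i _
    ring

theorem nd_QO (m : ℕ) : ND (QO (F := F) m) := by
  classical
  intro w hw0 hw
  have h1 : ∀ i, w (Sum.inr (Sum.inl i)) = 0 := by
    intro i
    have h := hw (Pi.single (Sum.inr (Sum.inr i)) 1)
    rw [polar_QO] at h
    simpa [Pi.single_apply] using h
  have h2 : ∀ i, w (Sum.inr (Sum.inr i)) = 0 := by
    intro i
    have h := hw (Pi.single (Sum.inr (Sum.inl i)) 1)
    rw [polar_QO] at h
    simpa [Pi.single_apply] using h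
  rw [QO_apply, Cfsg.quadFormOdd] at hw0
  simp only [h1, h2, mul_zero, Finset.sum_const_zero, add_zero] at hw0
  have h3 : w (Sum.inl ()) = 0 := by simpa using hw0
  funext j
  rcases j with j | i | i
  · exact h3
  · exact h1 i
  · exact h2 i

end Forms

section Equivs

/-- adding a hyperbolic plane to the plus form -/
def ePlus (m : ℕ) : (Fin m ⊕ Fin m) ⊕ Fin 2 ≃ Fin (m + 1) ⊕ Fin (m + 1) where
  toFun := Sum.elim (Sum.elim (fun i => Sum.inl i.castSucc) (fun i => Sum.inr i.castSucc))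
    ![Sum.inl (Fin.last m), Sum.inr (Fin.last m)]
  invFun := Sum.elim (Fin.lastCases (Sum.inr 0) (fun i => Sum.inl (Sum.inl i)))
    (Fin.lastCases (Sum.inr 1) (fun i => Sum.inl (Sum.inr i)))
  left_inv := by
    rintro ((i | i) | j)
    · simp
    · simp
    · fin_cases j <;> simp
  right_inv := by
    rintro (j | j)
    · induction j using Fin.lastCases <;> simp
    · induction j using Fin.lastCases <;> simp

@[simp] theorem ePlus_symm_inl_castSucc (m : ℕ) (i : Fin m) :
    (ePlus m).symm (Sum.inl i.castSucc) = Sum.inl (Sum.inl i) := by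
  simp [ePlus]

@[simp] theorem ePlus_symm_inr_castSucc (m : ℕ) (i : Fin m) :
    (ePlus m).symm (Sum.inr i.castSucc) = Sum.inl (Sum.inr i) := by
  simp [ePlus]

@[simp] theorem ePlus_symm_inl_last (m : ℕ) :
    (ePlus m).symm (Sum.inl (Fin.last m)) = Sum.inr 0 := by
  simp [ePlus]

@[simp] theorem ePlus_symm_inr_last (m : ℕ) :
    (ePlus m).symm (Sum.inr (Fin.last m)) = Sum.inr 1 := by
  simp [ePlus]

/-- adding a hyperbolic plane to the minus form -/
def eMinus (k : ℕ) : ((Fin k ⊕ Fin k) ⊕ Fin 2) ⊕ Fin 2 ≃ (Fin (k + 1) ⊕ Fin (k + 1)) ⊕ Fin 2 where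
  toFun := Sum.elim (Sum.elim (Sum.elim (fun i => Sum.inl (Sum.inl i.castSucc))
      (fun i => Sum.inl (Sum.inr i.castSucc))) (fun j => Sum.inr j))
    ![Sum.inl (Sum.inl (Fin.last k)), Sum.inl (Sum.inr (Fin.last k))]
  invFun := Sum.elim (Sum.elim (Fin.lastCases (Sum.inr 0) (fun i => Sum.inl (Sum.inl (Sum.inl i))))
      (Fin.lastCases (Sum.inr 1) (fun i => Sum.inl (Sum.inl (Sum.inr i)))))
    (fun j => Sum.inl (Sum.inr j))
  left_inv := by
    rintro (((i | i) | j) | j)
    · simp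
    · simp
    · simp
    · fin_cases j <;> simp
  right_inv := by
    rintro ((j | j) | j)
    · induction j using Fin.lastCases <;> simp
    · induction j using Fin.lastCases <;> simp
    · simp

@[simp] theorem eMinus_symm_inl_castSucc (k : ℕ) (i : Fin k) :
    (eMinus k).symm (Sum.inl (Sum.inl i.castSucc)) = Sum.inl (Sum.inl (Sum.inl i)) := by
  simp [eMinus]

@[simp] theorem eMinus_symm_inr_castSucc (k : ℕ) (i : Fin k) :
    (eMinus k).symm (Sum.inl (Sum.inr i.castSucc)) = Sum.inl (Sum.inl (Sum.inr i)) := by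
  simp [eMinus]

@[simp] theorem eMinus_symm_inl_last (k : ℕ) :
    (eMinus k).symm (Sum.inl (Sum.inl (Fin.last k))) = Sum.inr 0 := by
  simp [eMinus]

@[simp] theorem eMinus_symm_inr_last (k : ℕ) :
    (eMinus k).symm (Sum.inl (Sum.inr (Fin.last k))) = Sum.inr 1 := by
  simp [eMinus]

@[simp] theorem eMinus_symm_inr (k : ℕ) (j : Fin 2) :
    (eMinus k).symm (Sum.inr j) = Sum.inl (Sum.inr j) := by
  simp [eMinus]

/-- adding a hyperbolic plane to the odd form -/
def eOdd (m : ℕ) : (Unit ⊕ (Fin m ⊕ Fin m)) ⊕ Fin 2 ≃ Unit ⊕ (Fin (m + 1) ⊕ Fin (m + 1)) where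
  toFun := Sum.elim (Sum.elim (fun u => Sum.inl u) (Sum.elim (fun i => Sum.inr (Sum.inl i.castSucc))
      (fun i => Sum.inr (Sum.inr i.castSucc))))
    ![Sum.inr (Sum.inl (Fin.last m)), Sum.inr (Sum.inr (Fin.last m))]
  invFun := Sum.elim (fun u => Sum.inl (Sum.inl u))
    (Sum.elim (Fin.lastCases (Sum.inr 0) (fun i => Sum.inl (Sum.inr (Sum.inl i))))
      (Fin.lastCases (Sum.inr 1) (fun i => Sum.inl (Sum.inr (Sum.inr i)))))
  left_inv := by
    rintro ((u | i | i) | j)
    · simp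
    · simp
    · simp
    · fin_cases j <;> simp
  right_inv := by
    rintro (u | j | j)
    · simp
    · induction j using Fin.lastCases <;> simp
    · induction j using Fin.lastCases <;> simp

@[simp] theorem eOdd_symm_inl (m : ℕ) (u : Unit) :
    (eOdd m).symm (Sum.inl u) = Sum.inl (Sum.inl u) := by
  simp [eOdd]

@[simp] theorem eOdd_symm_inl_castSucc (m : ℕ) (i : Fin m) :
    (eOdd m).symm (Sum.inr (Sum.inl i.castSucc)) = Sum.inl (Sum.inr (Sum.inl i)) := by
  simp [eOdd]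

@[simp] theorem eOdd_symm_inr_castSucc (m : ℕ) (i : Fin m) :
    (eOdd m).symm (Sum.inr (Sum.inr i.castSucc)) = Sum.inl (Sum.inr (Sum.inr i)) := by
  simp [eOdd]

@[simp] theorem eOdd_symm_inl_last (m : ℕ) :
    (eOdd m).symm (Sum.inr (Sum.inl (Fin.last m))) = Sum.inr 0 := by
  simp [eOdd]

@[simp] theorem eOdd_symm_inr_last (m : ℕ) :
    (eOdd m).symm (Sum.inr (Sum.inr (Fin.last m))) = Sum.inr 1 := by
  simp [eOdd]

end Equivs

section Steps

variable {F : Type*} [Field F] [Fintype F]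

theorem plus_step (m : ℕ) :
    Nat.card ↥(Cfsg.isometryGroup F (Cfsg.quadFormPlus (m + 1) F)) =
      (Nat.card {v : Fin (m + 1) ⊕ Fin (m + 1) → F // Cfsg.quadFormPlus (m + 1) F v = 0} - 1) *
        (Fintype.card F ^ (m + m) * Nat.card ↥(Cfsg.isometryGroup F (Cfsg.quadFormPlus m F))) := by
  have h := card_step_concrete (ePlus m) (QP (F := F) m) (nd_QP m) (Cfsg.quadFormPlus (m + 1) F)
    (by
      intro v
      rw [QP_apply]
      simp [Cfsg.quadFormPlus, Fin.sum_univ_castSucc])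
  rw [QP_coe] at h
  simpa using h

theorem minus_step (k : ℕ) (a b : F)
    (hab : ∀ z₁ z₂ : F, z₁ ^ 2 + a * z₁ * z₂ + b * z₂ ^ 2 = 0 → z₁ = 0 ∧ z₂ = 0) :
    Nat.card ↥(Cfsg.isometryGroup F (Cfsg.quadFormMinus (k + 1) F a b)) =
      (Nat.card {v : (Fin (k + 1) ⊕ Fin (k + 1)) ⊕ Fin 2 → F //
          Cfsg.quadFormMinus (k + 1) F a b v = 0} - 1) *
        (Fintype.card F ^ (k + k + 2) *
          Nat.card ↥(Cfsg.isometryGroup F (Cfsg.quadFormMinus k F a b))) := by
  have h := card_step_concrete (eMinus k) (QM k a b) (nd_QM k a b hab)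
    (Cfsg.quadFormMinus (k + 1) F a b)
    (by
      intro v
      rw [QM_apply]
      simp [Cfsg.quadFormMinus, Fin.sum_univ_castSucc]
      ring)
  rw [QM_coe] at h
  simpa using h

theorem odd_step (m : ℕ) :
    Nat.card ↥(Cfsg.isometryGroup F (Cfsg.quadFormOdd (m + 1) F)) =
      (Nat.card {v : Unit ⊕ (Fin (m + 1) ⊕ Fin (m + 1)) → F //
          Cfsg.quadFormOdd (m + 1) F v = 0} - 1) *
        (Fintype.card F ^ (1 + (m + m)) *
          Nat.card ↥(Cfsg.isometryGroup F (Cfsg.quadFormOdd m F))) := by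
  have h := card_step_concrete (eOdd m) (QO (F := F) m) (nd_QO m)
    (Cfsg.quadFormOdd (m + 1) F)
    (by
      intro v
      rw [QO_apply]
      simp [Cfsg.quadFormOdd, Fin.sum_univ_castSucc]
      ring)
  rw [QO_coe] at h
  simpa using h

end Steps


section Base

variable {F : Type*} [Field F]

theorem plus_zero : Nat.card ↥(Cfsg.isometryGroup F (Cfsg.quadFormPlus 0 F)) = 1 := by
  have : Subsingleton (GL (Fin 0 ⊕ Fin 0) F) := inferInstance
  have : Subsingleton ↥(Cfsg.isometryGroup F (Cfsg.quadFormPlus 0 F)) := inferInstance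
  exact Nat.card_unique

/-- the isometry group of `x²` on a line -/
theorem card_line (h2 : (2 : F) ≠ 0) :
    Nat.card ↥(Cfsg.isometryGroup F (fun v : Unit → F => v () ^ 2)) = 2 := by
  rw [Nat.card_eq_two_iff]
  have hmem : ∀ g : GL Unit F, g ∈ Cfsg.isometryGroup F (fun v : Unit → F => v () ^ 2) ↔
      (g : Matrix Unit Unit F) () () ^ 2 = 1 := by
    intro g
    constructor
    · intro h
      have h1 : (((g : Matrix Unit Unit F) *ᵥ (fun _ => (1 : F))) ()) ^ 2 = (1 : F) ^ 2 :=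
        h (fun _ => 1) (fun _ => 1)
      simpa [Matrix.mulVec, dotProduct] using h1
    · intro h u v
      show (((g : Matrix Unit Unit F) *ᵥ u) ()) ^ 2 = u () ^ 2
      simp only [Matrix.mulVec, dotProduct, Finset.univ_unique, PUnit.default_eq_unit,
        Finset.sum_singleton, mul_pow, h, one_mul]
  have h1 : (1 : GL Unit F) ∈ Cfsg.isometryGroup F (fun v : Unit → F => v () ^ 2) :=
    Subgroup.one_mem _
  have h2' : (-1 : GL Unit F) ∈ Cfsg.isometryGroup F (fun v : Unit → F => v () ^ 2) := by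
    rw [hmem]
    simp
  refine ⟨⟨1, h1⟩, ⟨-1, h2'⟩, ?_, ?_⟩
  · intro h
    have h3 : (1 : GL Unit F) = -1 := congrArg Subtype.val h
    have h4 : ((1 : GL Unit F) : Matrix Unit Unit F) () () = ((-1 : GL Unit F) : Matrix Unit Unit F) () () := by
      rw [← h3]
    simp at h4
    apply h2
    linear_combination h4
  · apply Set.eq_univ_of_forall
    rintro ⟨g, hg⟩
    have h3 := (hmem g).1 hg
    have h4 : ((g : Matrix Unit Unit F) () () - 1) * ((g : Matrix Unit Unit F) () () + 1) = 0 := by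
      linear_combination h3
    rcases mul_eq_zero.1 h4 with h5 | h5
    · left
      apply Subtype.ext
      apply Units.ext
      ext i j
      simp only [Units.val_one, Matrix.one_apply_eq]
      linear_combination h5
    · right
      apply Subtype.ext
      apply Units.ext
      ext i j
      simp only [Units.val_neg, Units.val_one, Matrix.neg_apply, Matrix.one_apply_eq]
      linear_combination h5

theorem two_ne_zero_of_odd [Fintype F] (hodd : Odd (Fintype.card F)) : (2 : F) ≠ 0 := by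
  intro h
  have : CharP F 2 := CharTwo.of_one_ne_zero_of_two_eq_zero one_ne_zero h
  have h1 : ringChar F = 2 := ringChar.eq F 2
  have h2 := FiniteField.even_card_iff_char_two.1 h1
  rw [Nat.odd_iff] at hodd
  omega

theorem odd_zero [Fintype F] (hodd : Odd (Fintype.card F)) :
    Nat.card ↥(Cfsg.isometryGroup F (Cfsg.quadFormOdd 0 F)) = 2 := by
  have h := card_iso_reindex (F := F) (Equiv.sumEmpty Unit (Fin 0 ⊕ Fin 0)).symm
    (Cfsg.quadFormOdd 0 F)
  rw [← h, ← card_line (two_ne_zero_of_odd hodd)]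
  have hfun : (fun v : Unit → F =>
      Cfsg.quadFormOdd 0 F (v ∘ ⇑(Equiv.sumEmpty Unit (Fin 0 ⊕ Fin 0)).symm.symm)) =
      fun v : Unit → F => v () ^ 2 := by
    funext v
    simp [Cfsg.quadFormOdd]
  rw [hfun]

end Base


section MinusBase

variable {F : Type*} [Field F]

/-- the binary form as a `QuadraticForm` on `F²` -/
noncomputable def QN (a b : F) : QuadraticForm F (Fin 2 → F) :=
  QuadraticMap.proj 0 0 + a • QuadraticMap.proj 0 1 + b • QuadraticMap.proj 1 1

theorem QN_apply (a b : F) (v : Fin 2 → F) :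
    QN a b v = v 0 ^ 2 + a * v 0 * v 1 + b * v 1 ^ 2 := by
  simp [QN]
  ring

theorem nd_QN (a b : F)
    (hab : ∀ z₁ z₂ : F, z₁ ^ 2 + a * z₁ * z₂ + b * z₂ ^ 2 = 0 → z₁ = 0 ∧ z₂ = 0) :
    ND (QN a b) := by
  intro w hw _
  rw [QN_apply] at hw
  obtain ⟨h0, h1⟩ := hab _ _ hw
  funext j
  fin_cases j
  · exact h0
  · exact h1

theorem refl_map {V : Type*} [AddCommGroup V] [Module F V] (Q : QuadraticForm F V) (x y : V)
    (hxy : Q x = Q y) (hne : Q (x - y) ≠ 0) : refl Q (x - y) x = y := by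
  rw [refl_apply]
  have h1 : QuadraticMap.polar Q (x - y) x = Q (x - y) := by
    rw [QuadraticMap.polar_sub_left, QuadraticMap.polar_self, Q_sub, ← hxy,
      QuadraticMap.polar_comm Q y x]
    simp [two_mul]
  rw [h1, inv_mul_cancel₀ hne, one_smul]
  abel

theorem card_orbit {J : Type} [Fintype J] [DecidableEq J] (Q : QuadraticForm F (J → F))
    (e : J → F) (P : (J → F) → Prop)
    (hP : ∀ g : ↥(Cfsg.isometryGroup F (⇑Q)), P (((g : GL J F) : Matrix J J F) *ᵥ e))
    (htrans : ∀ v, P v →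
      ∃ g : ↥(Cfsg.isometryGroup F (⇑Q)), ((g : GL J F) : Matrix J J F) *ᵥ e = v) :
    Nat.card ↥(Cfsg.isometryGroup F (⇑Q)) =
      Nat.card {v : J → F // P v} *
        Nat.card {h : ↥(Cfsg.isometryGroup F (⇑Q)) // ((h : GL J F) : Matrix J J F) *ᵥ e = e} := by
  let φ : ↥(Cfsg.isometryGroup F (⇑Q)) → {v : J → F // P v} := fun g =>
    ⟨((g : GL J F) : Matrix J J F) *ᵥ e, hP g⟩
  let act : {h : ↥(Cfsg.isometryGroup F (⇑Q)) // ((h : GL J F) : Matrix J J F) *ᵥ e = e} →
      ↥(Cfsg.isometryGroup F (⇑Q)) → ↥(Cfsg.isometryGroup F (⇑Q)) := fun h g => g * h.1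
  apply Cfsg.Agent.S2669.card_eq_mul φ act
  · rintro ⟨v, hv⟩
    obtain ⟨g, hg⟩ := htrans v hv
    exact ⟨g, Subtype.ext hg⟩
  · intro h g
    apply Subtype.ext
    show ((g * h.1 : ↥(Cfsg.isometryGroup F (⇑Q))) : GL J F).1 *ᵥ e =
      ((g : GL J F) : Matrix J J F) *ᵥ e
    rw [Subgroup.coe_mul, Units.val_mul, ← Matrix.mulVec_mulVec, h.2]
  · intro g g₂ hgg
    have h1 : ((g : GL J F) : Matrix J J F) *ᵥ e = ((g₂ : GL J F) : Matrix J J F) *ᵥ e :=
      congrArg Subtype.val hgg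
    have h2 : (((g⁻¹ * g₂ : ↥(Cfsg.isometryGroup F (⇑Q))) : GL J F) : Matrix J J F) *ᵥ e = e := by
      rw [Subgroup.coe_mul, Units.val_mul, ← Matrix.mulVec_mulVec, ← h1, Matrix.mulVec_mulVec,
        ← Units.val_mul, ← Subgroup.coe_mul, inv_mul_cancel]
      simp
    refine ⟨⟨g⁻¹ * g₂, h2⟩, ?_, ?_⟩
    · show g * (g⁻¹ * g₂) = g₂
      rw [mul_inv_cancel_left]
    · intro h' hh'
      have h3 : g * h'.1 = g₂ := hh'
      apply Subtype.ext
      show h'.1 = g⁻¹ * g₂
      rw [← h3, inv_mul_cancel_left]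

theorem char_cond [Fintype F] (a b : F)
    (hab : ∀ z₁ z₂ : F, z₁ ^ 2 + a * z₁ * z₂ + b * z₂ ^ 2 = 0 → z₁ = 0 ∧ z₂ = 0) :
    ¬ (a = 0 ∧ (2 : F) = 0) := by
  rintro ⟨ha, h2⟩
  have : CharP F 2 := CharTwo.of_one_ne_zero_of_two_eq_zero one_ne_zero h2
  have h1 : ringChar F = 2 := ringChar.eq F 2
  obtain ⟨s, hs⟩ := FiniteField.isSquare_of_char_two h1 b
  have h3 := (hab s 1 (by rw [ha, hs]; linear_combination (s * s) * h2)).2
  exact one_ne_zero h3

theorem stab_cases [Fintype F] (a b c d : F)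
    (hab : ∀ z₁ z₂ : F, z₁ ^ 2 + a * z₁ * z₂ + b * z₂ ^ 2 = 0 → z₁ = 0 ∧ z₂ = 0)
    (E1 : c ^ 2 + a * c * d + b * d ^ 2 = b) (E2 : 2 * c + a * d = a) :
    (c = 0 ∧ d = 1) ∨ (c = a ∧ d = -1) := by
  by_cases h2 : (2 : F) = 0
  · have ha : a ≠ 0 := fun ha => char_cond a b hab ⟨ha, h2⟩
    have hd : d = 1 := by
      have : a * (d - 1) = 0 := by linear_combination E2 - c * h2
      rcases mul_eq_zero.1 this with h | h
      · exact absurd h ha
      · linear_combination h
    subst hd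
    have hc : c * (c + a) = 0 := by linear_combination E1
    rcases mul_eq_zero.1 hc with h | h
    · exact Or.inl ⟨h, rfl⟩
    · refine Or.inr ⟨?_, ?_⟩
      · linear_combination h - a * h2
      · linear_combination h2
  · have hdisc : a ^ 2 - 4 * b ≠ 0 := by
      intro h
      have := (hab (-a) 2 (by linear_combination -h)).2
      exact h2 this
    have h3 : (1 - d) * (1 + d) * (a ^ 2 - 4 * b) = 0 := by
      linear_combination (4 : F) * E1 - (2 * c + a * d + a) * E2
    have h4 : (1 - d) * (1 + d) = 0 := by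
      rcases mul_eq_zero.1 h3 with h | h
      · exact h
      · exact absurd h hdisc
    rcases mul_eq_zero.1 h4 with h | h
    · have hd : d = 1 := by linear_combination -h
      subst hd
      refine Or.inl ⟨?_, rfl⟩
      have : 2 * c = 0 := by linear_combination E2
      rcases mul_eq_zero.1 this with h' | h'
      · exact absurd h' h2
      · exact h'
    · have hd : d = -1 := by linear_combination h
      subst hd
      refine Or.inr ⟨?_, rfl⟩
      have : 2 * (c - a) = 0 := by linear_combination E2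
      rcases mul_eq_zero.1 this with h' | h'
      · exact absurd h' h2
      · linear_combination h'

theorem card_stab [Fintype F] (a b : F)
    (hab : ∀ z₁ z₂ : F, z₁ ^ 2 + a * z₁ * z₂ + b * z₂ ^ 2 = 0 → z₁ = 0 ∧ z₂ = 0) :
    Nat.card {h : ↥(Cfsg.isometryGroup F (⇑(QN a b))) //
      ((h : GL (Fin 2) F) : Matrix (Fin 2) (Fin 2) F) *ᵥ ![1, 0] = ![1, 0]} = 2 := by
  have hND := nd_QN a b hab
  have hR : ∀ v, QN a b (!![1, a; 0, -1] *ᵥ v) = QN a b v := by
    intro v
    rw [QN_apply, QN_apply]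
    simp [Matrix.mulVec, dotProduct, Fin.sum_univ_two]
    ring
  have hRe : (((mkO (QN a b) hND !![1, a; 0, -1] hR : ↥(Cfsg.isometryGroup F (⇑(QN a b)))) :
      GL (Fin 2) F) : Matrix (Fin 2) (Fin 2) F) *ᵥ ![1, 0] = ![1, 0] := by
    rw [mkO_coe]
    funext j
    fin_cases j <;> simp [Matrix.mulVec, dotProduct, Fin.sum_univ_two]
  have h1e : (((1 : ↥(Cfsg.isometryGroup F (⇑(QN a b)))) :
      GL (Fin 2) F) : Matrix (Fin 2) (Fin 2) F) *ᵥ ![1, 0] = ![1, 0] := by
    simp
  rw [Nat.card_eq_two_iff]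
  refine ⟨⟨1, h1e⟩, ⟨mkO (QN a b) hND !![1, a; 0, -1] hR, hRe⟩, ?_, ?_⟩
  · intro h
    have h3 : (((1 : ↥(Cfsg.isometryGroup F (⇑(QN a b)))) :
        GL (Fin 2) F) : Matrix (Fin 2) (Fin 2) F) = !![1, a; 0, -1] := by
      rw [← mkO_coe (QN a b) hND !![1, a; 0, -1] hR]
      exact congrArg (fun x => ((x.1 : GL (Fin 2) F) : Matrix (Fin 2) (Fin 2) F)) h
    have h4 := congrFun (congrFun h3 0) 1
    have h5 := congrFun (congrFun h3 1) 1
    simp at h4 h5
    exact char_cond a b hab ⟨h4.symm, by linear_combination h5⟩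
  · apply Set.eq_univ_of_forall
    rintro ⟨h, hh⟩
    have hM := iso_apply (QN a b) h
    set M : Matrix (Fin 2) (Fin 2) F := ((h : GL (Fin 2) F) : Matrix (Fin 2) (Fin 2) F) with hMdef
    have h00 : M 0 0 = 1 := by
      have := congrFun hh 0
      simpa [Matrix.mulVec, dotProduct, Fin.sum_univ_two] using this
    have h10 : M 1 0 = 0 := by
      have := congrFun hh 1
      simpa [Matrix.mulVec, dotProduct, Fin.sum_univ_two] using this
    have E1 : M 0 1 ^ 2 + a * M 0 1 * M 1 1 + b * M 1 1 ^ 2 = b := by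
      have := hM ![0, 1]
      rw [QN_apply, QN_apply] at this
      simpa [Matrix.mulVec, dotProduct, Fin.sum_univ_two] using this
    have E2 : 2 * M 0 1 + a * M 1 1 = a := by
      have := hM ![1, 1]
      rw [QN_apply, QN_apply] at this
      simp [Matrix.mulVec, dotProduct, Fin.sum_univ_two, h00, h10] at this
      linear_combination this - E1
    rcases stab_cases a b _ _ hab E1 E2 with ⟨hc, hd⟩ | ⟨hc, hd⟩
    · left
      apply Subtype.ext
      apply Subtype.ext
      apply Units.ext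
      show M = 1
      ext i j
      fin_cases i <;> fin_cases j <;> simp [h00, h10, hc, hd]
    · right
      apply Subtype.ext
      apply Subtype.ext
      apply Units.ext
      show M = !![1, a; 0, -1]
      ext i j
      fin_cases i <;> fin_cases j <;> simp [h00, h10, hc, hd]

theorem card_norm_one_aux {K : Type*} [Field K] [Fintype K] [Fintype F]
    (hKF : Fintype.card K = Fintype.card F ^ 2) (a b : F)
    (hab : ∀ z₁ z₂ : F, z₁ ^ 2 + a * z₁ * z₂ + b * z₂ ^ 2 = 0 → z₁ = 0 ∧ z₂ = 0) :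
    Nat.card {x : Fin 2 → F // x 0 ^ 2 + a * x 0 * x 1 + b * x 1 ^ 2 = 1} =
      Fintype.card F + 1 := by
  obtain ⟨ι, θ, hθ⟩ := Cfsg.Agent.S2679.exists_root hKF a b hab
  let _ : Algebra F K := ι.toAlgebra
  have h2 : Module.finrank F K = 2 := Cfsg.Agent.Lib.Helper45.GUOrth.finrank_eq_two hKF
  obtain ⟨L, hL⟩ := Cfsg.Agent.S2641.exists_L h2 a b hab θ hθ
  rw [← Cfsg.Agent.Lib.Helper5.HermCount.card_norm_eq hKF (1 : K) one_ne_zero (one_pow _)]
  apply Nat.card_congr
  refine Equiv.subtypeEquiv L.toEquiv ?_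
  intro x
  show _ ↔ L x * L x ^ Fintype.card F = 1
  rw [← hL, ← Cfsg.Agent.Lib.Helper45.GUOrth.fr_apply (F := F),
    ← Cfsg.Agent.Lib.Helper45.GUOrth.algebraMap_norm h2]
  constructor
  · intro h
    rw [h, map_one]
  · intro h
    exact (algebraMap F K).injective (by rw [h, map_one])

theorem card_norm_one [Fintype F] (a b : F)
    (hab : ∀ z₁ z₂ : F, z₁ ^ 2 + a * z₁ * z₂ + b * z₂ ^ 2 = 0 → z₁ = 0 ∧ z₂ = 0) :
    Nat.card {x : Fin 2 → F // x 0 ^ 2 + a * x 0 * x 1 + b * x 1 ^ 2 = 1} =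
      Fintype.card F + 1 := by
  classical
  obtain ⟨p, hp⟩ := CharP.exists F
  have : Fact p.Prime := ⟨CharP.char_is_prime F p⟩
  have : Fintype (FiniteField.Extension F p 2) := Fintype.ofFinite _
  have hcardL : Fintype.card (FiniteField.Extension F p 2) = Fintype.card F ^ 2 := by
    rw [Fintype.card_eq_nat_card, FiniteField.natCard_extension, Nat.card_eq_fintype_card]
  exact card_norm_one_aux hcardL a b hab

theorem card_QN [Fintype F] (a b : F)
    (hab : ∀ z₁ z₂ : F, z₁ ^ 2 + a * z₁ * z₂ + b * z₂ ^ 2 = 0 → z₁ = 0 ∧ z₂ = 0) :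
    Nat.card ↥(Cfsg.isometryGroup F (⇑(QN a b))) = (Fintype.card F + 1) * 2 := by
  have he : QN a b ![1, 0] = 1 := by
    rw [QN_apply]
    simp
  rw [card_orbit (QN a b) ![1, 0] (fun v => QN a b v = 1) ?_ ?_, card_stab a b hab]
  · congr 1
    rw [← card_norm_one a b hab]
    apply Nat.card_congr
    exact Equiv.subtypeEquivRight (fun v => by rw [QN_apply])
  · intro g
    show QN a b _ = 1
    rw [iso_apply, he]
  · intro v hv
    have hv : QN a b v = 1 := hv
    by_cases hve : v = ![1, 0]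
    · exact ⟨1, by simp [hve]⟩
    · have hne : QN a b (![1, 0] - v) ≠ 0 := by
        intro h0
        rw [QN_apply] at h0
        obtain ⟨h3, h4⟩ := hab _ _ h0
        apply hve
        have h3' : (1 : F) - v 0 = 0 := by simpa using h3
        have h4' : (0 : F) - v 1 = 0 := by simpa using h4
        funext j
        fin_cases j
        · show v 0 = 1
          linear_combination -h3'
        · show v 1 = 0
          linear_combination -h4'
      obtain ⟨g, hg⟩ := exists_of_linear (QN a b) (nd_QN a b hab) (refl (QN a b) (![1, 0] - v))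
        (fun x => Q_refl _ _ hne x)
      exact ⟨g, by rw [hg]; exact refl_map _ _ _ (by rw [hv, he]) hne⟩

theorem minus_zero [Fintype F] (a b : F)
    (hab : ∀ z₁ z₂ : F, z₁ ^ 2 + a * z₁ * z₂ + b * z₂ ^ 2 = 0 → z₁ = 0 ∧ z₂ = 0) :
    Nat.card ↥(Cfsg.isometryGroup F (Cfsg.quadFormMinus 0 F a b)) = 2 * (Fintype.card F + 1) := by
  have h := card_iso_reindex (F := F) (Equiv.emptySum (Fin 0 ⊕ Fin 0) (Fin 2)).symm
    (Cfsg.quadFormMinus 0 F a b)
  rw [← h, mul_comm, ← card_QN a b hab]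
  have hfun : (fun v : Fin 2 → F => Cfsg.quadFormMinus 0 F a b
      (v ∘ ⇑(Equiv.emptySum (Fin 0 ⊕ Fin 0) (Fin 2)).symm.symm)) = ⇑(QN a b) := by
    funext v
    rw [QN_apply]
    simp [Cfsg.quadFormMinus]
  rw [hfun]

end MinusBase

section Final

theorem arith_plus (q A : ℕ) (hq : 1 ≤ q) (hA : 1 ≤ A) :
    q * A * A + q * A - A - 1 = (q * A - 1) * (A + 1) := by
  obtain ⟨B, hB⟩ : ∃ B, q * A = B + 1 := ⟨q * A - 1, by
    have : 1 ≤ q * A := Nat.mul_pos hq hA
    omega⟩
  rw [hB, Nat.add_sub_cancel]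
  apply Nat.sub_eq_of_eq_add
  apply Nat.sub_eq_of_eq_add
  ring

theorem arith_minus (q A : ℕ) (hA : 1 ≤ A) :
    q * A * A + A - q * A - 1 = (q * A + 1) * (A - 1) := by
  obtain ⟨B, rfl⟩ : ∃ B, A = B + 1 := ⟨A - 1, by omega⟩
  rw [Nat.add_sub_cancel]
  apply Nat.sub_eq_of_eq_add
  apply Nat.sub_eq_of_eq_add
  ring

theorem arith_sq (A : ℕ) (hA : 1 ≤ A) : A * A - 1 = (A + 1) * (A - 1) := by
  obtain ⟨B, rfl⟩ : ∃ B, A = B + 1 := ⟨A - 1, by omega⟩
  rw [Nat.add_sub_cancel]
  apply Nat.sub_eq_of_eq_add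
  ring


variable {F : Type*} [Field F] [Fintype F]

/-- `|O⁺_{2(k+1)}(q)|` -/
theorem card_plus {q : ℕ} (hF : Fintype.card F = q) (k : ℕ) :
    Nat.card ↥(Cfsg.isometryGroup F (Cfsg.quadFormPlus (k + 1) F)) =
      2 * q ^ ((k + 1) * k) * (q ^ (k + 1) - 1) *
        ∏ i ∈ Finset.range k, (q ^ (2 * (i + 1)) - 1) := by
  have hq : 1 ≤ q := by
    rw [← hF]
    exact Fintype.card_pos
  induction k with
  | zero =>
    rw [plus_step 0, plus_zero, Cfsg.Agent.S0289.result hF 1 le_rfl, hF]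
    simp
    omega
  | succ k ih =>
    rw [plus_step (k + 1), ih, Cfsg.Agent.S0289.result hF (k + 2) (by omega), hF,
      Finset.prod_range_succ]
    have hA : 1 ≤ q ^ (k + 1) := Nat.one_le_pow _ _ hq
    have e1 : q ^ (2 * (k + 2) - 1) = q * q ^ (k + 1) * q ^ (k + 1) := by
      rw [show 2 * (k + 2) - 1 = 1 + (k + 1) + (k + 1) by omega, pow_add, pow_add, pow_one]
    have e2 : q ^ (k + 2) = q * q ^ (k + 1) := by
      rw [show k + 2 = 1 + (k + 1) by omega, pow_add, pow_one]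
    have e3 : q ^ (k + 2 - 1) = q ^ (k + 1) := rfl
    have e4 : q ^ (2 * (k + 1)) = q ^ (k + 1) * q ^ (k + 1) := by
      rw [two_mul, pow_add]
    have e5 : q ^ ((k + 1 + 1) * (k + 1)) = q ^ (k + 1) * q ^ (k + 1) * q ^ ((k + 1) * k) := by
      rw [← pow_add, ← pow_add]
      congr 1
      ring
    have e6 : q ^ (k + 1 + (k + 1)) = q ^ (k + 1) * q ^ (k + 1) := by
      rw [pow_add]
    rw [e1, e2, e3, e4, e5, e6, arith_plus q _ hq hA, arith_sq _ hA]
    ring

/-- `|O⁻_{2(k+1)}(q)|` -/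
theorem card_minus {q : ℕ} (hF : Fintype.card F = q) (a b : F)
    (hab : ∀ z₁ z₂ : F, z₁ ^ 2 + a * z₁ * z₂ + b * z₂ ^ 2 = 0 → z₁ = 0 ∧ z₂ = 0) (k : ℕ) :
    Nat.card ↥(Cfsg.isometryGroup F (Cfsg.quadFormMinus k F a b)) =
      2 * q ^ ((k + 1) * k) * (q ^ (k + 1) + 1) *
        ∏ i ∈ Finset.range k, (q ^ (2 * (i + 1)) - 1) := by
  have hq : 1 ≤ q := by
    rw [← hF]
    exact Fintype.card_pos
  induction k with
  | zero =>
    rw [minus_zero a b hab, hF]
    simp
  | succ k ih =>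
    have hZ := Cfsg.Agent.S0290.result hF (k + 2) (by omega) a b hab
    change Nat.card {v : (Fin (k + 1) ⊕ Fin (k + 1)) ⊕ Fin 2 → F //
      Cfsg.quadFormMinus (k + 1) F a b v = 0} = _ at hZ
    rw [minus_step k a b hab, ih, hZ, hF, Finset.prod_range_succ]
    have hA : 1 ≤ q ^ (k + 1) := Nat.one_le_pow _ _ hq
    have e1 : q ^ (2 * (k + 2) - 1) = q * q ^ (k + 1) * q ^ (k + 1) := by
      rw [show 2 * (k + 2) - 1 = 1 + (k + 1) + (k + 1) by omega, pow_add, pow_add, pow_one]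
    have e2 : q ^ (k + 2) = q * q ^ (k + 1) := by
      rw [show k + 2 = 1 + (k + 1) by omega, pow_add, pow_one]
    have e3 : q ^ (k + 2 - 1) = q ^ (k + 1) := rfl
    have e4 : q ^ (2 * (k + 1)) = q ^ (k + 1) * q ^ (k + 1) := by
      rw [two_mul, pow_add]
    have e5 : q ^ ((k + 1 + 1) * (k + 1)) = q ^ (k + 1) * q ^ (k + 1) * q ^ ((k + 1) * k) := by
      rw [← pow_add, ← pow_add]
      congr 1
      ring
    have e6 : q ^ (k + k + 2) = q ^ (k + 1) * q ^ (k + 1) := by
      rw [← pow_add]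
      congr 1
      ring
    rw [e1, e2, e3, e4, e5, e6, arith_minus q _ hA, arith_sq _ hA]
    ring

/-- `|O_{2m+1}(q)|`, `q` odd -/
theorem card_odd {q : ℕ} (hF : Fintype.card F = q) (hodd : Odd q) (m : ℕ) :
    Nat.card ↥(Cfsg.isometryGroup F (Cfsg.quadFormOdd m F)) =
      2 * q ^ (m ^ 2) * ∏ i ∈ Finset.range m, (q ^ (2 * (i + 1)) - 1) := by
  induction m with
  | zero =>
    rw [odd_zero (by rw [hF]; exact hodd)]
    simp
  | succ m ih =>
    rw [odd_step m, ih, Cfsg.Agent.S0291.result hF hodd (m + 1), hF, Finset.prod_range_succ]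
    have e5 : q ^ ((m + 1) ^ 2) = q ^ (1 + (m + m)) * q ^ (m ^ 2) := by
      rw [← pow_add]
      congr 1
      ring
    rw [e5]
    ring

end Final

end Cfsg.Agent.Lib.Helper45.OrthCard
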