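import Mathlib
import Cfsg.Agent.Lib.Helper45.S8Stmt

set_option autoImplicit false

/-! S3589: assembly of the list of realised element orders and of the final statement. -/

namespace Cfsg.Agent.Lib.Helper45.S8Asm

open Cfsg.Agent.Lib.Helper45.EOStmt Cfsg.Agent.Lib.Helper45.S8Stmt

universe u

theorem a_ne_zero {F : Type u} [Field F] [Finite F] [CharP F 2] {a b : F} (h : Aniso a b) :
    a ≠ 0 := by
  rintro rfl
  have hsurj : Function.Surjective (frobenius F 2) :=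
    Finite.surjective_of_injective (frobenius_inj F 2)
  obtain ⟨s, hs⟩ := hsurj b
  rw [frobenius_def] at hs
  have h2 : (2 : F) = 0 := CharTwo.two_eq_zero
  have h0 : s ^ 2 + 0 * s * 1 + b * (1 : F) ^ 2 = 0 := by
    rw [← hs]
    linear_combination (s ^ 2) * h2
  exact one_ne_zero (h s 1 h0).2

theorem list_of (hLin : S8Stmt.LinOrd.{u}) (hPM : BlockPM.{u}) (hPP : BlockPP.{u}) (hMM : BlockMM.{u})
    (hGl : GlEmb.{u}) (hSi : Singer.{u}) (hP2 : P2.{u}) (hP4 : P4.{u}) (hU3P : U3P.{u})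
    (hU3M : U3M.{u}) (hR1 : R1.{u}) (hMB : MBL.{u})
    {F : Type u} [Field F] [Fintype F] [CharP F 2] (a b : F) (hab : Aniso a b) :
    ∀ N ∈ LL (Fintype.card F), HasOrd (Cfsg.quadFormMinus 3 F a b) N := by
  have ha : a ≠ 0 := a_ne_zero hab
  obtain ⟨q, hq⟩ : ∃ q, q = Fintype.card F := ⟨_, rfl⟩
  rw [← hq]
  have PA : ∀ k, 1 ≤ k → HasOrd (Cfsg.quadFormPlus k F) (q ^ k - 1) := by
    intro k hk
    obtain ⟨A, hA⟩ := hSi F k hk
    rw [hq, ← hA]
    exact hGl F k A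
  have MBn : ∀ n, HasOrd (Cfsg.quadFormMinus n F a b) (q ^ (n + 1) + 1) := by
    intro n
    obtain ⟨X, hX, hord⟩ := hMB F a b hab n
    rw [hq, ← hord]
    exact hLin F _ _ X hX
  have hP2' := hP2 F
  have hP4' := hP4 F
  have hU3P' := hU3P F
  have hU3M' := hU3M F a b ha
  have hR1' := hR1 F a b ha
  have PA1 : HasOrd (Cfsg.quadFormPlus 1 F) (q - 1) := by
    have := PA 1 le_rfl
    rwa [pow_one] at this
  have MB0 : HasOrd (Cfsg.quadFormMinus 0 F a b) (q + 1) := by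
    have := MBn 0
    rwa [zero_add, pow_one] at this
  intro N hN
  simp only [LL, List.mem_cons, List.not_mem_nil, or_false] at hN
  rcases hN with rfl | rfl | rfl | rfl | rfl | rfl | rfl | rfl | rfl | rfl | rfl | rfl
  · exact MBn 3
  · exact hPM F 2 1 a b _ _ (PA 2 (by norm_num)) (MBn 1)
  · exact hPM F 3 0 a b _ _ (PA 3 (by norm_num)) MB0
  · exact hPM F 1 2 a b _ _ PA1 (MBn 2)
  · exact hPM F 3 0 a b _ _ (PA 3 (by norm_num)) hR1'
  · exact hPM F 1 2 a b _ _ hP2' (MBn 2)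
  · exact hPM F 2 1 a b _ _ (hPP F 1 1 _ _ PA1 hP2') (MBn 1)
  · exact hPM F 2 1 a b _ _ (hMM F a b ha _ _ MB0 hR1') (MBn 1)
  · exact hPM F 3 0 a b _ _ (hPP F 1 2 _ _ PA1 hP4') MB0
  · exact hPM F 2 1 a b _ _ hP4' (MBn 1)
  · exact hPM F 1 2 a b _ _ PA1 hU3M'
  · exact hPM F 3 0 a b _ _ hU3P' MB0

theorem final_of (hAr : Arith) (hUp : Upper.{u}) (hEm : Embed.{u}) (hPs : PspOrd.{u})
    {F : Type u} [Field F] [Fintype F] [CharP F 2] (a b : F) (han : Aniso a b)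
    (hList : ∀ N ∈ LL (Fintype.card F), HasOrd (Cfsg.quadFormMinus 3 F a b) N) :
    Set.range (orderOf : Cfsg.PSp 4 F → ℕ) =
      Set.range (orderOf : ↥(Cfsg.isometryGroup F (Cfsg.quadFormMinus 3 F a b)) → ℕ) := by
  have ha := a_ne_zero han
  obtain ⟨f, -, hq⟩ := FiniteField.card F 2
  apply Set.eq_of_subset_of_subset
  · rintro _ ⟨x, rfl⟩
    obtain ⟨A, rfl⟩ := QuotientGroup.mk_surjective x
    rw [hPs F A]
    obtain ⟨DA, DB, c, hDA, hDB, hsum, hc, hdvd⟩ := hUp F A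
    obtain ⟨N, hN, hKN⟩ := hAr (Fintype.card F) f f.pos hq DA DB c hDA hDB hsum hc
    obtain ⟨g, hg⟩ := hList N hN
    have hd : orderOf A ∣ orderOf g := by
      rw [hg]
      exact dvd_trans hdvd hKN
    have hgpos : 0 < orderOf g := orderOf_pos g
    have hApos : 0 < orderOf A := orderOf_pos A
    refine ⟨g ^ (orderOf g / orderOf A), ?_⟩
    have hne : orderOf g / orderOf A ≠ 0 := by
      have := Nat.div_pos (Nat.le_of_dvd hgpos hd) hApos
      omega
    rw [orderOf_pow_of_dvd hne (Nat.div_dvd_of_dvd hd)]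
    exact Nat.div_div_self hd hgpos.ne'
  · rintro _ ⟨h, rfl⟩
    obtain ⟨φ, hφ⟩ := hEm F a b ha
    refine ⟨QuotientGroup.mk (φ h), ?_⟩
    rw [hPs F (φ h), orderOf_injective φ hφ h]

end Cfsg.Agent.Lib.Helper45.S8Asm
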