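import Mathlib
import Cfsg.Agent.Lib.Helper45.S8Stmt

set_option autoImplicit false

/-! S3589, piece [UPPER]. -/

namespace Cfsg.Agent.Lib.Helper45.S8UPPER

open Cfsg.Agent.Lib.Helper45.EOStmt Cfsg.Agent.Lib.Helper45.S8Stmt

universe u

theorem sum_zero_empty (D : Finset ℕ) (hD : ∀ a ∈ D, 1 ≤ a) (h : D.sum id = 0) : D = ∅ := by
  by_contra hne
  obtain ⟨a, ha⟩ := Finset.nonempty_iff_ne_empty.mpr hne
  have h1 := hD a ha
  have h2 : id a ≤ D.sum id := Finset.single_le_sum (f := id) (fun _ _ => Nat.zero_le _) ha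
  rw [h] at h2
  have h3 : id a = a := rfl
  omega

theorem main : Dvd.{u} → RcMin.{u} → Upper.{u} := by
  intro hD hRc F _ _ _ A
  have : Fact (Nat.Prime 2) := ⟨Nat.prime_two⟩
  have hs : (A : Matrix (Fin 4 ⊕ Fin 4) (Fin 4 ⊕ Fin 4) F).transpose * Matrix.J (Fin 4) F *
      (A : Matrix (Fin 4 ⊕ Fin 4) (Fin 4 ⊕ Fin 4) F) = Matrix.J (Fin 4) F :=
    SymplecticGroup.mem_iff'.mp A.2
  have hJ : IsUnit (Matrix.J (Fin 4) F).det := Matrix.isUnit_det_J (Fin 4) F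
  obtain ⟨hμ0, hrc, hc0, hdeg⟩ := hRc F (Fin 4 ⊕ Fin 4) (Matrix.J (Fin 4) F)
    (A : Matrix (Fin 4 ⊕ Fin 4) (Fin 4 ⊕ Fin 4) F) hJ hs
  have hcard : Fintype.card (Fin 4 ⊕ Fin 4) = 8 := by simp
  rw [hcard] at hdeg
  obtain ⟨DA, DB, ep, em, E, d, hDA, hDB, hd, hbud, hE, hem, hdvd, -⟩ :=
    hD F 2 (minpoly F (A : Matrix (Fin 4 ⊕ Fin 4) (Fin 4 ⊕ Fin 4) F)) hμ0 hrc hc0
  have hem0 : em = 0 := hem rfl
  subst hem0
  have hpow : (A : Matrix (Fin 4 ⊕ Fin 4) (Fin 4 ⊕ Fin 4) F) ^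
      KK (Fintype.card F) 2 DA DB ep 0 E = 1 := by
    obtain ⟨h, hh⟩ := hdvd
    have h1 := congrArg (Polynomial.aeval (A : Matrix (Fin 4 ⊕ Fin 4) (Fin 4 ⊕ Fin 4) F)) hh
    rw [map_mul, minpoly.aeval, zero_mul] at h1
    simp only [map_sub, map_pow, Polynomial.aeval_X, map_one] at h1
    exact sub_eq_zero.mp h1
  have hA : A ^ KK (Fintype.card F) 2 DA DB ep 0 E = 1 := by
    apply Subtype.ext
    exact hpow
  have hord : orderOf A ∣ KK (Fintype.card F) 2 DA DB ep 0 E := orderOf_dvd_of_pow_eq_one hA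
  have hKK : KK (Fintype.card F) 2 DA DB ep 0 E =
      Nat.lcm (SA (Fintype.card F) DA) (SB (Fintype.card F) DB) * 2 ^ Nat.clog 2 (max E ep) := by
    unfold KK sgn
    simp
  rw [hKK] at hord
  obtain ⟨S, hS⟩ : ∃ S, S = DA.sum id + DB.sum id := ⟨_, rfl⟩
  obtain ⟨M, hM⟩ : ∃ M, M = max E ep := ⟨_, rfl⟩
  obtain ⟨X, hX⟩ : ∃ X, X = 2 * d * (E - 1) := ⟨_, rfl⟩
  rw [← hS, ← hX] at hbud
  rw [← hM] at hord
  have hS0 : 1 ≤ S ∨ E ≤ 1 := by
    by_cases h0 : S = 0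
    · right
      rw [hS] at h0
      have h1 : DA.sum id = 0 := by omega
      have h2 : DB.sum id = 0 := by omega
      exact hE (sum_zero_empty DA hDA h1) (sum_zero_empty DB hDB h2)
    · left
      omega
  have hX2 : 2 * (E - 1) ≤ X := by
    rw [hX]
    exact Nat.mul_le_mul_right (E - 1) (by omega)
  have hM1 : E ≤ M := by rw [hM]; exact le_max_left _ _
  have hM2 : ep ≤ M := by rw [hM]; exact le_max_right _ _
  have hM3 : M = E ∨ M = ep := by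
    rw [hM]
    rcases max_choice E ep with h | h
    · left; exact h
    · right; exact h
  have hc0' : M ≤ 1 → Nat.clog 2 M ≤ 0 := fun h => Nat.clog_le_of_le_pow (by simpa using h)
  have hc1 : M ≤ 2 → Nat.clog 2 M ≤ 1 := fun h => Nat.clog_le_of_le_pow (by simpa using h)
  have hc2 : M ≤ 4 → Nat.clog 2 M ≤ 2 := fun h => Nat.clog_le_of_le_pow (by norm_num; exact h)
  have hc3 : M ≤ 8 → Nat.clog 2 M ≤ 3 := fun h => Nat.clog_le_of_le_pow (by norm_num; exact h)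
  obtain ⟨c, hc⟩ : ∃ c, c = Nat.clog 2 M := ⟨_, rfl⟩
  rw [← hc] at hc0' hc1 hc2 hc3 hord
  refine ⟨DA, DB, c, hDA, hDB, ?_, ?_, hord⟩
  · rw [← hS]
    omega
  · omega

end Cfsg.Agent.Lib.Helper45.S8UPPER
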