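import Mathlib
import Cfsg.Agent.Lib.Helper45.S8Stmt
import Cfsg.Agent.Lib.Helper45.S8UPPER
import Cfsg.Agent.Lib.Helper20.EOCOMB
import Cfsg.Agent.Lib.Helper66.EOAB
import Cfsg.Agent.Lib.Helper31.EOORDF
import Cfsg.Agent.Lib.Helper31.EOORDSR
import Cfsg.Agent.Lib.Helper97.EOPWR
import Cfsg.Agent.Lib.Helper97.EOPWRNEG
import Cfsg.Agent.Lib.Helper97.EORCMIN

set_option autoImplicit false

/-! S3589: `EOStmt.Dvd` (structure of reciprocal polynomials over finite fields) as a theorem,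
assembled from the landed pieces of the S2264 call, and the upper bound for `Sp_8(q)`. -/

namespace Cfsg.Agent.Lib.Helper45.S8Dvd

universe u

theorem dvd : Cfsg.Agent.Lib.Helper45.EOStmt.Dvd.{u} :=
  Cfsg.Agent.Lib.Helper20.EOCOMB.main
    (Cfsg.Agent.Lib.Helper66.EOAB.main Cfsg.Agent.Lib.Helper31.EOORDF.main
      Cfsg.Agent.Lib.Helper31.EOORDSR.main Cfsg.Agent.Lib.Helper97.EOPWR.main)
    Cfsg.Agent.Lib.Helper97.EOPWR.main Cfsg.Agent.Lib.Helper97.EOPWRNEG.main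

theorem upper : Cfsg.Agent.Lib.Helper45.S8Stmt.Upper.{u} :=
  Cfsg.Agent.Lib.Helper45.S8UPPER.main dvd Cfsg.Agent.Lib.Helper97.EORCMIN.main

end Cfsg.Agent.Lib.Helper45.S8Dvd
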